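import Mathlib
import Cfsg.Agent.Lib.Blocks.FMT
import Cfsg.Agent.Lib.BlockH.Pairs

/-!
# The extended First Main Theorem

For `P` a defect group of `B`, the blocks of `L = P C(P)` inducing `B` are conjugate under `N(P)`.

* `up`: extension by zero `ℂ[L] → ℂ[T]`, for `L ≤ T` in `G`.
* `conjI`: conjugation of irreducible characters by elements normalizing `L`.
* `orbitI`: the orbit of a block.
* `exists_conj_of_induced`: the conjugacy.
-/

set_option linter.unusedSectionVars false
set_option autoImplicit false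
set_option linter.style.haveILetI false

namespace Cfsg.Agent.Lib.Blocks.ExtFMT

open Cfsg MonoidAlgebra
open Cfsg.Agent.Lib.Blocks.Local Cfsg.Agent.Lib.Blocks.Central
open Cfsg.Agent.Lib.Blocks.Weak Cfsg.Agent.Lib.Blocks.Brauer Cfsg.Agent.Lib.Blocks.Induced
open Cfsg.Agent.Lib.Blocks.PPart Cfsg.Agent.Lib.Blocks.Main Cfsg.Agent.Lib.Blocks.Third
open Cfsg.Agent.Lib.Blocks.General Cfsg.Agent.Lib.Blocks.Defect Cfsg.Agent.Lib.Blocks.Defect2
open Cfsg.Agent.Lib.Blocks.Sections Cfsg.Agent.Lib.Blocks.Heights Cfsg.Agent.Lib.Blocks.Inducing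
open Cfsg.Agent.Lib.Blocks.FMT
open Cfsg.Agent.Lib.BlockT.SylowIn Cfsg.Agent.Lib.BlockP.Stable Cfsg.Agent.Lib.BlockP.Defect
open Cfsg.Agent.Lib.BlockH.Pairs
open scoped ComplexConjugate

universe u

section Up

variable {G : Type u} [Group G] [Fintype G] {L : Subgroup G} [Fintype L] (T : Subgroup G) [Fintype T]

/-- Extension by zero. -/
noncomputable def up (x : GA L) : GA T := restr T (incl L x)

theorem coeff_up (x : GA L) (t : T) : (up T x).coeff t = (incl L x).coeff (t : G) := coeff_restr _ _ _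

variable {T}

theorem incl_up (hLT : L ≤ T) (x : GA L) : incl T (up T x) = incl L x := by
  ext g
  by_cases hg : g ∈ T
  · rw [coeff_incl_of_mem T _ hg, coeff_up]
  · rw [coeff_incl_of_notMem T _ hg, coeff_incl_of_notMem L _ (fun h => hg (hLT h))]

theorem up_mul (hLT : L ≤ T) (x y : GA L) : up T (x * y) = up T x * up T y := by
  change restr T (incl L (x * y)) = _
  rw [incl_mul, ← incl_up hLT x, ← incl_up hLT y, ← incl_mul, restr_incl]

theorem up_sub (x y : GA L) : up T (x - y) = up T x - up T y := by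
  change restr T (incl L (x - y)) = _
  rw [incl_sub, restr_sub]
  rfl

theorem up_one : up T (1 : GA L) = 1 := by
  change restr T (incl L 1) = _
  rw [incl_one, restr_one]

theorem up_zero : up T (0 : GA L) = 0 := by
  ext t
  rw [coeff_up]
  by_cases ht : (t : G) ∈ L
  · rw [coeff_incl_of_mem L _ ht]
    rfl
  · rw [coeff_incl_of_notMem L _ ht]
    rfl

theorem up_pow (hLT : L ≤ T) (x : GA L) (n : ℕ) : up T (x ^ n) = up T x ^ n := by
  induction n with
  | zero => simpa using up_one
  | succ n ih => rw [pow_succ, pow_succ, up_mul hLT, ih]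

theorem Jc.up {M : Ideal AlgInt} [M.IsPrime] {x : GA L} (hx : Jc M x) : Jc M (up T x) :=
  Jc.restr _ (Jc.incl _ hx)

theorem Rc.up {M : Ideal AlgInt} [M.IsPrime] {x : GA L} (hx : Rc M x) : Rc M (up T x) :=
  Rc.restr _ (Rc.incl _ hx)

theorem isCentral_up (hLN : ∀ u ∈ T, ∀ g : G, g ∈ L ↔ u * g * u⁻¹ ∈ L) (x : GA L)
    (hinv : ∀ u ∈ T, ∀ k k' : L, u * (k : G) * u⁻¹ = k' → x.coeff k' = x.coeff k) :
    IsCentral (up T x) := by
  intro t u
  rw [coeff_up, coeff_up]
  have e : (((u * t * u⁻¹ : T)) : G) = (u : G) * t * (u : G)⁻¹ := rfl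
  rw [e]
  by_cases ht : (t : G) ∈ L
  · have ht' := (hLN u u.2 t).mp ht
    rw [coeff_incl_of_mem L _ ht, coeff_incl_of_mem L _ ht']
    exact hinv u u.2 _ _ rfl
  · have ht' := fun h => ht ((hLN u u.2 t).mpr h)
    rw [coeff_incl_of_notMem L _ ht, coeff_incl_of_notMem L _ ht']

end Up

section Conj

variable {G : Type u} [Group G] [Fintype G] {L : Subgroup G} [Fintype L]

/-- Conjugation of irreducible characters by elements normalizing `L`. -/
noncomputable def conjI {n : G} (hn : n ∈ Subgroup.normalizer (L : Set G)) (θ : IrrCharacter L) :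
    IrrCharacter L :=
  ⟨(θ : L → ℂ) ∘ conjOfNormalizer hn,
    Cfsg.Agent.Lib.Char.Conj.isIrrCharacter_comp_mulEquiv _ θ.2⟩

@[simp] theorem conjI_apply {n : G} (hn : n ∈ Subgroup.normalizer (L : Set G)) (θ : IrrCharacter L)
    (k : L) : (conjI hn θ : L → ℂ) k = (θ : L → ℂ) (conjOfNormalizer hn k) := rfl

theorem conjI_conjI {n m : G} (hn : n ∈ Subgroup.normalizer (L : Set G))
    (hm : m ∈ Subgroup.normalizer (L : Set G)) (hnm : n * m ∈ Subgroup.normalizer (L : Set G))
    (θ : IrrCharacter L) : conjI hm (conjI hn θ) = conjI hnm θ := by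
  apply Subtype.ext
  funext k
  rw [conjI_apply, conjI_apply, conjI_apply]
  have e : conjOfNormalizer hn (conjOfNormalizer hm k) = conjOfNormalizer hnm k := by
    apply Subtype.ext
    simp only [coe_conjOfNormalizer]
    group
  rw [e]

theorem conjI_one (h1 : (1 : G) ∈ Subgroup.normalizer (L : Set G)) (θ : IrrCharacter L) :
    conjI h1 θ = θ := by
  apply Subtype.ext
  funext k
  rw [conjI_apply]
  have e : conjOfNormalizer h1 k = k := by
    apply Subtype.ext
    simp
  rw [e]

theorem conjI_mem_blockOf {M : Ideal AlgInt} {n : G} (hn : n ∈ Subgroup.normalizer (L : Set G))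
    {ξ θ : IrrCharacter L} (h : ξ ∈ blockOf M (θ : L → ℂ)) :
    conjI hn ξ ∈ blockOf M (conjI hn θ : L → ℂ) :=
  sameBlock_comp_mulEquiv (M := M) (conjOfNormalizer hn) h

theorem conjI_one_apply {n : G} (hn : n ∈ Subgroup.normalizer (L : Set G)) (θ : IrrCharacter L) :
    (conjI hn θ : L → ℂ) 1 = (θ : L → ℂ) 1 := by
  rw [conjI_apply, map_one]

variable [Fintype (IrrCharacter L)]

/-- Conjugation as a permutation of the irreducible characters. -/
noncomputable def conjEquiv {n : G} (hn : n ∈ Subgroup.normalizer (L : Set G)) :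
    IrrCharacter L ≃ IrrCharacter L where
  toFun := conjI hn
  invFun := conjI (Subgroup.inv_mem _ hn)
  left_inv θ := by
    have h1 : n * n⁻¹ ∈ Subgroup.normalizer (L : Set G) := by
      simpa using Subgroup.one_mem _
    rw [conjI_conjI hn (Subgroup.inv_mem _ hn) h1]
    apply Subtype.ext
    funext k
    rw [conjI_apply]
    have e : conjOfNormalizer h1 k = k := by
      apply Subtype.ext
      simp
    rw [e]
  right_inv θ := by
    have h1 : n⁻¹ * n ∈ Subgroup.normalizer (L : Set G) := by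
      simpa using Subgroup.one_mem _
    rw [conjI_conjI (Subgroup.inv_mem _ hn) hn h1]
    apply Subtype.ext
    funext k
    rw [conjI_apply]
    have e : conjOfNormalizer h1 k = k := by
      apply Subtype.ext
      simp
    rw [e]

@[simp] theorem conjEquiv_apply {n : G} (hn : n ∈ Subgroup.normalizer (L : Set G))
    (θ : IrrCharacter L) : conjEquiv hn θ = conjI hn θ := rfl

/-- The coefficients of `idem S`, for a conjugation-stable `S`. -/
theorem blockCoeff_conj (S : Set (IrrCharacter L)) {n : G}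
    (hn : n ∈ Subgroup.normalizer (L : Set G)) (hS : ∀ ξ, conjI hn ξ ∈ S ↔ ξ ∈ S) (k : L) :
    blockCoeff S (conjOfNormalizer hn k) = blockCoeff S k := by
  classical
  rw [blockCoeff_eq_sum, blockCoeff_eq_sum]
  congr 1
  have key : ∀ χ : IrrCharacter L, (if χ ∈ S then (χ : L → ℂ) 1 *
      conj ((χ : L → ℂ) (conjOfNormalizer hn k)) else 0) =
      (fun χ : IrrCharacter L => if χ ∈ S then (χ : L → ℂ) 1 * conj ((χ : L → ℂ) k) else 0)
        (conjEquiv hn χ) := by
    intro χ
    change _ = if conjI hn χ ∈ S then (conjI hn χ : L → ℂ) 1 * conj ((conjI hn χ : L → ℂ) k) else 0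
    simp only [hS, conjI_apply, map_one]
  rw [Fintype.sum_congr _ _ key]
  exact Equiv.sum_comp (conjEquiv hn)
    (fun χ : IrrCharacter L => if χ ∈ S then (χ : L → ℂ) 1 * conj ((χ : L → ℂ) k) else 0)

/-- Central characters on invariant elements. -/
theorem omegaHom_conjI {n : G} (hn : n ∈ Subgroup.normalizer (L : Set G)) (ξ : IrrCharacter L)
    (w : Subalgebra.center ℂ (GA L))
    (hinv : ∀ k, (w : GA L).coeff (conjOfNormalizer hn k) = (w : GA L).coeff k) :
    omegaHom (conjI hn ξ) w = omegaHom ξ w := by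
  rw [omegaHom_apply, omegaHom_apply, lin_apply, lin_apply, conjI_one_apply]
  congr 1
  rw [← Equiv.sum_comp (conjOfNormalizer hn).toEquiv (fun k => (w : GA L).coeff k * (ξ : L → ℂ) k)]
  refine Fintype.sum_congr _ _ fun k => ?_
  simp only [MulEquiv.toEquiv_eq_coe, EquivLike.coe_coe, hinv, conjI_apply]

/-- Induction is invariant under conjugation. -/
theorem indHom_conjI {n : G} (hn : n ∈ Subgroup.normalizer (L : Set G)) (ξ : IrrCharacter L)
    (z : Subalgebra.center ℂ (GA G)) : indHom L (conjI hn ξ) z = indHom L ξ z := by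
  rw [indHom_apply, indHom_apply]
  apply omegaHom_conjI
  intro k
  rw [coe_restrCenter, coeff_restr, coeff_restr, coe_conjOfNormalizer]
  exact isCentral_of_mem z _ _

end Conj

section Orbit

variable {G : Type u} [Group G] [Fintype G] {L P : Subgroup G} [Fintype L]
  [Fintype (IrrCharacter L)]

/-- The orbit of a set of characters under `N(P)`. -/
def orbitI (hnorm : Subgroup.normalizer (P : Set G) ≤ Subgroup.normalizer (L : Set G))
    (b : Set (IrrCharacter L)) : Set (IrrCharacter L) :=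
  {ξ | ∃ (n : G) (hn : n ∈ Subgroup.normalizer (P : Set G)), conjI (hnorm hn) ξ ∈ b}

variable (hnorm : Subgroup.normalizer (P : Set G) ≤ Subgroup.normalizer (L : Set G))

theorem orbitI_conj_iff (b : Set (IrrCharacter L)) {m : G}
    (hm : m ∈ Subgroup.normalizer (P : Set G)) (ξ : IrrCharacter L) :
    conjI (hnorm hm) ξ ∈ orbitI hnorm b ↔ ξ ∈ orbitI hnorm b := by
  constructor
  · rintro ⟨n, hn, h⟩
    refine ⟨m * n, Subgroup.mul_mem _ hm hn, ?_⟩
    rwa [conjI_conjI (hnorm hm) (hnorm hn)] at h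
  · rintro ⟨n, hn, h⟩
    refine ⟨m⁻¹ * n, Subgroup.mul_mem _ (Subgroup.inv_mem _ hm) hn, ?_⟩
    rw [conjI_conjI (hnorm hm) (hnorm (Subgroup.mul_mem _ (Subgroup.inv_mem _ hm) hn))
      (by simpa using hnorm hn)]
    have e : m * (m⁻¹ * n) = n := by group
    simp only [e]
    exact h

theorem self_mem_orbitI {b : Set (IrrCharacter L)} {ξ : IrrCharacter L} (hξ : ξ ∈ b) :
    ξ ∈ orbitI hnorm b := by
  refine ⟨1, Subgroup.one_mem _, ?_⟩
  rwa [conjI_one]

theorem orbitI_closed {M : Ideal AlgInt} [M.IsPrime] {b : Set (IrrCharacter L)} (hb : IsPBlock M b)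
    {ξ ξ' : IrrCharacter L} (hξ : ξ ∈ orbitI hnorm b) (hξ' : ξ' ∈ blockOf M (ξ : L → ℂ)) :
    ξ' ∈ orbitI hnorm b := by
  obtain ⟨n, hn, h⟩ := hξ
  refine ⟨n, hn, ?_⟩
  rw [isPBlock_eq_blockOf hb h]
  exact conjI_mem_blockOf _ hξ'

end Orbit

section Main

variable {G : Type u} [Group G] [Fintype G] [Fintype (IrrCharacter G)] {M : Ideal AlgInt} {p : ℕ}
  [hMp : M.IsPrime] [Fact p.Prime] {L P : Subgroup G} [Fintype L] [Fintype (IrrCharacter L)]
  [Fintype (Subgroup.normalizer (P : Set G))]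
  [Fintype (IrrCharacter (Subgroup.normalizer (P : Set G)))]

/-- The central lift of the idempotent of an orbit. -/
noncomputable def upOrbit (hPL : Cfsg.Agent.Lib.Blocks.Induced.IsBrauerPair p P L)
    (hnorm : Subgroup.normalizer (P : Set G) ≤ Subgroup.normalizer (L : Set G))
    (b : Set (IrrCharacter L)) : Subalgebra.center ℂ (GA (Subgroup.normalizer (P : Set G))) :=
  ⟨up _ (idem (orbitI hnorm b) : GA L), by
    rw [mem_center_iff]
    apply isCentral_up
    · intro u hu g
      exact Subgroup.mem_normalizer_iff.mp (hnorm hu) g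
    · intro u hu k k' he
      rw [coeff_idem, coeff_idem]
      have h1 := blockCoeff_conj (orbitI hnorm b) (hnorm hu) (orbitI_conj_iff hnorm b hu) k
      rw [← h1]
      congr 1
      apply Subtype.ext
      rw [coe_conjOfNormalizer, he]⟩

theorem upOrbit_coe (hPL : Cfsg.Agent.Lib.Blocks.Induced.IsBrauerPair p P L)
    (hnorm : Subgroup.normalizer (P : Set G) ≤ Subgroup.normalizer (L : Set G))
    (b : Set (IrrCharacter L)) :
    ((upOrbit hPL hnorm b : Subalgebra.center ℂ (GA (Subgroup.normalizer (P : Set G)))) :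
      GA (Subgroup.normalizer (P : Set G))) = up _ (idem (orbitI hnorm b) : GA L) := rfl

theorem upOrbit_mem_local (hPL : Cfsg.Agent.Lib.Blocks.Induced.IsBrauerPair p P L)
    (hnorm : Subgroup.normalizer (P : Set G) ≤ Subgroup.normalizer (L : Set G))
    {b : Set (IrrCharacter L)} (hb : IsPBlock M b) : upOrbit hPL hnorm b ∈ localCenter M _ := by
  have h1 : idem (orbitI hnorm b) ∈ localCenter M L :=
    idem_mem_localCenter_of_union fun _ hξ _ hξ' => orbitI_closed hnorm hb hξ hξ'
  exact Rc.up (Rc.of_localCenter h1)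

theorem upOrbit_mul_self (hPL : Cfsg.Agent.Lib.Blocks.Induced.IsBrauerPair p P L)
    (hnorm : Subgroup.normalizer (P : Set G) ≤ Subgroup.normalizer (L : Set G))
    (b : Set (IrrCharacter L)) : upOrbit hPL hnorm b * upOrbit hPL hnorm b = upOrbit hPL hnorm b := by
  apply Subtype.ext
  change up _ (idem (orbitI hnorm b) : GA L) * up _ (idem (orbitI hnorm b) : GA L) =
    up _ (idem (orbitI hnorm b) : GA L)
  rw [← up_mul hPL.le_normalizer]
  congr 1
  exact congrArg Subtype.val (idem_mul_self _)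

theorem omegaHom_upOrbit_eq (hPL : Cfsg.Agent.Lib.Blocks.Induced.IsBrauerPair p P L)
    (hnorm : Subgroup.normalizer (P : Set G) ≤ Subgroup.normalizer (L : Set G))
    (b : Set (IrrCharacter L)) (ξ : IrrCharacter (Subgroup.normalizer (P : Set G))) :
    omegaHom ξ (upOrbit hPL hnorm b) = 0 ∨ omegaHom ξ (upOrbit hPL hnorm b) = 1 := by
  have h := congrArg (omegaHom ξ) (upOrbit_mul_self hPL hnorm b)
  rw [map_mul] at h
  by_cases h0 : omegaHom ξ (upOrbit hPL hnorm b) = 0
  · exact Or.inl h0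
  · exact Or.inr (mul_left_cancel₀ h0 (by rw [h, mul_one]))

/-- The main step: the idempotent of an orbit of a block inducing `B` gives a block of `N(P)`
inducing `B`. -/
theorem exists_irr_normalizer (hM : IsPModular p M)
    (hPL : Cfsg.Agent.Lib.Blocks.Induced.IsBrauerPair p P L)
    (hnorm : Subgroup.normalizer (P : Set G) ≤ Subgroup.normalizer (L : Set G))
    {b : Set (IrrCharacter L)} {B : Set (IrrCharacter G)} (hind : IsInducedBlock M L b B) :
    ∃ ξt : IrrCharacter (Subgroup.normalizer (P : Set G)),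
      omegaHom ξt (upOrbit hPL hnorm b) = 1 ∧
      IsInducedBlock M (Subgroup.normalizer (P : Set G)) (blockOf M (ξt : _ → ℂ)) B := by
  classical
  have hPT : Cfsg.Agent.Lib.Blocks.Induced.IsBrauerPair p P (Subgroup.normalizer (P : Set G)) :=
    isBrauerPair_normalizer hPL.isP
  have hLT : L ≤ Subgroup.normalizer (P : Set G) := hPL.le_normalizer
  obtain ⟨ξ, hξ⟩ := isPBlock_nonempty hind.1
  obtain ⟨χ, hχ⟩ := isPBlock_nonempty hind.2.1
  have hξS : ξ ∈ orbitI hnorm b := self_mem_orbitI hnorm hξ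
  -- nonzero
  have hne : upOrbit hPL hnorm b ≠ 0 := by
    intro h0
    have h1 : ((idem (orbitI hnorm b) : Subalgebra.center ℂ (GA L)) : GA L) = 0 := by
      ext k
      have h2 : (up (Subgroup.normalizer (P : Set G)) (idem (orbitI hnorm b) : GA L)).coeff
          ⟨k, hLT k.2⟩ = 0 := by
        have := congrArg Subtype.val h0
        rw [upOrbit_coe] at this
        rw [this]
        rfl
      rw [coeff_up] at h2
      rw [← coeff_incl_coe L _ k]
      exact h2
    have h3 : idem (orbitI hnorm b) = 0 := Subtype.ext h1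
    have h4 := omegaHom_idem (orbitI hnorm b) ξ
    rw [h3, map_zero, if_pos hξS] at h4
    exact zero_ne_one h4
  obtain ⟨ξt, hξt⟩ : ∃ ξt, omegaHom ξt (upOrbit hPL hnorm b) ≠ 0 := by
    by_contra hcon
    push Not at hcon
    exact hne (eq_zero_of_omegaHom_eq_zero _ hcon)
  have hξt1 := (omegaHom_upOrbit_eq hPL hnorm b ξt).resolve_left hξt
  refine ⟨ξt, hξt1, ?_⟩
  obtain ⟨Bt, hBt⟩ := exists_induced hM hPT (b := blockOf M (ξt : _ → ℂ)) ⟨ξt, rfl⟩
  obtain ⟨χt, hχt⟩ := isPBlock_nonempty hBt.2.1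
  have hBl : idem B ∈ localCenter M G := idem_mem_localCenter hind.2.1
  -- the element `y₀`
  set e₀ := idem (orbitI hnorm b) with he₀
  set wL := brOf hPL (idem B) with hwL
  have he₀l : e₀ ∈ localCenter M L :=
    idem_mem_localCenter_of_union fun _ hξ _ hξ' => orbitI_closed hnorm hind.1 hξ hξ'
  have hwLl : wL ∈ localCenter M L := brOf_mem_localCenter hPL hBl
  set y₀ : Subalgebra.center ℂ (GA L) := wL * e₀ - e₀ with hy₀
  have hy₀l : y₀ ∈ localCenter M L :=
    Subring.sub_mem _ (Subring.mul_mem _ hwLl he₀l) he₀l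
  have hy₀ω : ∀ ψ : IrrCharacter L, MemLocalIdeal M (omegaHom ψ y₀) := by
    intro ψ
    rw [hy₀, map_sub, map_mul, he₀, omegaHom_idem]
    split_ifs with hψ
    · obtain ⟨n, hn, hψn⟩ := hψ
      rw [mul_one]
      -- `ω_ψ(wL) ≡ 1`
      have h1 := indHom_sub_brOf_mem hM hPL ψ hBl
      have h2 := IsInducedBlock.sub_mem L hind hψn hχ hBl
      rw [indHom_conjI, omegaHom_idem, if_pos hχ] at h2
      have h3 := memLocalIdeal_sub h2 h1
      simpa using h3
    · simpa using memLocalIdeal_zero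
  obtain ⟨m, hm⟩ := exists_pow_Jc hy₀l hy₀ω
  have hz₀ : MemLocalIdeal M (omegaHom ξt (brOf hPT (idem B) * upOrbit hPL hnorm b -
      upOrbit hPL hnorm b)) := by
    have h1 : ((brOf hPT (idem B) * upOrbit hPL hnorm b - upOrbit hPL hnorm b :
        Subalgebra.center ℂ (GA (Subgroup.normalizer (P : Set G)))) :
          GA (Subgroup.normalizer (P : Set G))) = up _ (y₀ : GA L) := by
      have h2 : (y₀ : GA L) = (wL : GA L) * (e₀ : GA L) - (e₀ : GA L) := rfl
      rw [h2, up_sub, up_mul hLT]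
      have h3 : ((brOf hPT (idem B) : Subalgebra.center ℂ (GA (Subgroup.normalizer (P : Set G)))) :
          GA (Subgroup.normalizer (P : Set G))) = up _ (wL : GA L) := by
        ext t
        rw [coeff_up, coeff_brOf]
        by_cases ht : (t : G) ∈ L
        · rw [coeff_incl_of_mem L _ ht, hwL, coeff_brOf]
        · rw [coeff_incl_of_notMem L _ ht, coeff_res_of_notMem]
          exact fun h => ht (hPL.centralizer_le h)
      rw [← h3, ← upOrbit_coe hPL hnorm b]
      rfl
    have h2 : Jc M (((brOf hPT (idem B) * upOrbit hPL hnorm b - upOrbit hPL hnorm b) ^ m :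
        Subalgebra.center ℂ (GA (Subgroup.normalizer (P : Set G)))) :
          GA (Subgroup.normalizer (P : Set G))) := by
      rw [SubmonoidClass.coe_pow, h1, ← up_pow hLT]
      exact Jc.up hm
    have h3 := omegaHom_mem_of_Jc ξt h2
    rw [map_pow] at h3
    refine memLocalIdeal_of_pow (omegaHom_mem_local ξt ?_) h3
    exact Subring.sub_mem _ (Subring.mul_mem _ (brOf_mem_localCenter hPT hBl)
      (upOrbit_mem_local hPL hnorm hind.1)) (upOrbit_mem_local hPL hnorm hind.1)
  rw [map_sub, map_mul, hξt1, mul_one] at hz₀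
  have hχtB : χt ∈ B := by
    by_contra hcon
    have h1 := indHom_sub_brOf_mem hM hPT ξt hBl
    have h2 := IsInducedBlock.sub_mem _ hBt (mem_blockOf_self ξt) hχt hBl
    rw [omegaHom_idem, if_neg hcon, sub_zero] at h2
    have h3 := memLocalIdeal_sub h2 h1
    have h4 := memLocalIdeal_sub h3 hz₀
    apply one_notMemLocalIdeal (M := M)
    simpa using h4
  rw [← isPBlock_mem_unique hBt.2.1 hind.2.1 hχt hχtB]
  exact hBt

/-- The conjugacy of blocks. -/
theorem exists_conj_of_induced (hM : IsPModular p M)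
    (hPL : Cfsg.Agent.Lib.Blocks.Induced.IsBrauerPair p P L)
    (hnorm : Subgroup.normalizer (P : Set G) ≤ Subgroup.normalizer (L : Set G))
    {b b' : Set (IrrCharacter L)} {B : Set (IrrCharacter G)} (hP : IsDefectGroup p M B P)
    (hind : IsInducedBlock M L b B) (hind' : IsInducedBlock M L b' B) :
    ∃ (n : G) (hn : n ∈ Subgroup.normalizer (P : Set G)), ∀ θ ∈ b, conjI (hnorm hn) θ ∈ b' := by
  classical
  have hPT : Cfsg.Agent.Lib.Blocks.Induced.IsBrauerPair p P (Subgroup.normalizer (P : Set G)) :=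
    isBrauerPair_normalizer hPL.isP
  obtain ⟨ξ₀, hξ₀, hi₀⟩ := exists_irr_normalizer hM hPL hnorm hind
  obtain ⟨ξ₁, hξ₁, hi₁⟩ := exists_irr_normalizer hM hPL hnorm hind'
  obtain ⟨Db, hDb⟩ := exists_isDefectGroup (p := p) hi₀.1
  have hDb' := defect_eq_subgroupOf hM hPT.normal hPT.le hi₀ hP hDb
  rw [hDb'] at hDb
  have hsame := first_main_unique hM hPT.isP hi₀.1 hDb hi₀ hi₁
  have hmem : ξ₁ ∈ blockOf M (ξ₀ : _ → ℂ) := by
    rw [hsame]
    exact mem_blockOf_self ξ₁
  have h1 := omegaHom_sub_mem_of_sameBlock (M := M) hmem (upOrbit_mem_local hPL hnorm hind.1)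
  have h2 : omegaHom ξ₁ (upOrbit hPL hnorm b) = 1 := by
    rcases omegaHom_upOrbit_eq hPL hnorm b ξ₁ with h0 | h0
    · rw [hξ₀, h0, sub_zero] at h1
      exact absurd h1 one_notMemLocalIdeal
    · exact h0
  have hinter : ∃ ξ, ξ ∈ orbitI hnorm b ∧ ξ ∈ orbitI hnorm b' := by
    by_contra hcon
    push Not at hcon
    have h3 : idem (orbitI hnorm b) * idem (orbitI hnorm b') = 0 := by
      apply omegaHom_injective
      intro ψ
      rw [map_mul, omegaHom_idem, omegaHom_idem, map_zero]
      by_cases hψ : ψ ∈ orbitI hnorm b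
      · rw [if_neg (hcon ψ hψ), mul_zero]
      · rw [if_neg hψ, zero_mul]
    have h4 : upOrbit hPL hnorm b * upOrbit hPL hnorm b' = 0 := by
      apply Subtype.ext
      change up _ (idem (orbitI hnorm b) : GA L) * up _ (idem (orbitI hnorm b') : GA L) = 0
      rw [← up_mul hPL.le_normalizer]
      have h5 : (idem (orbitI hnorm b) : GA L) * (idem (orbitI hnorm b') : GA L) = 0 :=
        congrArg Subtype.val h3
      rw [h5, up_zero]
    have h5 := congrArg (omegaHom ξ₁) h4
    rw [map_mul, h2, hξ₁, map_zero, one_mul] at h5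
    exact one_ne_zero h5
  obtain ⟨ξ, ⟨n, hn, hξn⟩, ⟨m, hm, hξm⟩⟩ := hinter
  refine ⟨n⁻¹ * m, Subgroup.mul_mem _ (Subgroup.inv_mem _ hn) hm, ?_⟩
  intro θ hθ
  rw [isPBlock_eq_blockOf hind.1 hξn] at hθ
  rw [isPBlock_eq_blockOf hind'.1 hξm]
  have h3 := conjI_mem_blockOf (M := M)
    (hnorm (Subgroup.mul_mem _ (Subgroup.inv_mem _ hn) hm)) hθ
  rw [conjI_conjI (hnorm hn) (hnorm (Subgroup.mul_mem _ (Subgroup.inv_mem _ hn) hm))
    (by simpa using hnorm hm)] at h3
  have e : n * (n⁻¹ * m) = m := by group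
  simp only [e] at h3
  exact h3

end Main

section Sup

variable {G : Type u} [Group G] [Fintype G] [Fintype (IrrCharacter G)] {M : Ideal AlgInt} {p : ℕ}
  [hMp : M.IsPrime] [Fact p.Prime] {P : Subgroup G}

theorem normalizer_le_normalizer_sup :
    Subgroup.normalizer (P : Set G) ≤
      Subgroup.normalizer ((P ⊔ Subgroup.centralizer (P : Set G) : Subgroup G) : Set G) := by
  intro n hn
  have h2 := mem_normalizer_centralizer hn
  rw [Subgroup.mem_normalizer_iff_map_conj_eq] at hn h2 ⊢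
  rw [Subgroup.map_sup, hn, h2]

/-- S0973. -/
theorem extended_first_main (hM : IsPModular p M) {B : Set (IrrCharacter G)} (hB : IsPBlock M B)
    (hP : IsDefectGroup p M B P)
    [Fintype (P ⊔ Subgroup.centralizer (P : Set G) : Subgroup G)]
    [Fintype (IrrCharacter (P ⊔ Subgroup.centralizer (P : Set G) : Subgroup G))]
    [Fintype (Subgroup.normalizer (P : Set G))]
    [Fintype (IrrCharacter (Subgroup.normalizer (P : Set G)))] :
    (∃ b : Set (IrrCharacter ↥(P ⊔ Subgroup.centralizer (P : Set G))),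
      IsDefectGroup p M b (P.subgroupOf (P ⊔ Subgroup.centralizer (P : Set G))) ∧
      IsInducedBlock M (P ⊔ Subgroup.centralizer (P : Set G)) b B) ∧
    ∀ b b' : Set (IrrCharacter ↥(P ⊔ Subgroup.centralizer (P : Set G))),
      IsInducedBlock M (P ⊔ Subgroup.centralizer (P : Set G)) b B →
      IsInducedBlock M (P ⊔ Subgroup.centralizer (P : Set G)) b' B →
      ∃ n ∈ Subgroup.normalizer (P : Set G), ∀ θ ∈ b, ∃ θ' ∈ b',
        ∀ x : ↥(P ⊔ Subgroup.centralizer (P : Set G)),
        ∀ hx : n * (x : G) * n⁻¹ ∈ P ⊔ Subgroup.centralizer (P : Set G),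
          (θ' : ↥(P ⊔ Subgroup.centralizer (P : Set G)) → ℂ) x =
            (θ : ↥(P ⊔ Subgroup.centralizer (P : Set G)) → ℂ) ⟨n * (x : G) * n⁻¹, hx⟩ := by
  have hpg : IsPGroup p P := isDefectGroup_isPGroup hP
  have hPL := isBrauerPair_sup hpg
  refine ⟨?_, ?_⟩
  · obtain ⟨b, hind⟩ := exists_induced_of_le_defect hM hPL hB hP (x := 1) (by
      intro u hu
      obtain ⟨v, hv, rfl⟩ := hu
      simpa using hv)
    refine ⟨b, ?_, hind⟩
    obtain ⟨Db, hDb⟩ := exists_isDefectGroup (p := p) hind.1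
    rwa [defect_eq_subgroupOf hM hPL.normal hPL.le hind hP hDb] at hDb
  · intro b b' hind hind'
    obtain ⟨n, hn, h⟩ := exists_conj_of_induced hM hPL normalizer_le_normalizer_sup hP hind hind'
    refine ⟨n, hn, fun θ hθ => ⟨conjI (normalizer_le_normalizer_sup hn) θ, h θ hθ, fun x hx => ?_⟩⟩
    rw [conjI_apply]
    rfl

end Sup

end Cfsg.Agent.Lib.Blocks.ExtFMT
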