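import Mathlib
import Cfsg.Agent.Lib.BlockH.StabBlock
import Cfsg.Agent.Lib.BlockT.Fong
import Cfsg.Agent.Lib.Blocks.RegPart2

/-!
# The Fong-Reynolds correspondence

An abstract form: `T ≤ G`, and `E` a central idempotent of `ℂ[T]` all of whose `G`-conjugates outside
`T` annihilate it.
-/

set_option linter.unusedSectionVars false
set_option autoImplicit false
set_option linter.style.haveILetI false

namespace Cfsg.Agent.Lib.Blocks.FR

open Cfsg MonoidAlgebra
open Cfsg.Agent.Lib.Blocks.Local Cfsg.Agent.Lib.Blocks.Central Cfsg.Agent.Lib.Blocks.Brauer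
open Cfsg.Agent.Lib.Blocks.Induced Cfsg.Agent.Lib.Blocks.Heights
open Cfsg.Agent.Lib.Char.Basic Cfsg.Agent.Lib.Char.Ortho Cfsg.Agent.Lib.Char.Complete
open Cfsg.Agent.Lib.Char.Induced Cfsg.Agent.Lib.Char.IndRep Cfsg.Agent.Lib.Char.Clifford
open Cfsg.Agent.Lib.BlockH.MaxPair Cfsg.Agent.Lib.BlockH.StabBlock
open Cfsg.Agent.Lib.BlockT.Normal
open scoped ComplexConjugate

universe u

variable {G : Type u} [Group G] [Fintype G] {T : Subgroup G} [Fintype T]

theorem sum_mul_indFun (w : G → ℂ) (ψ : T → ℂ) :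
    ∑ g : G, w g * indFun T ψ g =
      (Nat.card T : ℂ)⁻¹ * ∑ x : G, ∑ t : T, w (x * t * x⁻¹) * ψ t := by
  classical
  simp only [indFun_apply, Finset.mul_sum]
  rw [Finset.sum_comm]
  refine Fintype.sum_congr _ _ fun x => ?_
  have h1 : ∑ g : G, extendByZero T ψ (x⁻¹ * g * x) * w g = ∑ h : G, extendByZero T ψ h * w (x * h * x⁻¹) := by
    refine Fintype.sum_equiv (MulAut.conj x⁻¹).toEquiv _ _ fun g => ?_
    simp only [MulAut.conj_apply, MulEquiv.toEquiv_eq_coe, MulEquiv.coe_toEquiv, inv_inv]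
    congr 2
    group
  have h2 := sum_extendByZero_mul (N := T) ψ (fun h => w (x * h * x⁻¹))
  calc ∑ g : G, w g * ((Nat.card T : ℂ)⁻¹ * extendByZero T ψ (x⁻¹ * g * x))
      = (Nat.card T : ℂ)⁻¹ * ∑ g : G, extendByZero T ψ (x⁻¹ * g * x) * w g := by
        rw [Finset.mul_sum]
        refine Fintype.sum_congr _ _ fun g => ?_
        ring
    _ = _ := by
        rw [h1, h2, Finset.mul_sum]
        refine Fintype.sum_congr _ _ fun t => ?_
        ring

theorem sum_mul_indFun_central {w : G → ℂ} (hw : ∀ g h : G, w (h * g * h⁻¹) = w g) (ψ : T → ℂ) :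
    ∑ g : G, w g * indFun T ψ g = (T.index : ℂ) * ∑ t : T, w t * ψ t := by
  classical
  rw [sum_mul_indFun]
  simp only [hw]
  rw [Finset.sum_const, Finset.card_univ, nsmul_eq_mul, ← mul_assoc]
  congr 1
  rw [← Nat.card_eq_fintype_card, card_eq_card_mul_index T]
  push_cast
  have hne := card_subgroup_ne_zero T
  field_simp

/-- The central character of an induced function. -/
theorem omega_indFun {ψ : T → ℂ} (hψ : ψ 1 ≠ 0) (z : Subalgebra.center ℂ (GA G)) :
    omega (indFun T ψ) (z : GA G) = omega ψ (restr T (z : GA G)) := by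
  have hi := index_ne_zero' T
  rw [omega, omega, lin_apply, lin_apply, sum_mul_indFun_central (isCentral_of_mem z), indFun_one]
  simp only [coeff_restr]
  field_simp

theorem omegaHom_ind [Fintype (IrrCharacter G)] [Fintype (IrrCharacter T)] (ψ : IrrCharacter T)
    (h : IsIrrCharacter G (indFun T (ψ : T → ℂ))) (z : Subalgebra.center ℂ (GA G)) :
    omegaHom (⟨indFun T (ψ : T → ℂ), h⟩ : IrrCharacter G) z = indHom T ψ z :=
  omega_indFun (irr_one_ne_zero ψ.2) z

theorem incl_conj_of_mem {y : GA T} (hy : IsCentral y) (t : G) (ht : t ∈ T) (g : G) :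
    (incl T y).coeff (t * g * t⁻¹) = (incl T y).coeff g := by
  by_cases hg : g ∈ T
  · have h1 : t * g * t⁻¹ ∈ T := T.mul_mem (T.mul_mem ht hg) (T.inv_mem ht)
    rw [coeff_incl_of_mem T _ hg, coeff_incl_of_mem T _ h1]
    exact hy ⟨g, hg⟩ ⟨t, ht⟩
  · have h1 : t * g * t⁻¹ ∉ T := fun h => hg (by
      have := T.mul_mem (T.mul_mem (T.inv_mem ht) h) ht
      simpa [mul_assoc] using this)
    rw [coeff_incl_of_notMem T _ hg, coeff_incl_of_notMem T _ h1]

theorem sum_incl_mul (y : GA T) (F : G → ℂ) :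
    ∑ g : G, (incl T y).coeff g * F g = ∑ t : T, y.coeff t * F t := by
  rw [sum_eq_sum_subgroup T _ (fun g hg => by rw [coeff_incl_of_notMem T _ hg, zero_mul])]
  refine Fintype.sum_congr _ _ fun t => ?_
  rw [coeff_incl_coe]

section Tr

variable [Fintype (G ⧸ T)]

/-- The relative trace of a central element of `ℂ[T]`. -/
noncomputable def trC (y : Subalgebra.center ℂ (GA T)) : Subalgebra.center ℂ (GA G) :=
  ⟨relTr T (incl T (y : GA T)).coeff, (mem_center_iff _).mpr
    (isCentral_relTr (incl_conj_of_mem (isCentral_of_mem y)))⟩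

theorem coeff_trC (y : Subalgebra.center ℂ (GA T)) (g : G) :
    ((trC y : Subalgebra.center ℂ (GA G)) : GA G).coeff g =
      ∑ q : G ⧸ T, (incl T (y : GA T)).coeff (q.out⁻¹ * g * q.out) := rfl

theorem lin_trC {χ : G → ℂ} (hχ : IsClassFunction G χ) (y : Subalgebra.center ℂ (GA T)) :
    lin χ (trC y : Subalgebra.center ℂ (GA G)) = (T.index : ℂ) * ∑ t : T, (y : GA T).coeff t * χ t := by
  classical
  rw [lin_apply]
  simp only [coeff_trC, Finset.sum_mul]
  rw [Finset.sum_comm]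
  have h1 : ∀ q : G ⧸ T, ∑ g : G, (incl T (y : GA T)).coeff (q.out⁻¹ * g * q.out) * χ g =
      ∑ t : T, (y : GA T).coeff t * χ t := by
    intro q
    rw [← sum_incl_mul]
    refine Fintype.sum_equiv (MulAut.conj q.out⁻¹).toEquiv _ _ fun g => ?_
    simp only [MulEquiv.toEquiv_eq_coe, MulEquiv.coe_toEquiv, MulAut.conj_apply, inv_inv]
    congr 1
    have := hχ g q.out⁻¹
    simpa using this.symm
  simp only [h1]
  rw [Finset.sum_const, Finset.card_univ, nsmul_eq_mul, Subgroup.index_eq_card, Nat.card_eq_fintype_card]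

theorem trC_mem_localCenter {M : Ideal AlgInt} [M.IsPrime] {y : Subalgebra.center ℂ (GA T)}
    (hy : y ∈ localCenter M T) : trC y ∈ localCenter M G :=
  rc_relTr (Rc.incl T hy)

end Tr

section Abstract

variable [Fintype (IrrCharacter G)] [Fintype (IrrCharacter T)]

/-- Decomposition of a restriction, against a central element. -/
theorem sum_coeff_restrict {χ : G → ℂ} (hχ : IsClassFunction G χ) (y : Subalgebra.center ℂ (GA T)) :
    ∑ t : T, (y : GA T).coeff t * χ t = ∑ ψ : IrrCharacter T,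
      classInner (fun t : T => χ t) (ψ : T → ℂ) * (omegaHom ψ y * (ψ : T → ℂ) 1) := by
  have hT : IsClassFunction T (fun t : T => χ t) := fun a b => hχ _ _
  have h1 := classFunction_eq_sum hT
  have h2 : ∀ t : T, χ t = ∑ ψ : IrrCharacter T,
      classInner (fun t : T => χ t) (ψ : T → ℂ) * (ψ : T → ℂ) t := by
    intro t
    have := congrFun h1 t
    simpa [Finset.sum_apply] using this
  have h3 : ∀ ψ : IrrCharacter T, omegaHom ψ y * (ψ : T → ℂ) 1 =
      ∑ t : T, (y : GA T).coeff t * (ψ : T → ℂ) t := by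
    intro ψ
    rw [omegaHom_apply, lin_apply, div_mul_cancel₀ _ (irr_one_ne_zero ψ.2)]
  simp only [h3, Finset.mul_sum]
  rw [Finset.sum_comm]
  refine Fintype.sum_congr _ _ fun t => ?_
  rw [h2 t, Finset.mul_sum]
  refine Fintype.sum_congr _ _ fun ψ => ?_
  ring

theorem exists_nat_restrict (χ : IrrCharacter G) : ∃ n : IrrCharacter T → ℕ, ∀ ψ : IrrCharacter T,
    classInner (fun t : T => (χ : G → ℂ) t) (ψ : T → ℂ) = n ψ := by
  have h := fun ψ : IrrCharacter T => exists_nat_classInner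
    (isCharacter_restrict T (isCharacter_of_isIrrCharacter χ.2))
    (isCharacter_of_isIrrCharacter ψ.2)
  choose n hn using h
  exact ⟨n, hn⟩

variable {E : Subalgebra.center ℂ (GA T)}

/-- The restriction against the idempotent. -/
theorem sum_E_restrict (hEE : E * E = E) (χ : IrrCharacter G) {n : IrrCharacter T → ℕ}
    (hn : ∀ ψ : IrrCharacter T, classInner (fun t : T => (χ : G → ℂ) t) (ψ : T → ℂ) = n ψ) :
    ∑ t : T, (E : GA T).coeff t * (χ : G → ℂ) t =
      ((∑ ψ : IrrCharacter T, if omegaHom ψ E = 1 then n ψ * charDegree (ψ : T → ℂ) else 0 : ℕ) : ℂ) := by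
  classical
  rw [sum_coeff_restrict (isClassFunction_of_isIrrCharacter χ.2), Nat.cast_sum]
  refine Fintype.sum_congr _ _ fun ψ => ?_
  rw [hn ψ, irr_one_eq]
  rcases omegaHom_eq_zero_or_one hEE ψ with h | h
  · rw [h, if_neg (by simp)]
    simp
  · rw [h, if_pos rfl]
    push_cast
    ring

variable (horth : ∀ x : G, x ∉ T → ∀ ψ : IrrCharacter T, omegaHom ψ E = 1 →
    ∑ t : T, (incl T (E : GA T)).coeff (x * t * x⁻¹) * (ψ : T → ℂ) t = 0)

include horth

theorem sum_E_indFun {ψ : IrrCharacter T} (hψ : omegaHom ψ E = 1) :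
    ∑ t : T, (E : GA T).coeff t * indFun T (ψ : T → ℂ) t = (ψ : T → ℂ) 1 := by
  classical
  rw [← sum_incl_mul, sum_mul_indFun]
  have hcT := card_subgroup_ne_zero T
  rw [inv_mul_eq_iff_eq_mul₀ hcT]
  rw [sum_eq_sum_subgroup T _ (fun x hx => horth x hx ψ hψ)]
  have h1 : ∀ x : T, ∑ t : T, (incl T (E : GA T)).coeff ((x : G) * t * (x : G)⁻¹) * (ψ : T → ℂ) t =
      (ψ : T → ℂ) 1 := by
    intro x
    have h2 : ∑ t : T, (E : GA T).coeff t * (ψ : T → ℂ) t = (ψ : T → ℂ) 1 := by
      have h3 := omegaHom_apply ψ E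
      rw [hψ, lin_apply, eq_div_iff (irr_one_ne_zero ψ.2), one_mul] at h3
      exact h3.symm
    rw [← h2]
    refine Fintype.sum_congr _ _ fun t => ?_
    rw [incl_conj_of_mem (isCentral_of_mem E) _ x.2, coeff_incl_coe]
  simp only [h1]
  rw [Finset.sum_const, Finset.card_univ, nsmul_eq_mul, Nat.card_eq_fintype_card]

theorem isIrr_indFun (hEE : E * E = E) {ψ : IrrCharacter T} (hψ : omegaHom ψ E = 1) :
    IsIrrCharacter G (indFun T (ψ : T → ℂ)) := by
  classical
  have hΨ : IsCharacter G (indFun T (ψ : T → ℂ)) :=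
    isCharacter_indFun T (isCharacter_of_isIrrCharacter ψ.2)
  have h0 : ∀ χ : IrrCharacter G, ∃ n : IrrCharacter T → ℕ, ∀ ψ' : IrrCharacter T,
      classInner (fun t : T => (χ : G → ℂ) t) (ψ' : T → ℂ) = n ψ' := exists_nat_restrict
  choose n hn using h0
  obtain ⟨m, hm⟩ := exists_nat_combination hΨ
  have hmn : ∀ χ : IrrCharacter G, m χ = n χ ψ := by
    intro χ
    have h1 : classInner (indFun T (ψ : T → ℂ)) (χ : G → ℂ) = m χ := by
      rw [hm]
      exact classInner_of_nat_combination m χ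
    rw [classInner_indFun_left T _ _ (isClassFunction_of_isIrrCharacter χ.2)] at h1
    rw [← classInner_conj, hn χ ψ] at h1
    simp only [map_natCast] at h1
    exact_mod_cast h1.symm
  set N : IrrCharacter G → ℕ := fun χ => ∑ ψ' : IrrCharacter T,
    if omegaHom ψ' E = 1 then n χ ψ' * charDegree (ψ' : T → ℂ) else 0 with hN
  have hsum : charDegree (ψ : T → ℂ) = ∑ χ : IrrCharacter G, m χ * N χ := by
    have h1 := sum_E_indFun horth hψ
    rw [irr_one_eq] at h1
    have h2 : ∀ t : T, indFun T (ψ : T → ℂ) t = ∑ χ : IrrCharacter G, (m χ : ℂ) * (χ : G → ℂ) t := by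
      intro t
      rw [hm]
      simp [Finset.sum_apply]
    simp only [h2, Finset.mul_sum] at h1
    rw [Finset.sum_comm] at h1
    have h3 : ∀ χ : IrrCharacter G, ∑ t : T, (E : GA T).coeff t * ((m χ : ℂ) * (χ : G → ℂ) t) =
        ((m χ * N χ : ℕ) : ℂ) := by
      intro χ
      have h4 := sum_E_restrict hEE χ (hn χ)
      have h5 : (N χ : ℂ) = ∑ t : T, (E : GA T).coeff t * (χ : G → ℂ) t := h4.symm
      rw [Nat.cast_mul, h5, Finset.mul_sum]
      refine Fintype.sum_congr _ _ fun t => ?_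
      ring
    simp only [h3] at h1
    exact_mod_cast h1.symm
  have hdpos := charDegree_ne_zero_irr ψ
  have hle : ∀ χ : IrrCharacter G, m χ * charDegree (ψ : T → ℂ) ≤ N χ := by
    intro χ
    rw [hmn χ]
    have h1 := Finset.single_le_sum (f := fun ψ' : IrrCharacter T =>
      if omegaHom ψ' E = 1 then n χ ψ' * charDegree (ψ' : T → ℂ) else 0)
      (fun _ _ => Nat.zero_le _) (Finset.mem_univ ψ)
    simp only [if_pos hψ] at h1
    exact h1
  have hsq : (∑ χ : IrrCharacter G, m χ ^ 2) * charDegree (ψ : T → ℂ) ≤ charDegree (ψ : T → ℂ) := by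
    conv_rhs => rw [hsum]
    rw [Finset.sum_mul]
    refine Finset.sum_le_sum fun χ _ => ?_
    rw [sq, mul_assoc]
    exact Nat.mul_le_mul_left _ (hle χ)
  have hsq1 : ∑ χ : IrrCharacter G, m χ ^ 2 ≤ 1 := by
    by_contra hlt
    push Not at hlt
    have : 2 * charDegree (ψ : T → ℂ) ≤ (∑ χ : IrrCharacter G, m χ ^ 2) * charDegree (ψ : T → ℂ) :=
      Nat.mul_le_mul_right _ hlt
    omega
  have hne : ∑ χ : IrrCharacter G, m χ ^ 2 ≠ 0 := by
    intro h0
    have h1 : ∀ χ : IrrCharacter G, m χ = 0 := fun χ => by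
      have := (Finset.sum_eq_zero_iff.mp h0) χ (Finset.mem_univ χ)
      exact pow_eq_zero_iff (two_ne_zero) |>.mp this
    have h2 : indFun T (ψ : T → ℂ) = 0 := by
      rw [hm]
      simp [h1]
    have h3 := congrFun h2 1
    rw [indFun_one] at h3
    exact (mul_ne_zero (index_ne_zero' T) (irr_one_ne_zero ψ.2)) h3
  have h1 : classInner (indFun T (ψ : T → ℂ)) (indFun T (ψ : T → ℂ)) = 1 := by
    rw [hm, classInner_self_of_nat_combination]
    have : ∑ χ : IrrCharacter G, m χ ^ 2 = 1 := by omega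
    rw [this]
    simp
  exact isIrrCharacter_of_classInner_self_eq_one hΨ h1

/-- The restriction of `ψ^G` contains no other character over `E`. -/
theorem unique_over (hEE : E * E = E) {ψ ψ' : IrrCharacter T} (hψ : omegaHom ψ E = 1)
    (hψ' : omegaHom ψ' E = 1)
    (hne : classInner (fun t : T => indFun T (ψ : T → ℂ) t) (ψ' : T → ℂ) ≠ 0) : ψ' = ψ := by
  classical
  by_contra hdiff
  have hirr := isIrr_indFun horth hEE hψ
  set χ : IrrCharacter G := ⟨indFun T (ψ : T → ℂ), hirr⟩ with hχ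
  obtain ⟨n, hn⟩ := exists_nat_restrict (T := T) χ
  have h1 := sum_E_indFun horth hψ
  have h2 := sum_E_restrict hEE χ hn
  have h3 : (χ : G → ℂ) = indFun T (ψ : T → ℂ) := rfl
  rw [h3] at h2
  rw [h1, irr_one_eq] at h2
  have h4 : charDegree (ψ : T → ℂ) = ∑ ψ'' : IrrCharacter T, if omegaHom ψ'' E = 1 then
      n ψ'' * charDegree (ψ'' : T → ℂ) else 0 := by
    exact_mod_cast h2
  have hnψ : n ψ = 1 := by
    have h5 := hn ψ
    rw [h3] at h5
    have h6 := classInner_indFun_left T (ψ : T → ℂ) (indFun T (ψ : T → ℂ))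
      (isClassFunction_indFun T _)
    rw [classInner_self_of_isIrr hirr] at h6
    rw [← classInner_conj, ← h6] at h5
    simp only [map_one] at h5
    exact_mod_cast h5.symm
  have hnψ' : n ψ' ≠ 0 := by
    intro h0
    have h5 := hn ψ'
    rw [h3, h0] at h5
    exact hne (by simpa using h5)
  have h5 : ∑ ψ'' ∈ ({ψ, ψ'} : Finset (IrrCharacter T)), (if omegaHom ψ'' E = 1 then
      n ψ'' * charDegree (ψ'' : T → ℂ) else 0) ≤ ∑ ψ'' : IrrCharacter T, if omegaHom ψ'' E = 1 then
      n ψ'' * charDegree (ψ'' : T → ℂ) else 0 :=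
    Finset.sum_le_sum_of_subset (Finset.subset_univ _)
  rw [Finset.sum_pair (fun h => hdiff h.symm), if_pos hψ, if_pos hψ', hnψ, ← h4, one_mul] at h5
  have h6 : 0 < n ψ' * charDegree (ψ' : T → ℂ) :=
    Nat.mul_pos (Nat.pos_of_ne_zero hnψ') (Nat.pos_of_ne_zero (charDegree_ne_zero_irr ψ'))
  omega

theorem indFun_injective (hEE : E * E = E) {ψ ψ' : IrrCharacter T} (hψ : omegaHom ψ E = 1)
    (hψ' : omegaHom ψ' E = 1) (h : indFun T (ψ : T → ℂ) = indFun T (ψ' : T → ℂ)) : ψ' = ψ := by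
  apply unique_over horth hEE hψ hψ'
  rw [h]
  apply classInner_ne_zero_comm
  rw [← classInner_indFun_left T _ _ (isClassFunction_indFun T _),
    classInner_self_of_isIrr (isIrr_indFun horth hEE hψ')]
  exact one_ne_zero

/-- Characters over the trace are induced. -/
theorem exists_indFun_eq (hEE : E * E = E) (χ : IrrCharacter G)
    (h : ∑ t : T, (E : GA T).coeff t * (χ : G → ℂ) t ≠ 0) :
    ∃ ψ : IrrCharacter T, omegaHom ψ E = 1 ∧ (χ : G → ℂ) = indFun T (ψ : T → ℂ) := by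
  classical
  obtain ⟨n, hn⟩ := exists_nat_restrict (T := T) χ
  rw [sum_E_restrict hEE χ hn] at h
  have h1 : ∑ ψ : IrrCharacter T, (if omegaHom ψ E = 1 then n ψ * charDegree (ψ : T → ℂ) else 0) ≠ 0 := by
    intro h0
    rw [h0] at h
    simp at h
  obtain ⟨ψ, -, hψ⟩ := Finset.exists_ne_zero_of_sum_ne_zero h1
  by_cases hI : omegaHom ψ E = 1
  · rw [if_pos hI] at hψ
    refine ⟨ψ, hI, ?_⟩
    have hirr := isIrr_indFun horth hEE hI
    by_contra hne
    have h2 := classInner_eq_zero_of_isIrr_of_ne hirr χ.2 (fun h => hne h.symm)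
    rw [classInner_indFun_left T _ _ (isClassFunction_of_isIrrCharacter χ.2)] at h2
    have h3 := hn ψ
    rw [← classInner_conj, h2] at h3
    simp only [map_zero] at h3
    have h4 : n ψ = 0 := by exact_mod_cast h3.symm
    rw [h4, zero_mul] at hψ
    exact hψ rfl
  · rw [if_neg hI] at hψ
    exact absurd rfl hψ

section Trace

variable [Fintype (G ⧸ T)]

/-- The central character of the trace, for a character induced from over `E`. -/
theorem omegaHom_trC_ind (hEE : E * E = E) {ψ : IrrCharacter T} (hψ : omegaHom ψ E = 1)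
    (h : IsIrrCharacter G (indFun T (ψ : T → ℂ))) (z : Subalgebra.center ℂ (GA T)) :
    omegaHom (⟨indFun T (ψ : T → ℂ), h⟩ : IrrCharacter G) (trC (z * E)) = omegaHom ψ z := by
  classical
  have h1 : omegaHom (⟨indFun T (ψ : T → ℂ), h⟩ : IrrCharacter G) (trC (z * E)) =
      lin (indFun T (ψ : T → ℂ)) (trC (z * E) : Subalgebra.center ℂ (GA G)) / indFun T (ψ : T → ℂ) 1 := rfl
  rw [h1, lin_trC (isClassFunction_indFun T _), indFun_one,
    sum_coeff_restrict (isClassFunction_indFun T _)]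
  have h2 : ∑ ψ' : IrrCharacter T, classInner (fun t : T => indFun T (ψ : T → ℂ) t) (ψ' : T → ℂ) *
      (omegaHom ψ' (z * E) * (ψ' : T → ℂ) 1) = omegaHom ψ z * (ψ : T → ℂ) 1 := by
    rw [Finset.sum_eq_single ψ]
    · have h3 := classInner_indFun_left T (ψ : T → ℂ) (indFun T (ψ : T → ℂ))
        (isClassFunction_indFun T _)
      rw [classInner_self_of_isIrr h] at h3
      rw [← classInner_conj, ← h3, map_mul, hψ]
      simp
    · intro ψ' _ hne
      rcases omegaHom_eq_zero_or_one hEE ψ' with h3 | h3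
      · rw [map_mul, h3]
        simp
      · have h4 : classInner (fun t : T => indFun T (ψ : T → ℂ) t) (ψ' : T → ℂ) = 0 := by
          by_contra h5
          exact hne (unique_over horth hEE hψ h3 h5)
        rw [h4, zero_mul]
    · intro h3
      exact absurd (Finset.mem_univ _) h3
  rw [h2]
  have hi := index_ne_zero' T
  have hψ1 := irr_one_ne_zero ψ.2
  field_simp

/-- The central character of the trace vanishes on characters outside the image. -/
theorem omegaHom_trC_eq_zero (hEE : E * E = E) (χ : IrrCharacter G)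
    (h : ∀ ψ : IrrCharacter T, omegaHom ψ E = 1 → (χ : G → ℂ) ≠ indFun T (ψ : T → ℂ))
    (z : Subalgebra.center ℂ (GA T)) : omegaHom χ (trC (z * E)) = 0 := by
  classical
  have h0 : ∑ t : T, (E : GA T).coeff t * (χ : G → ℂ) t = 0 := by
    by_contra hne
    obtain ⟨ψ, h1, h2⟩ := exists_indFun_eq horth hEE χ hne
    exact h ψ h1 h2
  rw [omegaHom_apply, lin_trC (isClassFunction_of_isIrrCharacter χ.2),
    sum_coeff_restrict (isClassFunction_of_isIrrCharacter χ.2)]
  obtain ⟨n, hn⟩ := exists_nat_restrict (T := T) χ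
  have h1 := sum_E_restrict hEE χ hn
  rw [h0] at h1
  have h2 : (∑ ψ : IrrCharacter T, if omegaHom ψ E = 1 then n ψ * charDegree (ψ : T → ℂ) else 0) = 0 := by
    exact_mod_cast h1.symm
  have h3 := Finset.sum_eq_zero_iff.mp h2
  rw [Finset.sum_eq_zero]
  · simp
  · intro ψ _
    rcases omegaHom_eq_zero_or_one hEE ψ with h4 | h4
    · rw [map_mul, h4]
      simp
    · have h5 := h3 ψ (Finset.mem_univ ψ)
      rw [if_pos h4] at h5
      have h6 : n ψ = 0 := by
        rcases Nat.mul_eq_zero.mp h5 with h6 | h6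
        · exact h6
        · exact absurd h6 (charDegree_ne_zero_irr ψ)
      rw [hn ψ, h6]
      simp

end Trace

section Blocks

variable {M : Ideal AlgInt} [hMp : M.IsPrime] [Fintype (G ⧸ T)]

omit horth in
theorem I_of_sameBlock (hEl : E ∈ localCenter M T) {ψ₁ ψ₂ : IrrCharacter T} (hEE : E * E = E)
    (h : SameBlock M (ψ₁ : T → ℂ) (ψ₂ : T → ℂ)) (hψ₁ : omegaHom ψ₁ E = 1) : omegaHom ψ₂ E = 1 := by
  rcases omegaHom_eq_zero_or_one hEE ψ₂ with h2 | h2
  · have h3 := omegaHom_sub_mem_of_sameBlock h hEl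
    rw [hψ₁, h2, sub_zero] at h3
    exact absurd h3 one_notMemLocalIdeal
  · exact h2

omit horth in
theorem sameBlock_of_forall_omega {K : Type*} [Group K] [Fintype K] {χ ψ : IrrCharacter K}
    (h : ∀ z ∈ localCenter M K, MemLocalIdeal M (omegaHom χ z - omegaHom ψ z)) :
    SameBlock M (χ : K → ℂ) (ψ : K → ℂ) := fun g => by
  rw [← omegaHom_classSum, ← omegaHom_classSum]
  exact h _ (classSum_mem_localCenter g)

theorem sameBlock_ind {ψ₁ ψ₂ : IrrCharacter T} (hEE : E * E = E) (hψ₁ : omegaHom ψ₁ E = 1)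
    (hψ₂ : omegaHom ψ₂ E = 1) (h : SameBlock M (ψ₁ : T → ℂ) (ψ₂ : T → ℂ)) :
    SameBlock M (indFun T (ψ₁ : T → ℂ)) (indFun T (ψ₂ : T → ℂ)) := by
  have h1 := isIrr_indFun horth hEE hψ₁
  have h2 := isIrr_indFun horth hEE hψ₂
  refine sameBlock_of_forall_omega (χ := ⟨_, h1⟩) (ψ := ⟨_, h2⟩) fun z hz => ?_
  rw [omegaHom_ind, omegaHom_ind]
  exact indHom_sub_mem_of_sameBlock T h hz

theorem sameBlock_of_ind (hEl : E ∈ localCenter M T) {ψ₁ ψ₂ : IrrCharacter T} (hEE : E * E = E)
    (hψ₁ : omegaHom ψ₁ E = 1) (hψ₂ : omegaHom ψ₂ E = 1)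
    (h : SameBlock M (indFun T (ψ₁ : T → ℂ)) (indFun T (ψ₂ : T → ℂ))) :
    SameBlock M (ψ₁ : T → ℂ) (ψ₂ : T → ℂ) := by
  have h1 := isIrr_indFun horth hEE hψ₁
  have h2 := isIrr_indFun horth hEE hψ₂
  refine sameBlock_of_forall_omega fun z hz => ?_
  rw [← omegaHom_trC_ind horth hEE hψ₁ h1, ← omegaHom_trC_ind horth hEE hψ₂ h2]
  exact omegaHom_sub_mem_of_sameBlock (χ := ⟨_, h1⟩) (ψ := ⟨_, h2⟩) h
    (trC_mem_localCenter (Subring.mul_mem _ hz hEl))

theorem mem_blockOf_ind_iff (hEl : E ∈ localCenter M T) (hEE : E * E = E) {ψ : IrrCharacter T}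
    (hψ : omegaHom ψ E = 1) (χ : IrrCharacter G) :
    χ ∈ blockOf M (indFun T (ψ : T → ℂ)) ↔
      ∃ ψ' ∈ blockOf M (ψ : T → ℂ), (χ : G → ℂ) = indFun T (ψ' : T → ℂ) := by
  classical
  have hirr := isIrr_indFun horth hEE hψ
  constructor
  · intro hχ
    by_cases hex : ∃ ψ' : IrrCharacter T, omegaHom ψ' E = 1 ∧ (χ : G → ℂ) = indFun T (ψ' : T → ℂ)
    · obtain ⟨ψ', h1, h2⟩ := hex
      have h3 : SameBlock M (indFun T (ψ : T → ℂ)) (indFun T (ψ' : T → ℂ)) := by
        rw [← h2]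
        exact hχ
      exact ⟨ψ', sameBlock_of_ind horth hEl hEE hψ h1 h3, h2⟩
    · exfalso
      push Not at hex
      have h1 := omegaHom_trC_eq_zero horth hEE χ hex 1
      have h2 := omegaHom_trC_ind horth hEE hψ hirr 1
      have h3 := omegaHom_sub_mem_of_sameBlock (χ := ⟨_, hirr⟩) (ψ := χ) hχ
        (trC_mem_localCenter (M := M) (Subring.mul_mem _ (Subring.one_mem _) hEl))
      rw [h1, h2, map_one, sub_zero] at h3
      exact one_notMemLocalIdeal h3
  · rintro ⟨ψ', h1, h2⟩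
    have h3 : omegaHom ψ' E = 1 := I_of_sameBlock hEl hEE h1 hψ
    change SameBlock M _ _
    rw [h2]
    exact sameBlock_ind horth hEE hψ h3 h1

omit [Fintype (G ⧸ T)] in
theorem isInducedBlock_ind (hEE : E * E = E) {ψ : IrrCharacter T} (hψ : omegaHom ψ E = 1) :
    IsInducedBlock M T (blockOf M (ψ : T → ℂ)) (blockOf M (indFun T (ψ : T → ℂ))) := by
  have hirr := isIrr_indFun horth hEE hψ
  refine isInducedBlock_of_forall T ⟨ψ, rfl⟩ ⟨⟨_, hirr⟩, rfl⟩ (mem_blockOf_self ψ)
    (mem_blockOf_self ⟨_, hirr⟩) fun g => ?_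
  rw [← indHom_classSum]
  have h1 := omegaHom_ind ψ hirr (classSum g)
  rw [omegaHom_classSum] at h1
  simp only at h1
  rw [h1, sub_self]
  exact memLocalIdeal_zero

omit horth [Fintype (G ⧸ T)] in
theorem idem_mul_E (hEl : E ∈ localCenter M T) (hEE : E * E = E) {ψ : IrrCharacter T}
    (hψ : omegaHom ψ E = 1) : idem (blockOf M (ψ : T → ℂ)) * E = idem (blockOf M (ψ : T → ℂ)) := by
  classical
  apply omegaHom_injective
  intro ψ'
  rw [map_mul, omegaHom_idem]
  split_ifs with h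
  · rw [one_mul]
    exact I_of_sameBlock hEl hEE h hψ
  · rw [zero_mul]

theorem idem_ind (hEl : E ∈ localCenter M T) (hEE : E * E = E) {ψ : IrrCharacter T}
    (hψ : omegaHom ψ E = 1) :
    idem (blockOf M (indFun T (ψ : T → ℂ))) = trC (idem (blockOf M (ψ : T → ℂ))) := by
  classical
  symm
  apply eq_idem_of_omegaHom
  intro χ
  rw [← idem_mul_E hEl hEE hψ]
  by_cases hex : ∃ ψ' : IrrCharacter T, omegaHom ψ' E = 1 ∧ (χ : G → ℂ) = indFun T (ψ' : T → ℂ)
  · obtain ⟨ψ', h1, h2⟩ := hex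
    have h3 : χ = ⟨indFun T (ψ' : T → ℂ), isIrr_indFun horth hEE h1⟩ := Subtype.ext h2
    have h4 := omegaHom_trC_ind horth hEE h1 (isIrr_indFun horth hEE h1)
      (idem (blockOf M (ψ : T → ℂ)))
    rw [← h3] at h4
    rw [h4, omegaHom_idem]
    have h5 : χ ∈ blockOf M (indFun T (ψ : T → ℂ)) ↔ ψ' ∈ blockOf M (ψ : T → ℂ) := by
      rw [mem_blockOf_ind_iff horth hEl hEE hψ]
      constructor
      · rintro ⟨ψ'', h6, h7⟩
        have h8 : omegaHom ψ'' E = 1 := I_of_sameBlock hEl hEE h6 hψ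
        have h9 := indFun_injective horth hEE h1 h8 (h2.symm.trans h7)
        rwa [← h9]
      · intro h6
        exact ⟨ψ', h6, h2⟩
    simp only [h5]
  · have hex' : ∀ ψ' : IrrCharacter T, omegaHom ψ' E = 1 → (χ : G → ℂ) ≠ indFun T (ψ' : T → ℂ) := by
      intro ψ' h1 h2
      exact hex ⟨ψ', h1, h2⟩
    rw [omegaHom_trC_eq_zero horth hEE χ hex', if_neg]
    intro h1
    obtain ⟨ψ', h2, h3⟩ := (mem_blockOf_ind_iff horth hEl hEE hψ χ).mp h1
    exact hex' ψ' (I_of_sameBlock hEl hEE h2 hψ) h3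

theorem blockCoeff_ind (hEl : E ∈ localCenter M T) (hEE : E * E = E) {ψ : IrrCharacter T}
    (hψ : omegaHom ψ E = 1) (g : G) :
    blockCoeff (blockOf M (indFun T (ψ : T → ℂ))) g =
      (relTr T (incl T ((idem (blockOf M (ψ : T → ℂ)) : Subalgebra.center ℂ (GA T)) : GA T)).coeff).coeff g := by
  have h := idem_ind horth hEl hEE hψ
  exact congrArg (fun x : Subalgebra.center ℂ (GA G) => (x : GA G).coeff g) h

omit horth [Fintype (G ⧸ T)] hMp in
theorem map_subtype_conj (A : Subgroup T) (a : T) :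
    (A.map (MulAut.conj a).toMonoidHom).map T.subtype =
      (A.map T.subtype).map (MulAut.conj (a : G)).toMonoidHom := by
  ext x
  simp only [Subgroup.mem_map, MulEquiv.coe_toMonoidHom, MulAut.conj_apply, Subgroup.subtype_apply]
  constructor
  · rintro ⟨_, ⟨b, hb, rfl⟩, rfl⟩
    exact ⟨b, ⟨b, hb, rfl⟩, rfl⟩
  · rintro ⟨_, ⟨b, hb, rfl⟩, rfl⟩
    exact ⟨_, ⟨b, hb, rfl⟩, rfl⟩

omit horth [Fintype (G ⧸ T)] hMp in
theorem charDegree_ind (ψ : IrrCharacter T) :
    charDegree (indFun T (ψ : T → ℂ)) = T.index * charDegree (ψ : T → ℂ) := by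
  apply Cfsg.Agent.Lib.Char.Degree.charDegree_eq_of_eq_natCast
  rw [indFun_one, irr_one_eq]
  push_cast
  rfl

variable {p : ℕ} [hpf : Fact p.Prime]

omit horth [Fintype (G ⧸ T)] hMp in
theorem factorization_ind (ψ : IrrCharacter T) :
    (charDegree (indFun T (ψ : T → ℂ))).factorization p =
      T.index.factorization p + (charDegree (ψ : T → ℂ)).factorization p := by
  rw [charDegree_ind, Nat.factorization_mul Subgroup.index_ne_zero_of_finite (charDegree_ne_zero_irr ψ)]
  rfl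

omit horth [Fintype (G ⧸ T)] hMp in
theorem factorization_card_eq :
    (Nat.card G).factorization p = (Nat.card T).factorization p + T.index.factorization p := by
  rw [card_eq_card_mul_index T, Nat.factorization_mul Nat.card_pos.ne' Subgroup.index_ne_zero_of_finite]
  rfl

open Cfsg.Agent.Lib.BlockP.Defect in
theorem minExp_ind (hEl : E ∈ localCenter M T) (hEE : E * E = E) {ψ : IrrCharacter T}
    (hψ : omegaHom ψ E = 1) :
    minExp p (blockOf M (indFun T (ψ : T → ℂ))) =
      T.index.factorization p + minExp p (blockOf M (ψ : T → ℂ)) := by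
  classical
  have hirr := isIrr_indFun horth hEE hψ
  apply le_antisymm
  · obtain ⟨ψ₀, h1, h2⟩ := exists_minExp p (isPBlock_nonempty (M := M) (B := blockOf M (ψ : T → ℂ)) ⟨ψ, rfl⟩)
    have h3 : omegaHom ψ₀ E = 1 := I_of_sameBlock hEl hEE h1 hψ
    have h4 : (⟨indFun T (ψ₀ : T → ℂ), isIrr_indFun horth hEE h3⟩ : IrrCharacter G) ∈
        blockOf M (indFun T (ψ : T → ℂ)) :=
      (mem_blockOf_ind_iff horth hEl hEE hψ _).mpr ⟨ψ₀, h1, rfl⟩
    have h5 := minExp_le p h4
    rw [factorization_ind, h2] at h5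
    exact h5
  · obtain ⟨χ₀, h1, h2⟩ := exists_minExp p (isPBlock_nonempty (M := M)
      (B := blockOf M (indFun T (ψ : T → ℂ))) ⟨⟨_, hirr⟩, rfl⟩)
    obtain ⟨ψ₁, h3, h4⟩ := (mem_blockOf_ind_iff horth hEl hEE hψ χ₀).mp h1
    rw [← h2, h4, factorization_ind]
    have h5 := minExp_le p h3
    omega

open Cfsg.Agent.Lib.BlockP.Defect in
theorem blockDefect_ind (hEl : E ∈ localCenter M T) (hEE : E * E = E) {ψ : IrrCharacter T}
    (hψ : omegaHom ψ E = 1) :
    blockDefect p (blockOf M (indFun T (ψ : T → ℂ))) = blockDefect p (blockOf M (ψ : T → ℂ)) := by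
  change (Nat.card G).factorization p - minExp p _ = (Nat.card T).factorization p - minExp p _
  rw [minExp_ind horth hEl hEE hψ, factorization_card_eq (T := T)]
  omega

open Cfsg.Agent.Lib.BlockP.Defect in
theorem blockHeight_ind (hEl : E ∈ localCenter M T) (hEE : E * E = E) {ψ : IrrCharacter T}
    (hψ : omegaHom ψ E = 1) (ψ' : IrrCharacter T) :
    blockHeight p (blockOf M (indFun T (ψ : T → ℂ))) (indFun T (ψ' : T → ℂ)) =
      blockHeight p (blockOf M (ψ : T → ℂ)) (ψ' : T → ℂ) := by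
  change (charDegree (indFun T (ψ' : T → ℂ))).factorization p - minExp p _ =
    (charDegree (ψ' : T → ℂ)).factorization p - minExp p _
  rw [minExp_ind horth hEl hEE hψ, factorization_ind]
  omega

open Cfsg.Agent.Lib.BlockP.Defect Cfsg.Agent.Lib.Blocks.Defect Cfsg.Agent.Lib.Blocks.Defect2
  Cfsg.Agent.Lib.BlockT.SylowIn Cfsg.Agent.Lib.Blocks.Inducing in
theorem isDefectGroup_ind (hM : IsPModular p M) (hEl : E ∈ localCenter M T) (hEE : E * E = E)
    {ψ : IrrCharacter T} (hψ : omegaHom ψ E = 1) {D : Subgroup T}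
    (hD : IsDefectGroup p M (blockOf M (ψ : T → ℂ)) D) :
    IsDefectGroup p M (blockOf M (indFun T (ψ : T → ℂ))) (D.map T.subtype) := by
  classical
  have hirr := isIrr_indFun horth hEE hψ
  set B := blockOf M (indFun T (ψ : T → ℂ)) with hBdef
  set B' := blockOf M (ψ : T → ℂ) with hB'def
  have hB : IsPBlock M B := ⟨⟨_, hirr⟩, rfl⟩
  have hB' : IsPBlock M B' := ⟨ψ, rfl⟩
  obtain ⟨D₂, hD₂⟩ := exists_isDefectGroup (p := p) hB
  obtain ⟨x, hx, hS⟩ := isDefectGroup_isSylowIn hD₂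
  set β : G → ℂ := ⇑(incl T ((idem B' : Subalgebra.center ℂ (GA T)) : GA T)).coeff with hβdef
  have hβ : ∀ t ∈ T, ∀ g, β (t * g * t⁻¹) = β g :=
    incl_conj_of_mem (isCentral_of_mem (idem B'))
  have hl : ∀ g, MemLocalRing M (β g) := Rc.incl T (idem_mem_localCenter hB')
  have hD₂p : IsPGroup p D₂ := isDefectGroup_isPGroup hD₂
  have hc : x ∈ Subgroup.centralizer (D₂ : Set G) := by
    rw [Subgroup.mem_centralizer_iff]
    intro u hu
    have h1 := hS.le hu
    rw [Subgroup.mem_centralizer_singleton_iff] at h1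
    exact h1
  set S : Finset (G ⧸ T) := Finset.univ.filter (fun q => ∀ u : D₂, (u : G) • q = q) with hSdef
  have h1 := relTr_sub_fixed hM hD₂p hβ hl hc S (by simp [hSdef])
  have h2 : ¬ MemLocalIdeal M (∑ q ∈ S, β (q.out⁻¹ * x * q.out)) := by
    intro h3
    apply hx.2.1
    rw [hBdef, blockCoeff_ind horth hEl hEE hψ]
    have h4 := memLocalIdeal_add h1 h3
    simpa using h4
  obtain ⟨q, hq, hq2⟩ := exists_notMem_of_sum_notMem _ _ h2
  have hq3 : ∀ u ∈ D₂, q.out⁻¹ * u * q.out ∈ T :=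
    (smul_eq_iff (R := D₂) q).mp (Finset.mem_filter.mp hq).2
  set w := q.out with hw
  set x' := w⁻¹ * x * w with hx'
  have hx'T : x' ∈ T := by
    by_contra h3
    apply hq2
    rw [hβdef, coeff_incl_of_notMem T _ h3]
    exact memLocalIdeal_zero
  have hcoef : ¬ MemLocalIdeal M (blockCoeff B' (⟨x', hx'T⟩ : T)) := by
    intro h3
    apply hq2
    rw [hβdef, coeff_incl_of_mem T _ hx'T]
    exact h3
  set D₂' := D₂.map (MulAut.conj w⁻¹).toMonoidHom with hD₂'
  have hD₂'T : D₂' ≤ T := by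
    rintro _ ⟨u, hu, rfl⟩
    have := hq3 u hu
    simpa using this
  set D₃ : Subgroup T := D₂'.subgroupOf T with hD₃
  have hD₃map : D₃.map T.subtype = D₂' := Subgroup.map_subgroupOf_eq_of_le hD₂'T
  have hcardD₃ : Nat.card D₃ = Nat.card D₂ := by
    rw [hD₃, card_subgroupOf_of_le hD₂'T, hD₂', card_conj_eq]
  have hD₃p : IsPGroup p D₃ := by
    have : IsPGroup p D₂' := hD₂p.map _
    exact IsPGroup.of_equiv this (Subgroup.subgroupOfEquivOfLe hD₂'T).symm
  have hD₃C : D₃ ≤ Subgroup.centralizer ({(⟨x', hx'T⟩ : T)} : Set T) := by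
    intro u hu
    rw [Subgroup.mem_centralizer_singleton_iff]
    apply Subtype.ext
    have h3 : (u : G) ∈ D₂' := hu
    obtain ⟨v, hv, hv2⟩ := h3
    have h4 := hS.le hv
    rw [Subgroup.mem_centralizer_singleton_iff] at h4
    show (u : G) * x' = x' * (u : G)
    rw [← hv2]
    simp only [MulEquiv.coe_toMonoidHom, MulAut.conj_apply, inv_inv, hx']
    calc w⁻¹ * v * w * (w⁻¹ * x * w) = w⁻¹ * (v * x) * w := by group
      _ = w⁻¹ * (x * v) * w := by rw [h4]
      _ = _ := by group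
  obtain ⟨t₀, ht₀, hs₀⟩ := isDefectGroup_isSylowIn hD
  obtain ⟨y, hy⟩ := minmax_conj_le hM hB' (mem_blockOf_self ψ) (ht₀.2.2 ψ (mem_blockOf_self ψ))
    hcoef hD₃p hD₃C
  have hcard : Nat.card (D₃.map (MulAut.conj y).toMonoidHom) =
      p ^ (Nat.card (Subgroup.centralizer ({t₀} : Set T))).factorization p := by
    rw [card_conj_eq, hcardD₃, card_eq_pow_blockDefect hM hB hD₂, hBdef,
      blockDefect_ind horth hEl hEE hψ, factorization_centralizer_eq hM hB' ht₀]
  have hD₄ : IsDefectGroup p M B' (D₃.map (MulAut.conj y).toMonoidHom) :=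
    isDefectGroup_of_isSylowIn ht₀ (isSylowIn_of_card hy hcard)
  obtain ⟨z, hz⟩ := isDefectGroup_exists_conj_eq hM hB' hD₄ hD
  rw [hz, map_subtype_conj, map_subtype_conj, hD₃map]
  exact isDefectGroup_conj (isDefectGroup_conj (isDefectGroup_conj hD₂ _) _) _

end Blocks

end Abstract

end Cfsg.Agent.Lib.Blocks.FR
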