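import Mathlib
import Cfsg.Agent.Lib.Blocks.Knorr

/-!
# Central defect groups (Laradji)

* `det_one_sub_ne_zero`: a matrix with entries in the local ideal: `det (1 - A) ≠ 0`.
* `eq_zero_of_idempotent_of_local`: an idempotent matrix with entries in the local ideal is zero.
* `exists_value_notMem`: if `D` is a central `p`-subgroup and `χ(1)_p = |G : D|_p`, then some value
  of `χ` is not in `J`.
* `isDefectGroup_of_central`: S0969.
-/

set_option linter.unusedSectionVars false
set_option autoImplicit false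
set_option linter.style.haveILetI false

namespace Cfsg.Agent.Lib.Blocks.CentralDefect

open Cfsg MonoidAlgebra
open Cfsg.Agent.Lib.Blocks.Local Cfsg.Agent.Lib.Blocks.Central
open Cfsg.Agent.Lib.Blocks.Weak Cfsg.Agent.Lib.Blocks.Brauer Cfsg.Agent.Lib.Blocks.Induced
open Cfsg.Agent.Lib.Blocks.PPart Cfsg.Agent.Lib.Blocks.Main Cfsg.Agent.Lib.Blocks.Third
open Cfsg.Agent.Lib.Blocks.General Cfsg.Agent.Lib.Blocks.Defect Cfsg.Agent.Lib.Blocks.Defect2
open Cfsg.Agent.Lib.Blocks.Sections Cfsg.Agent.Lib.Blocks.Heights Cfsg.Agent.Lib.Blocks.Inducing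
open Cfsg.Agent.Lib.BlockT.SylowIn Cfsg.Agent.Lib.BlockP.Stable Cfsg.Agent.Lib.BlockP.Defect
open scoped ComplexConjugate

universe u

section Matrix

variable {M : Ideal AlgInt} [hMp : M.IsPrime] {n : Type*} [Fintype n] [DecidableEq n]

theorem prod_one_sub_sub_one_mem (s : Finset n) (a : n → ℂ) (ha : ∀ i, MemLocalIdeal M (a i)) :
    MemLocalIdeal M (∏ i ∈ s, (1 - a i) - 1) := by
  classical
  induction s using Finset.induction_on with
  | empty => simpa using memLocalIdeal_zero
  | insert i s hi ih =>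
    rw [Finset.prod_insert hi]
    have h1 : (1 - a i) * ∏ j ∈ s, (1 - a j) - 1 =
        (∏ j ∈ s, (1 - a j) - 1) - a i * ∏ j ∈ s, (1 - a j) := by ring
    rw [h1]
    refine memLocalIdeal_sub ih (memLocalIdeal_mul_right (ha i) ?_)
    exact memLocalRing_prod _ _ fun j _ =>
      memLocalRing_sub memLocalRing_one (memLocalRing_of_memLocalIdeal (ha j))

/-- `det (1 - A) ≠ 0` for `A` with entries in the local ideal. -/
theorem det_one_sub_ne_zero (A : Matrix n n ℂ) (hA : ∀ i j, MemLocalIdeal M (A i j)) :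
    (1 - A).det ≠ 0 := by
  classical
  have hent : ∀ i j, MemLocalRing M ((1 - A) i j) := by
    intro i j
    rw [Matrix.sub_apply, Matrix.one_apply]
    refine memLocalRing_sub ?_ (memLocalRing_of_memLocalIdeal (hA i j))
    split_ifs
    · exact memLocalRing_one
    · exact memLocalRing_zero
  have key : MemLocalIdeal M ((1 - A).det - 1) := by
    rw [Matrix.det_apply, ← Finset.add_sum_erase Finset.univ _ (Finset.mem_univ (1 : Equiv.Perm n))]
    have e : ∀ a b : ℂ, a + b - 1 = (a - 1) + b := by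
      intro a b
      ring
    rw [e]
    refine memLocalIdeal_add ?_ ?_
    · simp only [Equiv.Perm.sign_one, Units.val_one, one_smul, Equiv.Perm.one_apply,
        Matrix.sub_apply, Matrix.one_apply_eq]
      exact prod_one_sub_sub_one_mem _ _ fun i => hA i i
    · apply memLocalIdeal_sum
      intro σ hσ
      have hσ1 : σ ≠ 1 := (Finset.mem_erase.mp hσ).1
      obtain ⟨i, hi⟩ : ∃ i, σ i ≠ i := by
        by_contra hcon
        push Not at hcon
        exact hσ1 (Equiv.ext hcon)
      have hprod : MemLocalIdeal M (∏ j, (1 - A) (σ j) j) := by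
        rw [← Finset.mul_prod_erase Finset.univ _ (Finset.mem_univ i)]
        refine memLocalIdeal_mul_right ?_ (memLocalRing_prod _ _ fun j _ => hent _ _)
        rw [Matrix.sub_apply, Matrix.one_apply_ne hi, zero_sub]
        exact memLocalIdeal_neg (hA _ _)
      rcases Int.units_eq_one_or (Equiv.Perm.sign σ) with h | h
      · rw [h]
        simpa using hprod
      · rw [h]
        simpa using memLocalIdeal_neg hprod
  intro h0
  rw [h0, zero_sub] at key
  apply one_notMemLocalIdeal (M := M)
  simpa using memLocalIdeal_neg key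

/-- An idempotent matrix with entries in the local ideal is zero. -/
theorem eq_zero_of_idempotent_of_local (P : Matrix n n ℂ) (hP : P * P = P)
    (hJ : ∀ i j, MemLocalIdeal M (P i j)) : P = 0 := by
  have hdet := det_one_sub_ne_zero P hJ
  have hu : IsUnit (1 - P).det := isUnit_iff_ne_zero.mpr hdet
  have h1 : P * (1 - P) = 0 := by
    rw [mul_sub, mul_one, hP, sub_self]
  calc P = P * ((1 - P) * (1 - P)⁻¹) := by rw [Matrix.mul_nonsing_inv _ hu, mul_one]
    _ = (P * (1 - P)) * (1 - P)⁻¹ := by rw [mul_assoc]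
    _ = 0 := by rw [h1, zero_mul]

end Matrix

section Value

variable {G : Type u} [Group G] [Fintype G] [Fintype (IrrCharacter G)] {M : Ideal AlgInt} {p : ℕ}
  [hMp : M.IsPrime] [Fact p.Prime]

/-- Generalized orthogonality. -/
theorem sum_inv_mul_irr (χ : IrrCharacter G) (y : G) :
    ∑ k : G, (χ : G → ℂ) k⁻¹ * (χ : G → ℂ) (k * y) =
      ((Nat.card G : ℂ) / (χ : G → ℂ) 1) * (χ : G → ℂ) y := by
  classical
  have h := sum_idem_mul_irr ({χ} : Set (IrrCharacter G)) χ y
  rw [if_pos (Set.mem_singleton χ)] at h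
  have hne : (χ : G → ℂ) 1 ≠ 0 := Cfsg.Agent.Lib.Char.Complete.irr_one_ne_zero χ.2
  have hG : (Nat.card G : ℂ) ≠ 0 := Nat.cast_ne_zero.mpr Nat.card_pos.ne'
  have e : ∀ k : G, blockCoeff ({χ} : Set (IrrCharacter G)) k =
      (Nat.card G : ℂ)⁻¹ * ((χ : G → ℂ) 1 * (χ : G → ℂ) k⁻¹) := by
    intro k
    rw [blockCoeff, finsum_mem_singleton, Cfsg.Agent.Lib.Char.Ortho.char_inv_eq_conj
      (Cfsg.Agent.Lib.Char.Basic.isCharacter_of_isIrrCharacter χ.2)]
  simp only [e] at h
  have h2 : ∑ k : G, (Nat.card G : ℂ)⁻¹ * ((χ : G → ℂ) 1 * (χ : G → ℂ) k⁻¹) * (χ : G → ℂ) (k * y) =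
      (Nat.card G : ℂ)⁻¹ * (χ : G → ℂ) 1 * ∑ k : G, (χ : G → ℂ) k⁻¹ * (χ : G → ℂ) (k * y) := by
    rw [Finset.mul_sum]
    refine Fintype.sum_congr _ _ fun k => ?_
    ring
  rw [h2] at h
  field_simp
  field_simp at h
  rw [← h]
  ring

/-- Central elements act by scalars. -/
theorem irr_central_mul (χ : IrrCharacter G) {z : G} (hz : z ∈ Subgroup.center G) (g : G) :
    (χ : G → ℂ) (z * g) = ((χ : G → ℂ) z / (χ : G → ℂ) 1) * (χ : G → ℂ) g := by
  classical
  have hc : IsCentral (single z (1 : ℂ) : GA G) := by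
    intro a b
    have hb : b * z = z * b := Subgroup.mem_center_iff.mp hz b
    have e : b * a * b⁻¹ = z ↔ a = z := by
      constructor
      · intro h
        have h1 : a = b⁻¹ * z * b := by rw [← h]; group
        rw [h1]
        calc b⁻¹ * z * b = b⁻¹ * (z * b) := by group
          _ = b⁻¹ * (b * z) := by rw [hb]
          _ = z := by group
      · rintro rfl
        calc b * a * b⁻¹ = (a * b) * b⁻¹ := by rw [hb]
          _ = a := by group
    rw [coeff_single, Finsupp.single_apply, Finsupp.single_apply]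
    have e' : z = b * a * b⁻¹ ↔ z = a := by
      rw [eq_comm, e, eq_comm]
    simp only [e']
  have h := lin_central_mul χ.2 hc (single g (1 : ℂ))
  rw [MonoidAlgebra.single_mul_single, lin_single, lin_single, one_mul, one_mul, omega, lin_single,
    one_mul] at h
  simpa using h

/-- The quotient sum. -/
theorem sum_eq_card_mul_sum_quotient (D : Subgroup G) [Fintype (G ⧸ D)] [Fintype D] (f : G → ℂ)
    (hf : ∀ g : G, ∀ z ∈ D, f (g * z) = f g) :
    ∑ g : G, f g = (Nat.card D : ℂ) * ∑ q : G ⧸ D, f q.out := by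
  classical
  have hbij : Function.Bijective (fun x : (G ⧸ D) × D => x.1.out * (x.2 : G)) := by
    constructor
    · rintro ⟨q, z⟩ ⟨q', z'⟩ h
      simp only at h
      have hq : q = q' := by
        have h1 : (q.out * (z : G) : G ⧸ D) = q := by
          rw [QuotientGroup.mk_mul_of_mem _ z.2, QuotientGroup.out_eq']
        have h2 : (q'.out * (z' : G) : G ⧸ D) = q' := by
          rw [QuotientGroup.mk_mul_of_mem _ z'.2, QuotientGroup.out_eq']
        rw [← h1, ← h2, h]
      subst hq
      have hz : z = z' := Subtype.ext (mul_left_cancel h)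
      rw [hz]
    · intro g
      have hmem : (QuotientGroup.mk g : G ⧸ D).out⁻¹ * g ∈ D := by
        rw [← QuotientGroup.eq, QuotientGroup.out_eq']
      exact ⟨(QuotientGroup.mk g, ⟨_, hmem⟩), by simp⟩
  rw [← hbij.sum_comp, Fintype.sum_prod_type, Finset.mul_sum]
  refine Fintype.sum_congr _ _ fun q => ?_
  have h : ∀ z : D, f (q.out * (z : G)) = f q.out := fun z => hf _ _ z.2
  simp only [h]
  rw [Finset.sum_const, Finset.card_univ, nsmul_eq_mul, Nat.card_eq_fintype_card]

/-- Values not in the local ideal, for `χ(1)_p = |G : D|_p`. -/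
theorem exists_value_notMem (hM : IsPModular p M) {D : Subgroup G} (hDZ : D ≤ Subgroup.center G)
    (χ : IrrCharacter G)
    (hdeg : (charDegree (χ : G → ℂ)).factorization p = D.index.factorization p) :
    ∃ g : G, ¬ MemLocalIdeal M ((χ : G → ℂ) g) := by
  classical
  letI : Fintype (G ⧸ D) := Fintype.ofFinite _
  letI : Fintype D := Fintype.ofFinite _
  have hp := prime_of_pModular hM
  have hne : (χ : G → ℂ) 1 ≠ 0 := Cfsg.Agent.Lib.Char.Complete.irr_one_ne_zero χ.2
  have hdne : charDegree (χ : G → ℂ) ≠ 0 := charDegree_ne_zero_irr χ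
  have hidx : D.index ≠ 0 := Subgroup.index_ne_zero_of_finite
  -- `m = |G : D| / χ(1)`
  set m : ℂ := (D.index : ℂ) / (χ : G → ℂ) 1 with hm
  have hdC : (χ : G → ℂ) 1 = (charDegree (χ : G → ℂ) : ℂ) := irr_one_eq χ
  have hmne : m ≠ 0 := div_ne_zero (Nat.cast_ne_zero.mpr hidx) hne
  -- local: `m⁻¹` is a local number
  have hminv : MemLocalRing M m⁻¹ := by
    have h1 := Nat.ordProj_mul_ordCompl_eq_self (D.index) p
    have h2 := Nat.ordProj_mul_ordCompl_eq_self (charDegree (χ : G → ℂ)) p
    rw [hdeg] at h2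
    have h3 : ¬ p ∣ D.index / p ^ D.index.factorization p := Nat.not_dvd_ordCompl hp hidx
    have e : m⁻¹ = ((charDegree (χ : G → ℂ) / p ^ D.index.factorization p : ℕ) : ℂ) *
        ((D.index / p ^ D.index.factorization p : ℕ) : ℂ)⁻¹ := by
      have hpne : ((p ^ D.index.factorization p : ℕ) : ℂ) ≠ 0 :=
        Nat.cast_ne_zero.mpr (pow_ne_zero _ hp.ne_zero)
      have h4 : (D.index : ℂ) = ((p ^ D.index.factorization p : ℕ) : ℂ) *
          ((D.index / p ^ D.index.factorization p : ℕ) : ℂ) := by
        exact_mod_cast h1.symm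
      have h5 : (charDegree (χ : G → ℂ) : ℂ) = ((p ^ D.index.factorization p : ℕ) : ℂ) *
          ((charDegree (χ : G → ℂ) / p ^ D.index.factorization p : ℕ) : ℂ) := by
        exact_mod_cast h2.symm
      rw [hm, hdC, inv_div]
      conv_lhs => rw [h4, h5]
      rw [mul_div_mul_left _ _ hpne]
      rfl
    rw [e]
    exact memLocalRing_mul (memLocalRing_natCast _) (memLocalRing_natCast_inv hM h3)
  by_contra hcon
  push Not at hcon
  -- the idempotent matrix
  let P : Matrix (G ⧸ D) (G ⧸ D) ℂ := fun s u => m⁻¹ * (χ : G → ℂ) (s.out * u.out⁻¹)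
  have hPJ : ∀ s u, MemLocalIdeal M (P s u) := fun s u => memLocalIdeal_mul_left hminv (hcon _)
  have hlam : ∀ z ∈ D, ((χ : G → ℂ) z / (χ : G → ℂ) 1) * ((χ : G → ℂ) z⁻¹ / (χ : G → ℂ) 1) = 1 := by
    intro z hz
    have h1 := irr_central_mul χ (hDZ hz) z⁻¹
    rw [mul_inv_cancel] at h1
    calc (χ : G → ℂ) z / (χ : G → ℂ) 1 * ((χ : G → ℂ) z⁻¹ / (χ : G → ℂ) 1)
        = ((χ : G → ℂ) z / (χ : G → ℂ) 1 * (χ : G → ℂ) z⁻¹) / (χ : G → ℂ) 1 := by ring
      _ = (χ : G → ℂ) 1 / (χ : G → ℂ) 1 := by rw [← h1]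
      _ = 1 := div_self hne
  have hPP : P * P = P := by
    ext s u
    rw [Matrix.mul_apply]
    simp only [P]
    -- the sum over the quotient
    let f : G → ℂ := fun t => (χ : G → ℂ) (s.out * t⁻¹) * (χ : G → ℂ) (t * u.out⁻¹)
    have hfinv : ∀ g : G, ∀ z ∈ D, f (g * z) = f g := by
      intro g z hz
      simp only [f]
      have hzc : ∀ a : G, a * z = z * a := fun a => Subgroup.mem_center_iff.mp (hDZ hz) a
      have hzc' : ∀ a : G, a * z⁻¹ = z⁻¹ * a := fun a =>
        Subgroup.mem_center_iff.mp (Subgroup.inv_mem _ (hDZ hz)) a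
      have e1 : s.out * (g * z)⁻¹ = z⁻¹ * (s.out * g⁻¹) := by
        rw [mul_inv_rev, ← mul_assoc, hzc', mul_assoc]
      have e2 : g * z * u.out⁻¹ = z * (g * u.out⁻¹) := by
        rw [hzc g, mul_assoc]
      rw [e1, e2, irr_central_mul χ (Subgroup.inv_mem _ (hDZ hz)),
        irr_central_mul χ (hDZ hz)]
      have := hlam z hz
      linear_combination ((χ : G → ℂ) (s.out * g⁻¹) * (χ : G → ℂ) (g * u.out⁻¹)) * this
    have hsum := sum_eq_card_mul_sum_quotient D f hfinv
    have horth : ∑ g : G, f g = ((Nat.card G : ℂ) / (χ : G → ℂ) 1) *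
        (χ : G → ℂ) (s.out * u.out⁻¹) := by
      rw [← sum_inv_mul_irr χ (s.out * u.out⁻¹)]
      refine (Equiv.sum_comp (Equiv.mulRight s.out) f).symm.trans ?_
      refine Fintype.sum_congr _ _ fun t => ?_
      simp only [f, Equiv.coe_mulRight]
      have e1 : s.out * (t * s.out)⁻¹ = t⁻¹ := by group
      have e2 : t * s.out * u.out⁻¹ = t * (s.out * u.out⁻¹) := by group
      rw [e1, e2]
    have hcardD : (Nat.card D : ℂ) ≠ 0 := Nat.cast_ne_zero.mpr Nat.card_pos.ne'
    have hG : (Nat.card G : ℂ) = (Nat.card D : ℂ) * (D.index : ℂ) := by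
      rw [← Nat.cast_mul, Subgroup.card_mul_index]
    have hq : ∑ q : G ⧸ D, f q.out = m * (χ : G → ℂ) (s.out * u.out⁻¹) := by
      apply mul_left_cancel₀ hcardD
      rw [← hsum, horth, hG, hm]
      field_simp
    have e3 : ∀ q : G ⧸ D, m⁻¹ * (χ : G → ℂ) (s.out * q.out⁻¹) * (m⁻¹ * (χ : G → ℂ) (q.out * u.out⁻¹)) =
        m⁻¹ * m⁻¹ * f q.out := by
      intro q
      simp only [f]
      ring
    rw [Finset.sum_congr rfl (fun q _ => e3 q), ← Finset.mul_sum, hq]
    field_simp
  have h0 := eq_zero_of_idempotent_of_local P hPP hPJ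
  have h1 : P (QuotientGroup.mk 1) (QuotientGroup.mk 1) = 0 := by
    rw [h0]
    rfl
  simp only [P] at h1
  rw [mul_inv_cancel] at h1
  rcases mul_eq_zero.mp h1 with h2 | h2
  · exact inv_ne_zero hmne h2
  · exact hne h2

/-- The central character does not vanish modulo `J` on some class with `|C(g)|_p = |D|`. -/
theorem exists_omega_notMem (hM : IsPModular p M) {D : Subgroup G} (hDZ : D ≤ Subgroup.center G)
    (χ : IrrCharacter G)
    (hdeg : (charDegree (χ : G → ℂ)).factorization p = D.index.factorization p) :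
    ∃ g : G, ¬ MemLocalIdeal M (centralChar (χ : G → ℂ) g) ∧
      (Nat.card (Subgroup.centralizer ({g} : Set G))).factorization p =
        (Nat.card D).factorization p := by
  classical
  have hp := prime_of_pModular hM
  obtain ⟨g, hg⟩ := exists_value_notMem hM hDZ χ hdeg
  have hDC : D ≤ Subgroup.centralizer ({g} : Set G) := by
    intro z hz
    rw [Subgroup.mem_centralizer_iff]
    intro y hy
    rw [Set.mem_singleton_iff] at hy
    subst hy
    exact Subgroup.mem_center_iff.mp (hDZ hz) y
  have hane : (Subgroup.centralizer ({g} : Set G)).index ≠ 0 := Subgroup.index_ne_zero_of_finite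
  have hbne : charDegree (χ : G → ℂ) ≠ 0 := charDegree_ne_zero_irr χ
  have hdne : D.index ≠ 0 := Subgroup.index_ne_zero_of_finite
  have hcne : Nat.card (Subgroup.centralizer ({g} : Set G)) ≠ 0 := Nat.card_pos.ne'
  have hDne : Nat.card D ≠ 0 := Nat.card_pos.ne'
  have h1 : (Nat.card (Subgroup.centralizer ({g} : Set G))).factorization p +
      (Subgroup.centralizer ({g} : Set G)).index.factorization p =
      (Nat.card G).factorization p := by
    rw [← Subgroup.card_mul_index (Subgroup.centralizer ({g} : Set G)),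
      Nat.factorization_mul hcne hane]
    rfl
  have h2 : (Nat.card D).factorization p + D.index.factorization p =
      (Nat.card G).factorization p := by
    rw [← Subgroup.card_mul_index D, Nat.factorization_mul hDne hdne]
    rfl
  have h3 : (Nat.card D).factorization p ≤
      (Nat.card (Subgroup.centralizer ({g} : Set G))).factorization p :=
    (Nat.factorization_le_iff_dvd hDne hcne).mpr (Subgroup.card_dvd_of_le hDC) p
  have hW := memLocalRing_of_isIntegral (M := M) (isIntegral_centralChar χ g)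
  have hX := memLocalRing_of_isIntegral (M := M) (isIntegral_irr χ g)
  have heq : ((Subgroup.centralizer ({g} : Set G)).index : ℂ) * (χ : G → ℂ) g =
      centralChar (χ : G → ℂ) g * (charDegree (χ : G → ℂ) : ℂ) := (centralChar_mul_deg χ g).symm
  have hval : (Subgroup.centralizer ({g} : Set G)).index.factorization p =
      (charDegree (χ : G → ℂ)).factorization p := by
    by_contra hne
    obtain ⟨k, hk⟩ : ∃ k, (charDegree (χ : G → ℂ)).factorization p =
        (Subgroup.centralizer ({g} : Set G)).index.factorization p + (k + 1) :=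
      ⟨(charDegree (χ : G → ℂ)).factorization p -
        (Subgroup.centralizer ({g} : Set G)).index.factorization p - 1, by omega⟩
    apply hg
    -- `a = p ^ α a'`, `b = p ^ (α + k + 1) b'`
    have ea := Nat.ordProj_mul_ordCompl_eq_self (Subgroup.centralizer ({g} : Set G)).index p
    have eb := Nat.ordProj_mul_ordCompl_eq_self (charDegree (χ : G → ℂ)) p
    have ha' : ¬ p ∣ (Subgroup.centralizer ({g} : Set G)).index /
        p ^ (Subgroup.centralizer ({g} : Set G)).index.factorization p :=
      Nat.not_dvd_ordCompl hp hane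
    generalize (Subgroup.centralizer ({g} : Set G)).index /
        p ^ (Subgroup.centralizer ({g} : Set G)).index.factorization p = a' at ea ha'
    generalize charDegree (χ : G → ℂ) /
        p ^ (charDegree (χ : G → ℂ)).factorization p = b' at eb
    rw [hk] at eb
    generalize (Subgroup.centralizer ({g} : Set G)).index.factorization p = α at ea eb
    have ea' : ((Subgroup.centralizer ({g} : Set G)).index : ℂ) = (p : ℂ) ^ α * a' := by
      exact_mod_cast ea.symm
    have eb' : (charDegree (χ : G → ℂ) : ℂ) = (p : ℂ) ^ (α + (k + 1)) * b' := by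
      exact_mod_cast eb.symm
    have hpow : (p : ℂ) ^ α ≠ 0 := pow_ne_zero _ (Nat.cast_ne_zero.mpr hp.ne_zero)
    have ha0 : (a' : ℂ) ≠ 0 := by
      rw [Nat.cast_ne_zero]
      rintro rfl
      exact ha' (dvd_zero p)
    have h4 : (a' : ℂ) * (χ : G → ℂ) g =
        centralChar (χ : G → ℂ) g * ((p : ℂ) ^ k * b' * (p : ℂ)) := by
      apply mul_left_cancel₀ hpow
      rw [ea', eb'] at heq
      rw [pow_add, pow_succ] at heq
      linear_combination heq
    have h5 : (χ : G → ℂ) g = (a' : ℂ)⁻¹ *
        (centralChar (χ : G → ℂ) g * ((p : ℂ) ^ k * b' * (p : ℂ))) := by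
      rw [← h4, inv_mul_cancel_left₀ ha0]
    rw [h5]
    refine memLocalIdeal_mul_left (memLocalRing_natCast_inv hM ha') (memLocalIdeal_mul_left hW
      (memLocalIdeal_mul_left ?_ (p_memLocalIdeal hM)))
    exact memLocalRing_mul (memLocalRing_pow (memLocalRing_natCast p) k) (memLocalRing_natCast b')
  refine ⟨g, ?_, by omega⟩
  exact notMem_of_nat_mul_eq hM hbne hane hval.symm hW hX (by linear_combination -heq) hg

theorem normal_of_le_center' {D : Subgroup G} (hDZ : D ≤ Subgroup.center G) : D.Normal := by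
  refine ⟨fun z hz g => ?_⟩
  have h : g * z = z * g := Subgroup.mem_center_iff.mp (hDZ hz) g
  rw [h, mul_inv_cancel_right]
  exact hz

/-- The defect group of `χ`, S0969 first part. -/
theorem isDefectGroup_of_central (hM : IsPModular p M) {D : Subgroup G} (hD : IsPGroup p D)
    (hDZ : D ≤ Subgroup.center G) (χ : IrrCharacter G)
    (hdeg : (charDegree (χ : G → ℂ)).factorization p = D.index.factorization p) :
    IsDefectGroup p M (blockOf M (χ : G → ℂ)) D := by
  classical
  have hB : IsPBlock M (blockOf M (χ : G → ℂ)) := ⟨χ, rfl⟩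
  have hχ : χ ∈ blockOf M (χ : G → ℂ) := mem_blockOf_self χ
  obtain ⟨g, hg, hval⟩ := exists_omega_notMem hM hDZ χ hdeg
  have hle := blockDefect_le_factorization_centralizer hM hB hχ hg
  obtain ⟨Q, hQ⟩ := exists_isDefectGroup (p := p) hB
  haveI hDn : D.Normal := normal_of_le_center' hDZ
  have hDQ : D ≤ Q := normal_le_defect hM hB hQ hDn hD
  have hcard : Nat.card Q = p ^ blockDefect p (blockOf M (χ : G → ℂ)) :=
    card_eq_pow_blockDefect hM hB hQ
  have hcardD : Nat.card D = p ^ (Nat.card D).factorization p := by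
    obtain ⟨k, hk⟩ := (IsPGroup.iff_card (p := p)).mp hD
    rw [hk, (prime_of_pModular hM).factorization_pow]
    simp
  have hle' : Nat.card Q ≤ Nat.card D := by
    rw [hcard, hcardD]
    refine Nat.pow_le_pow_right (prime_of_pModular hM).pos ?_
    rw [← hval]
    exact hle
  have : D = Q := Subgroup.eq_of_le_of_card_ge hDQ hle'
  rw [this]
  exact hQ

/-- S0969 second part. -/
theorem char_eq_zero_of_central (hM : IsPModular p M) {D : Subgroup G} (hD : IsPGroup p D)
    (hDZ : D ≤ Subgroup.center G) (χ : IrrCharacter G)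
    (hdeg : (charDegree (χ : G → ℂ)).factorization p = D.index.factorization p)
    {g x : G} (hx : IsPPart p g x) (hxD : x ∉ D) : (χ : G → ℂ) g = 0 := by
  classical
  have hB : IsPBlock M (blockOf M (χ : G → ℂ)) := ⟨χ, rfl⟩
  have h1 := isDefectGroup_of_central hM hD hDZ χ hdeg
  refine char_eq_zero_of_forall_notMem_defect hM χ hx fun Q hQ => ?_
  haveI hDn : D.Normal := normal_of_le_center' hDZ
  have hDQ : D ≤ Q := normal_le_defect hM hB hQ hDn hD
  have hle' : Nat.card Q ≤ Nat.card D := (card_defect_eq hM hB h1 hQ).le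
  have : D = Q := Subgroup.eq_of_le_of_card_ge hDQ hle'
  rw [← this]
  exact hxD

end Value

end Cfsg.Agent.Lib.Blocks.CentralDefect
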