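import Mathlib
import Cfsg.Agent.Lib.Blocks.CentralDefect
import Cfsg.Agent.Lib.Blocks.FMT
import Cfsg.Agent.Lib.BlockH.Rank

/-!
# Green's theorem: defect groups are Sylow intersections

* `exists_cosetSum_notMem`: the matrix of a block idempotent on the permutation module on `G / T`
  is an idempotent matrix with non-zero trace, so it has an entry outside the local ideal.
* `exists_fixed_notMem`: a `p`-group fixed point argument on the coset `h T`.
* `green`: S0956.
-/

set_option linter.unusedSectionVars false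
set_option autoImplicit false
set_option linter.style.haveILetI false

namespace Cfsg.Agent.Lib.Blocks.Green

open Cfsg MonoidAlgebra
open Cfsg.Agent.Lib.Blocks.Local Cfsg.Agent.Lib.Blocks.Central
open Cfsg.Agent.Lib.Blocks.Weak Cfsg.Agent.Lib.Blocks.Brauer Cfsg.Agent.Lib.Blocks.Induced
open Cfsg.Agent.Lib.Blocks.PPart Cfsg.Agent.Lib.Blocks.Main Cfsg.Agent.Lib.Blocks.Third
open Cfsg.Agent.Lib.Blocks.General Cfsg.Agent.Lib.Blocks.Defect Cfsg.Agent.Lib.Blocks.Defect2
open Cfsg.Agent.Lib.Blocks.Sections Cfsg.Agent.Lib.Blocks.Heights Cfsg.Agent.Lib.Blocks.Inducing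
open Cfsg.Agent.Lib.Blocks.FMT Cfsg.Agent.Lib.Blocks.CentralDefect
open Cfsg.Agent.Lib.BlockT.SylowIn Cfsg.Agent.Lib.BlockP.Stable Cfsg.Agent.Lib.BlockP.Defect
open scoped ComplexConjugate

universe u

section Sum

variable {G : Type u} [Group G] [Fintype G] (a : G → ℂ) (T : Subgroup G) [Fintype T]

/-- The coset sum. -/
noncomputable def cosetSum (y : G) : ℂ := ∑ t : T, a (y * t)

variable {a T}

theorem cosetSum_mul_right {z : G} (hz : z ∈ T) (y : G) : cosetSum a T (y * z) = cosetSum a T y := by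
  unfold cosetSum
  refine Fintype.sum_equiv (Equiv.mulLeft (⟨z, hz⟩ : T)) _ _ fun t => ?_
  simp [mul_assoc]

theorem cosetSum_mul_left (hcyc : ∀ x y, a (x * y) = a (y * x)) {z : G} (hz : z ∈ T) (y : G) :
    cosetSum a T (z * y) = cosetSum a T y := by
  unfold cosetSum
  refine Fintype.sum_equiv (Equiv.mulRight (⟨z, hz⟩ : T)) _ _ fun t => ?_
  simp only [Equiv.coe_mulRight, Subgroup.coe_mul]
  rw [mul_assoc, hcyc, mul_assoc]

theorem sum_cosetSum_mul (hcyc : ∀ x y, a (x * y) = a (y * x))
    (hidem : ∀ y, ∑ k : G, a k * a (k⁻¹ * y) = a y) (y w : G) :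
    ∑ g : G, cosetSum a T (g⁻¹ * y) * cosetSum a T (w * g) =
      (Nat.card T : ℂ) * cosetSum a T (w * y) := by
  classical
  have h1 : ∀ (t t' : T), ∑ g : G, a (g⁻¹ * y * t) * a (w * g * t') = a (w * y * t * t') := by
    intro t t'
    rw [← hidem (w * y * t * t')]
    refine Fintype.sum_equiv (Equiv.mulRight (t' : G) |>.trans (Equiv.mulLeft w)) _ _ fun g => ?_
    simp only [Equiv.trans_apply, Equiv.coe_mulRight, Equiv.coe_mulLeft]
    rw [mul_comm, ← mul_assoc w g]
    congr 1
    have e : (w * g * t')⁻¹ * (w * y * t * t') = (t' : G)⁻¹ * (g⁻¹ * y * t) * t' := by group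
    rw [e, mul_assoc (t' : G)⁻¹, hcyc (t' : G)⁻¹, mul_inv_cancel_right]
  have h2 : ∀ g : G, cosetSum a T (g⁻¹ * y) * cosetSum a T (w * g) =
      ∑ t : T, ∑ t' : T, a (g⁻¹ * y * t) * a (w * g * t') := by
    intro g
    unfold cosetSum
    rw [Finset.sum_mul_sum]
  simp only [h2]
  rw [Finset.sum_comm]
  have h3 : ∀ t : T, ∑ g : G, ∑ t' : T, a (g⁻¹ * y * t) * a (w * g * t') =
      ∑ t' : T, a (w * y * t * t') := by
    intro t
    rw [Finset.sum_comm]
    exact Finset.sum_congr rfl fun t' _ => h1 t t'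
  simp only [h3]
  rw [Finset.sum_comm]
  have h4 : ∀ t' : T, ∑ t : T, a (w * y * t * t') = cosetSum a T (w * y) := by
    intro t'
    unfold cosetSum
    refine Fintype.sum_equiv (Equiv.mulRight t') _ _ fun t => ?_
    simp [mul_assoc]
  simp only [h4]
  rw [Finset.sum_const, Finset.card_univ, nsmul_eq_mul, Nat.card_eq_fintype_card]

end Sum

section Coset

variable {G : Type u} [Group G] [Fintype G] {a : G → ℂ} {T : Subgroup G} [Fintype T]
  {M : Ideal AlgInt} {p : ℕ} [hMp : M.IsPrime] [Fact p.Prime]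

/-- The matrix of the block idempotent on the permutation module on `G / T` is idempotent. -/
theorem exists_cosetSum_notMem (hcyc : ∀ x y, a (x * y) = a (y * x))
    (hidem : ∀ y, ∑ k : G, a k * a (k⁻¹ * y) = a y)
    (hne : ∑ t : T, a t ≠ 0) : ∃ h : G, ¬ MemLocalIdeal M (cosetSum a T h) := by
  classical
  letI : Fintype (G ⧸ T) := Fintype.ofFinite _
  haveI := Cfsg.Agent.Lib.Char.Ortho.finite_irrCharacter (G := G)
  letI := Fintype.ofFinite (IrrCharacter G)
  by_contra hcon
  push Not at hcon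
  let A : Matrix (G ⧸ T) (G ⧸ T) ℂ := fun s u => cosetSum a T (u.out⁻¹ * s.out)
  have hAJ : ∀ s u, MemLocalIdeal M (A s u) := fun s u => hcon _
  have hcardT : (Nat.card T : ℂ) ≠ 0 := Nat.cast_ne_zero.mpr Nat.card_pos.ne'
  have hAA : A * A = A := by
    ext s v
    rw [Matrix.mul_apply]
    simp only [A]
    let f : G → ℂ := fun g => cosetSum a T (g⁻¹ * s.out) * cosetSum a T (v.out⁻¹ * g)
    have hf : ∀ g : G, ∀ z ∈ T, f (g * z) = f g := by
      intro g z hz
      simp only [f]
      have e1 : (g * z)⁻¹ * s.out = z⁻¹ * (g⁻¹ * s.out) := by group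
      have e2 : v.out⁻¹ * (g * z) = v.out⁻¹ * g * z := by group
      rw [e1, e2, cosetSum_mul_left hcyc (T.inv_mem hz), cosetSum_mul_right hz]
    have hsum := sum_eq_card_mul_sum_quotient T f hf
    have h2 := sum_cosetSum_mul (T := T) hcyc hidem s.out v.out⁻¹
    apply mul_left_cancel₀ hcardT
    rw [← h2]
    exact hsum.symm
  have h0 := eq_zero_of_idempotent_of_local A hAA hAJ
  have h1 : A (QuotientGroup.mk 1) (QuotientGroup.mk 1) = 0 := by
    rw [h0]
    rfl
  simp only [A, inv_mul_cancel] at h1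
  apply hne
  unfold cosetSum at h1
  simpa using h1

/-- The fixed point argument on the coset `h T`. -/
theorem exists_fixed_notMem (hM : IsPModular p M) (hcyc : ∀ x y, a (x * y) = a (y * x))
    (hloc : ∀ g, MemLocalRing M (a g)) (hT : IsPGroup p T) (h : G)
    (hnot : ¬ MemLocalIdeal M (cosetSum a T h)) :
    ∃ t : T, ¬ MemLocalIdeal M (a (h * t)) ∧ ∀ w ∈ T, h⁻¹ * w * h ∈ T →
      w * (h * t) = (h * t) * w := by
  classical
  -- the group `Q = T ∩ h T h⁻¹`
  let Q : Subgroup G := T ⊓ T.comap (MulAut.conj h⁻¹).toMonoidHom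
  have hQmem : ∀ w : Q, h⁻¹ * (w : G) * h ∈ T := by
    intro w
    have := w.2.2
    simpa using this
  have hQp : IsPGroup p Q := hT.to_le inf_le_left
  have hQT : ∀ w : Q, (w : G) ∈ T := fun w => w.2.1
  letI : MulAction Q T :=
    { smul := fun w t => ⟨(h⁻¹ * (w : G) * h) * t * (w : G)⁻¹,
        T.mul_mem (T.mul_mem (hQmem w) t.2) (T.inv_mem (hQT w))⟩
      one_smul := fun t => by
        apply Subtype.ext
        change (h⁻¹ * ((1 : Q) : G) * h) * t * ((1 : Q) : G)⁻¹ = t
        simp
      mul_smul := fun w w' t => by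
        apply Subtype.ext
        change (h⁻¹ * ((w * w' : Q) : G) * h) * t * ((w * w' : Q) : G)⁻¹ =
          (h⁻¹ * (w : G) * h) * ((h⁻¹ * (w' : G) * h) * t * (w' : G)⁻¹) * (w : G)⁻¹
        simp only [Subgroup.coe_mul]
        group }
  have hsmul : ∀ (w : Q) (t : T), (((w • t : T)) : G) = (h⁻¹ * (w : G) * h) * t * (w : G)⁻¹ :=
    fun _ _ => rfl
  let S : Finset T := Finset.univ.filter fun t => ∀ q : Q, q • t = t
  have key := sum_sub_sum_fixed_mem hM hQp (fun t : T => a (h * t))
    (by
      intro w t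
      simp only [hsmul]
      have e : h * (h⁻¹ * (w : G) * h * t * (w : G)⁻¹) = (w : G) * (h * t * (w : G)⁻¹) := by group
      rw [e, hcyc]
      congr 1
      group)
    (fun t => hloc _) S (by intro t; simp [S])
  have hS : ¬ MemLocalIdeal M (∑ t ∈ S, a (h * t)) := by
    intro hS
    apply hnot
    have := memLocalIdeal_add key hS
    rw [sub_add_cancel] at this
    exact this
  obtain ⟨t, ht, hat⟩ : ∃ t ∈ S, ¬ MemLocalIdeal M (a (h * t)) := by
    by_contra hcon
    push Not at hcon
    exact hS (memLocalIdeal_sum _ _ hcon)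
  refine ⟨t, hat, fun w hw hw' => ?_⟩
  have hwQ : w ∈ Q := ⟨hw, by simpa using hw'⟩
  have h1 := (Finset.mem_filter.mp ht).2 ⟨w, hwQ⟩
  have h2 := congrArg (Subtype.val) h1
  rw [hsmul] at h2
  simp only at h2
  calc w * (h * t) = h * (h⁻¹ * w * h * t * w⁻¹) * w := by group
    _ = (h * t) * w := by rw [h2]

end Coset

section Idem

variable {G : Type u} [Group G] [Fintype G] [Fintype (IrrCharacter G)]

theorem idem_mul_self (S : Set (IrrCharacter G)) : idem S * idem S = idem S := by
  classical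
  apply omegaHom_injective
  intro χ
  rw [map_mul, omegaHom_idem]
  split_ifs <;> simp

theorem blockCoeff_mul_self (S : Set (IrrCharacter G)) (y : G) :
    ∑ k : G, blockCoeff S k * blockCoeff S (k⁻¹ * y) = blockCoeff S y := by
  have h := congrArg (fun z : Subalgebra.center ℂ (GA G) => (z : GA G).coeff y) (idem_mul_self S)
  simp only [coeff_idem] at h
  have h2 : ((idem S * idem S : Subalgebra.center ℂ (GA G)) : GA G).coeff y =
      ∑ k : G, (idem S : GA G).coeff k * (idem S : GA G).coeff (k⁻¹ * y) := coeff_mul_sum _ _ _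
  rw [h2] at h
  simpa only [coeff_idem] using h

theorem blockCoeff_cyc (S : Set (IrrCharacter G)) (x y : G) :
    blockCoeff S (x * y) = blockCoeff S (y * x) := by
  have h := blockCoeff_conj_invariant S (x * y) x⁻¹
  rw [← h]
  congr 1
  group

end Idem

section Main

variable {G : Type u} [Group G] [Fintype G] [Fintype (IrrCharacter G)] {M : Ideal AlgInt} {p : ℕ}
  [hMp : M.IsPrime] [Fact p.Prime]

/-- Some coset sum of a block idempotent is not in the local ideal. -/
theorem exists_block_coset (hM : IsPModular p M) {b : Set (IrrCharacter G)} (hb : IsPBlock M b)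
    {T : Subgroup G} [Fintype T] (hT : IsPGroup p T) :
    ∃ h : G, ¬ MemLocalIdeal M (cosetSum (blockCoeff b) T h) := by
  classical
  refine exists_cosetSum_notMem (blockCoeff_cyc b) (blockCoeff_mul_self b) ?_
  have h1 : ∀ t : T, blockCoeff b (t : G) = if t = 1 then blockCoeff b 1 else 0 := by
    intro t
    split_ifs with ht
    · rw [ht]
      rfl
    · apply blockCoeff_eq_zero hM hb
      obtain ⟨k, hk⟩ := (IsPGroup.iff_orderOf.mp hT) t
      have hk0 : k ≠ 0 := by
        rintro rfl
        apply ht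
        rw [pow_zero] at hk
        exact orderOf_eq_one_iff.mp hk
      rw [Subgroup.orderOf_coe, hk]
      exact dvd_pow_self p hk0
  simp only [h1]
  rw [Finset.sum_ite_eq' Finset.univ (1 : T), if_pos (Finset.mem_univ _)]
  exact Cfsg.Agent.Lib.BlockH.Rank.blockCoeff_one_ne_zero (isPBlock_nonempty hb)

end Main

section Green

variable {G : Type u} [Group G] [Fintype G] [Fintype (IrrCharacter G)] {M : Ideal AlgInt} {p : ℕ}
  [hMp : M.IsPrime] [Fact p.Prime] {D : Subgroup G}
  [Fintype (Subgroup.normalizer (D : Set G))]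
  [Fintype (IrrCharacter (Subgroup.normalizer (D : Set G)))]

/-- The local form of Green's theorem. -/
theorem green_local (hM : IsPModular p M) (hpg : IsPGroup p D)
    {b : Set (IrrCharacter (Subgroup.normalizer (D : Set G)))} (hb : IsPBlock M b)
    (hD : IsDefectGroup p M b (D.subgroupOf (Subgroup.normalizer (D : Set G))))
    {P : Subgroup G} (hP : IsPGroup p P) (hDP : D ≤ P) :
    ∃ x : G, ¬ p ∣ orderOf x ∧ IsSylowIn p D (Subgroup.centralizer ({x} : Set G)) ∧
      P ⊓ P.map (MulAut.conj x).toMonoidHom = D := by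
  classical
  -- work in `N = N(D)` with `T = P ∩ N`
  let T : Subgroup (Subgroup.normalizer (D : Set G)) := P.subgroupOf _
  letI : Fintype T := Fintype.ofFinite _
  have hT : IsPGroup p T := hP.comap_of_injective _ (Subgroup.subtype_injective _)
  obtain ⟨h, hh⟩ := exists_block_coset hM hb hT
  obtain ⟨t, hat, hcomm⟩ := exists_fixed_notMem hM (blockCoeff_cyc b)
    (fun g => memLocalRing_blockCoeff hb g) hT h hh
  obtain ⟨hkC, hkS⟩ := good_of_coeff hM hpg hb hD hat
  set k : Subgroup.normalizer (D : Set G) := h * t with hk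
  have hkr : ¬ p ∣ orderOf (k : G) := by
    intro hdvd
    apply hat
    rw [blockCoeff_eq_zero hM hb (by rwa [Subgroup.orderOf_coe] at hdvd)]
    exact memLocalIdeal_zero
  refine ⟨k, hkr, hkS, ?_⟩
  have hDk : ∀ z ∈ D, (k : G) * z * (k : G)⁻¹ = z := by
    intro z hz
    have := Subgroup.mem_centralizer_iff.mp hkC z hz
    rw [← this]
    group
  have hDY : D ≤ P ⊓ P.map (MulAut.conj (k : G)).toMonoidHom := by
    intro z hz
    refine ⟨hDP hz, z, hDP hz, ?_⟩
    exact hDk z hz
  have hYp : IsPGroup p (P ⊓ P.map (MulAut.conj (k : G)).toMonoidHom : Subgroup G) :=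
    hP.to_le inf_le_left
  have hYC : (P ⊓ P.map (MulAut.conj (k : G)).toMonoidHom) ⊓ Subgroup.normalizer (D : Set G) ≤
      Subgroup.centralizer ({(k : G)} : Set G) := by
    rintro w ⟨⟨hwP, v, hvP, hvw⟩, hwN⟩
    have hvw' : (k : G) * v * (k : G)⁻¹ = w := hvw
    have hvN : v ∈ Subgroup.normalizer (D : Set G) := by
      have : v = (k : G)⁻¹ * w * k := by
        rw [← hvw']
        group
      rw [this]
      exact Subgroup.mul_mem _ (Subgroup.mul_mem _ (Subgroup.inv_mem _ k.2) hwN) k.2
    have h1 : (⟨w, hwN⟩ : Subgroup.normalizer (D : Set G)) ∈ T := hwP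
    have h2 : h⁻¹ * (⟨w, hwN⟩ : Subgroup.normalizer (D : Set G)) * h ∈ T := by
      have e : h⁻¹ * (⟨w, hwN⟩ : Subgroup.normalizer (D : Set G)) * h =
          t * (⟨v, hvN⟩ : Subgroup.normalizer (D : Set G)) * t⁻¹ := by
        apply Subtype.ext
        simp only [Subgroup.coe_mul, Subgroup.coe_inv]
        rw [← hvw', hk]
        simp only [Subgroup.coe_mul]
        group
      rw [e]
      exact T.mul_mem (T.mul_mem t.2 hvP) (T.inv_mem t.2)
    have h3 := congrArg Subtype.val (hcomm _ h1 h2)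
    simp only [Subgroup.coe_mul] at h3
    rw [Subgroup.mem_centralizer_singleton_iff]
    rw [hk]
    simp only [Subgroup.coe_mul]
    exact h3
  have hYD : (P ⊓ P.map (MulAut.conj (k : G)).toMonoidHom) ⊓ Subgroup.normalizer (D : Set G) = D :=
    hkS.eq_of_le hYC (hYp.to_le inf_le_left) (le_inf hDY (le_normalizer_self D))
  have hS : IsSylowIn p D (P ⊓ P.map (MulAut.conj (k : G)).toMonoidHom) := by
    apply isSylowIn_of_normalizer hDY
    rw [hYD]
    exact hkS.of_le le_rfl hkS.le
  exact hS.eq_of_le le_rfl hYp hDY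

/-- S0956 (Green). -/
theorem green (hM : IsPModular p M) {B : Set (IrrCharacter G)} (hB : IsPBlock M B)
    (hD : IsDefectGroup p M B D) {P : Subgroup G} (hP : IsPGroup p P) (hDP : D ≤ P) :
    ∃ x : G, ¬ p ∣ orderOf x ∧ IsSylowIn p D (Subgroup.centralizer ({x} : Set G)) ∧
      P ⊓ P.map (MulAut.conj x).toMonoidHom = D := by
  have hpg : IsPGroup p D := hP.to_le hDP
  obtain ⟨b, ⟨hb, hDb, -⟩, -⟩ := (first_main hM hpg).2 B hB hD
  exact green_local hM hpg hb hDb hP hDP

end Green

end Cfsg.Agent.Lib.Blocks.Green
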