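import Mathlib
import Cfsg.Agent.Lib.Blocks.FR
import Cfsg.Agent.Lib.Blocks.ExtFMT
import Cfsg.Agent.Lib.Blocks.Green

/-!
# The Fong-Reynolds correspondence for a block of a normal subgroup
-/

set_option linter.unusedSectionVars false
set_option autoImplicit false
set_option linter.style.haveILetI false

namespace Cfsg.Agent.Lib.Blocks.FR2

open Cfsg MonoidAlgebra
open Cfsg.Agent.Lib.Blocks.Local Cfsg.Agent.Lib.Blocks.Central Cfsg.Agent.Lib.Blocks.Brauer
open Cfsg.Agent.Lib.Blocks.Induced Cfsg.Agent.Lib.Blocks.Heights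
open Cfsg.Agent.Lib.Char.Basic Cfsg.Agent.Lib.Char.Ortho Cfsg.Agent.Lib.Char.Complete
open Cfsg.Agent.Lib.Char.Induced Cfsg.Agent.Lib.Char.IndRep Cfsg.Agent.Lib.Char.Clifford
open Cfsg.Agent.Lib.Char.Conj Cfsg.Agent.Lib.Char.CliffordCorr
open Cfsg.Agent.Lib.BlockH.MaxPair Cfsg.Agent.Lib.BlockH.StabBlock
open Cfsg.Agent.Lib.BlockT.Normal Cfsg.Agent.Lib.Blocks.ExtFMT Cfsg.Agent.Lib.Blocks.FR
open scoped ComplexConjugate

universe u

variable {G : Type u} [Group G] [Fintype G] {N : Subgroup G} (hN : N.Normal) [Fintype N]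
  [Fintype (IrrCharacter N)] {M : Ideal AlgInt} [hMp : M.IsPrime]

/-- The conjugate of an idempotent coefficient. -/
theorem blockCoeff_conjEquiv (S : Set (IrrCharacter N)) (t : G) (n : N) :
    blockCoeff S (conjEquiv hN t n) = blockCoeff (conjIrr hN t '' S) n := by
  classical
  rw [blockCoeff_eq_sum, blockCoeff_eq_sum]
  congr 1
  let e : IrrCharacter N ≃ IrrCharacter N :=
    { toFun := conjIrr hN t
      invFun := conjIrr hN t⁻¹
      left_inv := conjIrr_inv_conjIrr hN t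
      right_inv := conjIrr_conjIrr_inv hN t }
  symm
  rw [← Equiv.sum_comp e]
  refine Finset.sum_congr rfl fun ψ _ => ?_
  have h1 : (e ψ ∈ conjIrr hN t '' S) ↔ ψ ∈ S := by
    constructor
    · rintro ⟨ψ', h1, h2⟩
      rwa [← conjIrr_injective hN t h2]
    · intro h
      exact ⟨ψ, h, rfl⟩
  have h2 : ((e ψ : IrrCharacter N) : N → ℂ) 1 = (ψ : N → ℂ) 1 := conjOn_apply_one hN t ψ
  have h3 : ((e ψ : IrrCharacter N) : N → ℂ) n = (ψ : N → ℂ) (conjEquiv hN t n) := by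
    show conjOn hN t ψ n = _
    rw [conjOn_eq_comp]
    rfl
  simp only [h1, h2, h3]

/-- The sum of the idempotent coefficients against any function. -/
theorem sum_blockCoeff_fun (A : Set (IrrCharacter N)) [DecidablePred (· ∈ A)] (F : N → ℂ) :
    ∑ n : N, blockCoeff A n * F n = ∑ ψ : IrrCharacter N, if ψ ∈ A then
      (ψ : N → ℂ) 1 * classInner F (ψ : N → ℂ) else 0 := by
  classical
  simp only [blockCoeff_eq_sum, classInner]
  rw [Finset.sum_congr rfl (fun n _ => by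
    rw [Finset.mul_sum, Finset.sum_mul] :
    ∀ n ∈ Finset.univ, ((Nat.card N : ℂ)⁻¹ * ∑ ψ : IrrCharacter N, if ψ ∈ A then
      (ψ : N → ℂ) 1 * (starRingEnd ℂ) ((ψ : N → ℂ) n) else 0) * F n =
      ∑ ψ : IrrCharacter N, (Nat.card N : ℂ)⁻¹ * (if ψ ∈ A then
      (ψ : N → ℂ) 1 * (starRingEnd ℂ) ((ψ : N → ℂ) n) else 0) * F n)]
  rw [Finset.sum_comm]
  refine Fintype.sum_congr _ _ fun ψ => ?_
  split_ifs with h
  · rw [Finset.mul_sum, Finset.mul_sum]
    refine Fintype.sum_congr _ _ fun n => ?_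
    ring
  · simp

/-- The degree against the multiplicities, for a class function. -/
theorem eq_sum_deg_mul_classInner {F : N → ℂ} (hF : IsClassFunction N F) :
    F 1 = ∑ ψ : IrrCharacter N, (ψ : N → ℂ) 1 * classInner F (ψ : N → ℂ) := by
  have h1 := congrFun (classFunction_eq_sum hF) 1
  simp only [Finset.sum_apply, Pi.smul_apply, smul_eq_mul] at h1
  rw [h1]
  refine Fintype.sum_congr _ _ fun ψ => ?_
  ring

section Stab

variable {T : Subgroup G} [Fintype T] [Fintype (IrrCharacter T)] (hNT : N ≤ T)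
  {b : Set (IrrCharacter N)}

/-- `T` is the stabilizer of `b`. -/
def IsStab (hN : N.Normal) (b : Set (IrrCharacter N)) (T : Subgroup G) : Prop :=
  ∀ g : G, g ∈ T ↔ ∀ θ ∈ b, conjIrr hN g θ ∈ b

variable {hN}

theorem conjIrr_image_of_mem {b : Set (IrrCharacter N)} (hS : IsStab hN b T) {u : G} (hu : u ∈ T) :
    conjIrr hN u '' b = b := by
  apply Set.Subset.antisymm
  · rintro _ ⟨θ, hθ, rfl⟩
    exact (hS u).mp hu θ hθ
  · intro θ hθ
    refine ⟨conjIrr hN u⁻¹ θ, (hS u⁻¹).mp (T.inv_mem hu) θ hθ, conjIrr_conjIrr_inv hN u θ⟩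

theorem disjoint_of_notMem (hb : IsPBlock M b) (hS : IsStab hN b T) {x : G} (hx : x ∉ T)
    {θ : IrrCharacter N} (hθ : θ ∈ conjIrr hN x '' b) : θ ∉ b := by
  rintro hθb
  apply hx
  rw [hS x]
  obtain ⟨θ₀, hθ₀, rfl⟩ := hθ
  intro θ₁ hθ₁
  have h1 : SameBlock M (θ₀ : N → ℂ) (θ₁ : N → ℂ) := by
    rw [isPBlock_eq_blockOf hb hθ₀] at hθ₁
    exact hθ₁
  have h2 := sameBlock_conjOn hN M x h1
  rw [isPBlock_eq_blockOf hb hθb]
  exact h2

theorem hinv_of_stab (hS : IsStab hN b T) (u : G) (hu : u ∈ T) (k k' : N)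
    (h : u * (k : G) * u⁻¹ = k') :
    ((idem b : Subalgebra.center ℂ (GA N)) : GA N).coeff k' =
      ((idem b : Subalgebra.center ℂ (GA N)) : GA N).coeff k := by
  rw [coeff_idem, coeff_idem]
  have h1 := blockCoeff_conjEquiv hN b u k
  rw [conjIrr_image_of_mem hS hu] at h1
  rw [← h1]
  congr 1
  apply Subtype.ext
  rw [coe_conjEquiv, h]

/-- The idempotent of `b` as a central idempotent of `ℂ[T]`. -/
noncomputable def eT (hN : N.Normal) (b : Set (IrrCharacter N)) (hS : IsStab hN b T) :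
    Subalgebra.center ℂ (GA T) :=
  ⟨up T ((idem b : Subalgebra.center ℂ (GA N)) : GA N), (mem_center_iff _).mpr (isCentral_up (T := T)
    (fun u hu g => by
      constructor
      · intro hg
        exact hN.conj_mem g hg u
      · intro hg
        have := hN.conj_mem _ hg u⁻¹
        simpa [mul_assoc] using this) _ (hinv_of_stab hS))⟩

theorem coe_eT (hS : IsStab hN b T) :
    ((eT hN b hS : Subalgebra.center ℂ (GA T)) : GA T) =
      up T ((idem b : Subalgebra.center ℂ (GA N)) : GA N) := rfl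

theorem eT_mul_self (hNT : N ≤ T) (hS : IsStab hN b T) : eT hN b hS * eT hN b hS = eT hN b hS := by
  apply Subtype.ext
  change ((eT hN b hS : Subalgebra.center ℂ (GA T)) : GA T) * ((eT hN b hS : Subalgebra.center ℂ (GA T)) : GA T) = _
  rw [coe_eT, ← up_mul hNT, ← Subalgebra.coe_mul, Cfsg.Agent.Lib.Blocks.Green.idem_mul_self]

theorem eT_mem_localCenter (hb : IsPBlock M b) (hS : IsStab hN b T) : eT hN b hS ∈ localCenter M T :=
  Rc.up (Rc.of_localCenter (idem_mem_localCenter hb))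

theorem incl_eT (hNT : N ≤ T) (hS : IsStab hN b T) :
    incl T ((eT hN b hS : Subalgebra.center ℂ (GA T)) : GA T) =
      incl N ((idem b : Subalgebra.center ℂ (GA N)) : GA N) := incl_up hNT _

theorem sum_incl_res (hNT : N ≤ T) (S : Set (IrrCharacter N)) (F : T → ℂ) :
    ∑ t : T, (incl N ((idem S : Subalgebra.center ℂ (GA N)) : GA N)).coeff t * F t =
      ∑ n : N, blockCoeff S n * F ⟨n, hNT n.2⟩ := by
  classical
  have h1 : ∀ t : T, F t = extendByZero T F t := fun t => (extendByZero_coe T F t).symm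
  have h2 : ∀ n : N, F ⟨n, hNT n.2⟩ = extendByZero T F n := fun n =>
    (extendByZero_coe T F ⟨n, hNT n.2⟩).symm
  simp only [h2]
  have h3 := sum_incl_mul (T := N) ((idem S : Subalgebra.center ℂ (GA N)) : GA N) (extendByZero T F)
  simp only [coeff_idem] at h3
  rw [← h3]
  rw [sum_eq_sum_subgroup T _ (fun g hg => by
    rw [coeff_incl_of_notMem N _ (fun h => hg (hNT h)), zero_mul])]
  refine Fintype.sum_congr _ _ fun t => ?_
  rw [h1 t]

/-- The sum against the idempotent in terms of `N`. -/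
theorem sum_eT_mul (hNT : N ≤ T) (hS : IsStab hN b T) (F : T → ℂ) :
    ∑ t : T, ((eT hN b hS : Subalgebra.center ℂ (GA T)) : GA T).coeff t * F t =
      ∑ n : N, blockCoeff b n * F ⟨n, hNT n.2⟩ := by
  rw [← sum_incl_res hNT]
  refine Fintype.sum_congr _ _ fun t => ?_
  rw [← incl_eT hNT hS, coeff_incl_coe]

variable [Fintype (IrrCharacter G)]

theorem sum_eT_irr (hNT : N ≤ T) (hS : IsStab hN b T) (ψ : IrrCharacter T) [DecidablePred (· ∈ b)] :
    ∑ t : T, ((eT hN b hS : Subalgebra.center ℂ (GA T)) : GA T).coeff t * (ψ : T → ℂ) t =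
      ∑ θ : IrrCharacter N, if θ ∈ b then
        (θ : N → ℂ) 1 * classInner (res hNT (ψ : T → ℂ)) (θ : N → ℂ) else 0 := by
  rw [sum_eT_mul hNT hS, ← sum_blockCoeff_fun]

theorem sum_eT_restrict (hNT : N ≤ T) (hS : IsStab hN b T) (χ : G → ℂ) [DecidablePred (· ∈ b)] :
    ∑ t : T, ((eT hN b hS : Subalgebra.center ℂ (GA T)) : GA T).coeff t * χ t =
      ∑ θ : IrrCharacter N, if θ ∈ b then
        (θ : N → ℂ) 1 * classInner (fun n : N => χ n) (θ : N → ℂ) else 0 := by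
  rw [sum_eT_mul hNT hS (fun t : T => χ t), ← sum_blockCoeff_fun]

/-- A nonnegative combination of degrees vanishes only if all terms do. -/
theorem sum_deg_ne_zero_iff {F : N → ℂ} (hF : IsCharacter N F) (S : Set (IrrCharacter N))
    [DecidablePred (· ∈ S)] :
    (∑ θ : IrrCharacter N, if θ ∈ S then (θ : N → ℂ) 1 * classInner F (θ : N → ℂ) else 0) ≠ 0 ↔
      ∃ θ ∈ S, classInner F (θ : N → ℂ) ≠ 0 := by
  classical
  have h0 := fun θ : IrrCharacter N =>
    exists_nat_classInner hF (isCharacter_of_isIrrCharacter θ.2)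
  choose n hn using h0
  have h1 : (∑ θ : IrrCharacter N, if θ ∈ S then (θ : N → ℂ) 1 * classInner F (θ : N → ℂ) else 0) =
      ((∑ θ : IrrCharacter N, if θ ∈ S then charDegree (θ : N → ℂ) * n θ else 0 : ℕ) : ℂ) := by
    rw [Nat.cast_sum]
    refine Fintype.sum_congr _ _ fun θ => ?_
    split_ifs
    · rw [hn θ, irr_one_eq]
      push_cast
      rfl
    · simp
  rw [h1]
  constructor
  · intro h
    have h2 : (∑ θ : IrrCharacter N, if θ ∈ S then charDegree (θ : N → ℂ) * n θ else 0) ≠ 0 := by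
      intro h0
      apply h
      rw [h0]
      simp
    obtain ⟨θ, -, h3⟩ := Finset.exists_ne_zero_of_sum_ne_zero h2
    by_cases hθ : θ ∈ S
    · refine ⟨θ, hθ, ?_⟩
      rw [if_pos hθ] at h3
      rw [hn θ]
      have : n θ ≠ 0 := fun h4 => h3 (by rw [h4, mul_zero])
      exact_mod_cast this
    · rw [if_neg hθ] at h3
      exact absurd rfl h3
  · rintro ⟨θ, hθ, h2⟩
    rw [hn θ] at h2
    have h3 : n θ ≠ 0 := fun h4 => h2 (by rw [h4]; simp)
    have h4 : (∑ θ : IrrCharacter N, if θ ∈ S then charDegree (θ : N → ℂ) * n θ else 0) ≠ 0 := by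
      intro h0
      have h5 := (Finset.sum_eq_zero_iff.mp h0) θ (Finset.mem_univ θ)
      rw [if_pos hθ] at h5
      rcases Nat.mul_eq_zero.mp h5 with h6 | h6
      · exact charDegree_ne_zero_irr θ h6
      · exact h3 h6
    exact_mod_cast h4

theorem isCharacter_res (hNT : N ≤ T) (ψ : IrrCharacter T) : IsCharacter N (res hNT (ψ : T → ℂ)) :=
  isCharacter_comp (Subgroup.inclusion hNT) (isCharacter_of_isIrrCharacter ψ.2)

/-- Lying over `b`. -/
theorem omega_eT_eq_one_iff (hNT : N ≤ T) (hS : IsStab hN b T) (ψ : IrrCharacter T) :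
    omegaHom ψ (eT hN b hS) = 1 ↔ ∃ θ ∈ b, classInner (res hNT (ψ : T → ℂ)) (θ : N → ℂ) ≠ 0 := by
  classical
  rw [← sum_deg_ne_zero_iff (isCharacter_res hNT ψ), ← sum_eT_irr hNT hS ψ]
  have h1 := omegaHom_apply ψ (eT hN b hS)
  rw [lin_apply] at h1
  have hψ1 := irr_one_ne_zero ψ.2
  constructor
  · intro h
    rw [h, eq_div_iff hψ1, one_mul] at h1
    rw [← h1]
    exact hψ1
  · intro h
    rcases omegaHom_eq_zero_or_one (eT_mul_self hNT hS) ψ with h2 | h2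
    · rw [h2, eq_comm, div_eq_zero_iff] at h1
      rcases h1 with h1 | h1
      · exact absurd h1 h
      · exact absurd h1 hψ1
    · exact h2

theorem classInner_eq_zero_of_notMem (hNT : N ≤ T) (hS : IsStab hN b T) {ψ : IrrCharacter T}
    (hψ : omegaHom ψ (eT hN b hS) = 1) {θ : IrrCharacter N} (hθ : θ ∉ b) :
    classInner (res hNT (ψ : T → ℂ)) (θ : N → ℂ) = 0 := by
  classical
  have h0 := fun θ : IrrCharacter N =>
    exists_nat_classInner (isCharacter_res hNT ψ) (isCharacter_of_isIrrCharacter θ.2)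
  choose n hn using h0
  have h1 := omegaHom_apply ψ (eT hN b hS)
  rw [hψ, lin_apply, sum_eT_irr hNT hS, eq_div_iff (irr_one_ne_zero ψ.2), one_mul] at h1
  have hF : IsClassFunction N (res hNT (ψ : T → ℂ)) :=
    isClassFunction_of_isCharacter (isCharacter_res hNT ψ)
  have h2 := eq_sum_deg_mul_classInner hF
  have h3 : res hNT (ψ : T → ℂ) 1 = (ψ : T → ℂ) 1 := rfl
  rw [h3] at h2
  rw [h2] at h1
  have h4 : ∀ θ : IrrCharacter N, (θ : N → ℂ) 1 * classInner (res hNT (ψ : T → ℂ)) (θ : N → ℂ) =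
      ((charDegree (θ : N → ℂ) * n θ : ℕ) : ℂ) := by
    intro θ
    rw [hn θ, irr_one_eq]
    push_cast
    rfl
  have h5 : ∀ θ : IrrCharacter N, (if θ ∈ b then (θ : N → ℂ) 1 *
      classInner (res hNT (ψ : T → ℂ)) (θ : N → ℂ) else 0) =
      ((if θ ∈ b then charDegree (θ : N → ℂ) * n θ else 0 : ℕ) : ℂ) := by
    intro θ
    split_ifs
    · exact h4 θ
    · simp
  simp only [h4, h5] at h1
  have h6 : ∑ θ : IrrCharacter N, (if θ ∈ b then charDegree (θ : N → ℂ) * n θ else 0) =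
      ∑ θ : IrrCharacter N, charDegree (θ : N → ℂ) * n θ := by
    exact_mod_cast h1.symm
  have h7 : (if θ ∈ b then charDegree (θ : N → ℂ) * n θ else 0) = charDegree (θ : N → ℂ) * n θ := by
    by_contra hne
    have h8 : ∀ θ' ∈ (Finset.univ : Finset (IrrCharacter N)),
        (if θ' ∈ b then charDegree (θ' : N → ℂ) * n θ' else 0) ≤ charDegree (θ' : N → ℂ) * n θ' := by
      intro θ' _
      split_ifs
      · exact le_rfl
      · exact Nat.zero_le _
    have h9 := Finset.sum_lt_sum h8 ⟨θ, Finset.mem_univ θ, lt_of_le_of_ne (h8 θ (Finset.mem_univ θ)) hne⟩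
    omega
  rw [if_neg hθ] at h7
  rw [hn θ]
  rcases Nat.mul_eq_zero.mp h7.symm with h8 | h8
  · exact absurd h8 (charDegree_ne_zero_irr θ)
  · rw [h8]
    simp

/-- The orthogonality hypothesis of the abstract theorem. -/
theorem horth_eT (hb : IsPBlock M b) (hNT : N ≤ T) (hS : IsStab hN b T) (x : G) (hx : x ∉ T)
    (ψ : IrrCharacter T) (hψ : omegaHom ψ (eT hN b hS) = 1) :
    ∑ t : T, (incl T ((eT hN b hS : Subalgebra.center ℂ (GA T)) : GA T)).coeff (x * t * x⁻¹) *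
      (ψ : T → ℂ) t = 0 := by
  classical
  have h1 : ∀ t : T, (incl T ((eT hN b hS : Subalgebra.center ℂ (GA T)) : GA T)).coeff (x * t * x⁻¹) =
      (incl N ((idem (conjIrr hN x '' b) : Subalgebra.center ℂ (GA N)) : GA N)).coeff t := by
    intro t
    rw [incl_eT hNT hS]
    by_cases ht : (t : G) ∈ N
    · have ht' : x * (t : G) * x⁻¹ ∈ N := hN.conj_mem _ ht x
      rw [coeff_incl_of_mem N _ ht, coeff_incl_of_mem N _ ht', coeff_idem, coeff_idem,
        ← blockCoeff_conjEquiv hN b x ⟨t, ht⟩]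
      congr 1
    · have ht' : x * (t : G) * x⁻¹ ∉ N := fun h => ht (by
        have := hN.conj_mem _ h x⁻¹
        simpa [mul_assoc] using this)
      rw [coeff_incl_of_notMem N _ ht, coeff_incl_of_notMem N _ ht']
  simp only [h1]
  rw [sum_incl_res hNT]
  rw [sum_blockCoeff_fun (conjIrr hN x '' b) (fun n : N => (ψ : T → ℂ) ⟨n, hNT n.2⟩)]
  refine Finset.sum_eq_zero fun θ _ => ?_
  split_ifs with hθ
  · have h2 : classInner (fun n : N => (ψ : T → ℂ) ⟨n, hNT n.2⟩) (θ : N → ℂ) = 0 :=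
      classInner_eq_zero_of_notMem hNT hS hψ (disjoint_of_notMem (M := M) hb hS hx hθ)
    rw [h2, mul_zero]
  · rfl

variable [Fintype (G ⧸ T)]

theorem inducedCentralChar_eq (ψ : IrrCharacter T) (h : IsIrrCharacter G (indFun T (ψ : T → ℂ))) (g : G) :
    inducedCentralChar T (ψ : T → ℂ) g = centralChar (indFun T (ψ : T → ℂ)) g := by
  have h1 := omegaHom_ind ψ h (classSum g)
  rw [omegaHom_classSum, indHom_classSum] at h1
  exact h1.symm

/-- The block induced by a block covering `b` is the block of the induced character. -/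
theorem eq_blockOf_ind (hb : IsPBlock M b) (hNT : N ≤ T) (hS : IsStab hN b T) {ψ : IrrCharacter T}
    (hψ : omegaHom ψ (eT hN b hS) = 1) {B' : Set (IrrCharacter T)} (hψB : ψ ∈ B')
    {B : Set (IrrCharacter G)} (hind : IsInducedBlock M T B' B) :
    B = blockOf M (indFun T (ψ : T → ℂ)) := by
  have hEE := eT_mul_self hNT hS
  have hirr := isIrr_indFun (horth_eT hb hNT hS) hEE hψ
  obtain ⟨χ, hχ⟩ := isPBlock_nonempty hind.2.1
  rw [isPBlock_eq_blockOf hind.2.1 hχ]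
  have h1 : SameBlock M (indFun T (ψ : T → ℂ)) (χ : G → ℂ) := fun g => by
    rw [← inducedCentralChar_eq ψ hirr]
    exact hind.2.2 ψ hψB χ hχ g
  exact blockOf_eq_of_mem (χ := ⟨_, hirr⟩) (ψ := χ) h1

/-- **Fong-Reynolds**, part (i). -/
theorem fr_part_one (hb : IsPBlock M b) (hNT : N ≤ T) (hS : IsStab hN b T)
    {B' : Set (IrrCharacter T)} (hB' : IsPBlock M B')
    (hcov : ∃ ψ ∈ B', ∃ θ ∈ b, classInner (res hNT (ψ : T → ℂ)) (θ : N → ℂ) ≠ 0) :
    ∃ B : Set (IrrCharacter G), IsInducedBlock M T B' B ∧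
      (∃ χ ∈ B, ∃ θ ∈ b, classInner (fun n : N => (χ : G → ℂ) n) (θ : N → ℂ) ≠ 0) ∧
      (∀ ψ ∈ B', IsIrrCharacter G (indFun T (ψ : T → ℂ))) ∧
      ∀ χ : IrrCharacter G, χ ∈ B ↔ ∃ ψ ∈ B', (χ : G → ℂ) = indFun T (ψ : T → ℂ) := by
  classical
  obtain ⟨ψ, hψB, hψcov⟩ := hcov
  have hψ := (omega_eT_eq_one_iff hNT hS ψ).mpr hψcov
  have hEE := eT_mul_self hNT hS
  have hEl := eT_mem_localCenter (M := M) hb hS
  have horth := horth_eT hb hNT hS
  have hirr := isIrr_indFun horth hEE hψ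
  have hB'eq := isPBlock_eq_blockOf hB' hψB
  subst hB'eq
  refine ⟨blockOf M (indFun T (ψ : T → ℂ)), isInducedBlock_ind horth hEE hψ, ?_, fun ψ' hψ' => ?_,
    mem_blockOf_ind_iff horth hEl hEE hψ⟩
  · refine ⟨⟨_, hirr⟩, mem_blockOf_self (⟨_, hirr⟩ : IrrCharacter G), ?_⟩
    have h1 := sum_E_indFun horth hψ
    rw [sum_eT_restrict hNT hS] at h1
    have h2 : IsCharacter N (fun n : N => indFun T (ψ : T → ℂ) n) :=
      isCharacter_restrict N (isCharacter_of_isIrrCharacter hirr)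
    have h3 := (sum_deg_ne_zero_iff h2 b).mp (by rw [h1]; exact irr_one_ne_zero ψ.2)
    exact h3
  · exact isIrr_indFun horth hEE (I_of_sameBlock hEl hEE hψ' hψ)

/-- **Fong-Reynolds**, part (ii). -/
theorem fr_part_two (hb : IsPBlock M b) (hNT : N ≤ T) (hS : IsStab hN b T)
    {B₁ B₂ : Set (IrrCharacter T)} (hB₁ : IsPBlock M B₁) (hB₂ : IsPBlock M B₂)
    (hcov₁ : ∃ ψ ∈ B₁, ∃ θ ∈ b, classInner (res hNT (ψ : T → ℂ)) (θ : N → ℂ) ≠ 0)
    (hcov₂ : ∃ ψ ∈ B₂, ∃ θ ∈ b, classInner (res hNT (ψ : T → ℂ)) (θ : N → ℂ) ≠ 0)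
    {B : Set (IrrCharacter G)} (h₁ : IsInducedBlock M T B₁ B) (h₂ : IsInducedBlock M T B₂ B) :
    B₁ = B₂ := by
  obtain ⟨ψ₁, hψ₁B, hc₁⟩ := hcov₁
  obtain ⟨ψ₂, hψ₂B, hc₂⟩ := hcov₂
  have hψ₁ := (omega_eT_eq_one_iff hNT hS ψ₁).mpr hc₁
  have hψ₂ := (omega_eT_eq_one_iff hNT hS ψ₂).mpr hc₂
  have e₁ := eq_blockOf_ind hb hNT hS hψ₁ hψ₁B h₁
  have e₂ := eq_blockOf_ind hb hNT hS hψ₂ hψ₂B h₂
  have hEE := eT_mul_self hNT hS
  have hEl := eT_mem_localCenter (M := M) hb hS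
  have horth := horth_eT hb hNT hS
  have hirr₁ := isIrr_indFun horth hEE hψ₁
  have hirr₂ := isIrr_indFun horth hEE hψ₂
  have h3 : (⟨_, hirr₂⟩ : IrrCharacter G) ∈ blockOf M (indFun T (ψ₁ : T → ℂ)) := by
    rw [← e₁, e₂]
    exact mem_blockOf_self (⟨_, hirr₂⟩ : IrrCharacter G)
  have h4 := sameBlock_of_ind horth hEl hEE hψ₁ hψ₂ h3
  rw [isPBlock_eq_blockOf hB₁ hψ₁B, isPBlock_eq_blockOf hB₂ hψ₂B]
  exact (blockOf_eq_of_mem (χ := ψ₁) (ψ := ψ₂) h4).symm

/-- **Fong-Reynolds**, part (iii). -/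
theorem fr_part_three (hb : IsPBlock M b) (hNT : N ≤ T) (hS : IsStab hN b T)
    {B : Set (IrrCharacter G)} (hB : IsPBlock M B)
    (hcov : ∃ χ ∈ B, ∃ θ ∈ b, classInner (fun n : N => (χ : G → ℂ) n) (θ : N → ℂ) ≠ 0) :
    ∃ B' : Set (IrrCharacter T), IsPBlock M B' ∧
      (∃ ψ ∈ B', ∃ θ ∈ b, classInner (res hNT (ψ : T → ℂ)) (θ : N → ℂ) ≠ 0) ∧
      IsInducedBlock M T B' B := by
  classical
  obtain ⟨χ, hχB, hχcov⟩ := hcov
  have hEE := eT_mul_self hNT hS
  have horth := horth_eT hb hNT hS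
  have h2 : IsCharacter N (fun n : N => (χ : G → ℂ) n) :=
    isCharacter_restrict N (isCharacter_of_isIrrCharacter χ.2)
  have h3 := (sum_deg_ne_zero_iff h2 b).mpr hχcov
  rw [← sum_eT_restrict hNT hS] at h3
  obtain ⟨ψ, hψ, hχψ⟩ := exists_indFun_eq horth hEE χ h3
  refine ⟨blockOf M (ψ : T → ℂ), ⟨ψ, rfl⟩, ⟨ψ, mem_blockOf_self ψ,
    (omega_eT_eq_one_iff hNT hS ψ).mp hψ⟩, ?_⟩
  have h4 := isInducedBlock_ind (M := M) horth hEE hψ
  rw [← hχψ] at h4
  rwa [← isPBlock_eq_blockOf hB hχB] at h4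

/-- **Fong-Reynolds**: defect groups and heights. -/
theorem fr_defect {p : ℕ} [Fact p.Prime] (hM : IsPModular p M) (hb : IsPBlock M b) (hNT : N ≤ T)
    (hS : IsStab hN b T) {B' : Set (IrrCharacter T)} (hB' : IsPBlock M B')
    (hcov : ∃ ψ ∈ B', ∃ θ ∈ b, classInner (res hNT (ψ : T → ℂ)) (θ : N → ℂ) ≠ 0)
    {B : Set (IrrCharacter G)} (hind : IsInducedBlock M T B' B) :
    (∀ D : Subgroup T, IsDefectGroup p M B' D → IsDefectGroup p M B (D.map T.subtype)) ∧
      ∀ ψ ∈ B', ∃ χ ∈ B, (χ : G → ℂ) = indFun T (ψ : T → ℂ) ∧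
        blockHeight p B (χ : G → ℂ) = blockHeight p B' (ψ : T → ℂ) := by
  classical
  obtain ⟨ψ₀, hψ₀B, hψ₀cov⟩ := hcov
  have hψ₀ := (omega_eT_eq_one_iff hNT hS ψ₀).mpr hψ₀cov
  have hEE := eT_mul_self hNT hS
  have hEl := eT_mem_localCenter (M := M) hb hS
  have horth := horth_eT hb hNT hS
  have e := eq_blockOf_ind hb hNT hS hψ₀ hψ₀B hind
  have hB'eq := isPBlock_eq_blockOf hB' hψ₀B
  subst hB'eq
  subst e
  refine ⟨fun D hD => isDefectGroup_ind horth hM hEl hEE hψ₀ hD, fun ψ hψB => ?_⟩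
  have hψ := I_of_sameBlock hEl hEE hψB hψ₀
  have hirr := isIrr_indFun horth hEE hψ
  refine ⟨⟨_, hirr⟩, (mem_blockOf_ind_iff horth hEl hEE hψ₀ _).mpr ⟨ψ, hψB, rfl⟩, rfl, ?_⟩
  exact blockHeight_ind horth hEl hEE hψ₀ ψ

end Stab

theorem isStab_of_forall (hN : N.Normal) {b : Set (IrrCharacter N)} {T : Subgroup G}
    (hT : ∀ g : G, g ∈ T ↔ ∀ θ ∈ b, ∀ θ' : IrrCharacter N,
      (∀ n : N, (θ' : N → ℂ) n = (θ : N → ℂ) ⟨g * n * g⁻¹, hN.conj_mem n n.2 g⟩) → θ' ∈ b) :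
    IsStab hN b T := by
  intro g
  rw [hT g]
  constructor
  · intro h θ hθ
    exact h θ hθ _ (fun n => rfl)
  · intro h θ hθ θ' hθ'
    have : θ' = conjIrr hN g θ := Subtype.ext (funext hθ')
    rw [this]
    exact h θ hθ

end Cfsg.Agent.Lib.Blocks.FR2
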