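import Mathlib

/-!
# A nilpotence lemma for rings graded by a finite group

`A` is graded by the finite group `Γ`.  Assume that the identity component `D 1` is commutative, its
nilpotent elements are uniformly nilpotent and are stable under commutation with homogeneous elements.
An idempotent `e` all of whose homogeneous components `c g` satisfy: `z * c g` is nilpotent for each
`z` of degree `g⁻¹`, is zero.
-/

set_option linter.unusedSectionVars false
set_option autoImplicit false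

namespace Cfsg.Agent.Lib.Blocks.GradedNil

open scoped Pointwise

variable {A : Type*} [Ring A] {Γ : Type*} [Group Γ] [Finite Γ]

theorem mul_pow_succ_eq (x y : A) (n : ℕ) : (x * y) ^ (n + 1) = x * (y * x) ^ n * y := by
  induction n with
  | zero => simp
  | succ n ih =>
    rw [pow_succ, ih, pow_succ (y * x)]
    simp only [mul_assoc]

/-- The homogeneous elements of degree `g` "in the radical". -/
def I (D : Γ → AddSubgroup A) (g : Γ) : Set A := {a | a ∈ D g ∧ ∀ z ∈ D g⁻¹, IsNilpotent (z * a)}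

variable {D : Γ → AddSubgroup A}

theorem I_mul_right (hmul : ∀ {g h : Γ} {a b : A}, a ∈ D g → b ∈ D h → a * b ∈ D (g * h)) {g h : Γ} {a b : A}
    (ha : a ∈ I D g) (hb : b ∈ D h) : a * b ∈ I D (g * h) := by
  refine ⟨hmul ha.1 hb, fun z hz => ?_⟩
  have h1 : b * z ∈ D g⁻¹ := by
    have := hmul hb hz
    have e : h * (g * h)⁻¹ = g⁻¹ := by group
    rwa [e] at this
  obtain ⟨n, hn⟩ := ha.2 _ h1
  refine ⟨n + 1, ?_⟩
  have e : z * (a * b) = (z * a) * b := by rw [mul_assoc]
  rw [e, mul_pow_succ_eq]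
  have e2 : b * (z * a) = b * z * a := by rw [mul_assoc]
  rw [e2, hn, mul_zero, zero_mul]

theorem I_mul_left (hmul : ∀ {g h : Γ} {a b : A}, a ∈ D g → b ∈ D h → a * b ∈ D (g * h)) {g h : Γ} {a b : A}
    (hb : b ∈ D h) (ha : a ∈ I D g) : b * a ∈ I D (h * g) := by
  refine ⟨hmul hb ha.1, fun z hz => ?_⟩
  have h1 : z * b ∈ D g⁻¹ := by
    have := hmul hz hb
    have e : (h * g)⁻¹ * h = g⁻¹ := by group
    rwa [e] at this
  have := ha.2 _ h1
  rwa [mul_assoc] at this

theorem I_one (hone : (1 : A) ∈ D 1) {a : A} (ha : a ∈ I D (1 : Γ)) : IsNilpotent a := by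
  have h1 : (1 : A) ∈ D (1 : Γ)⁻¹ := by rwa [inv_one]
  have := ha.2 1 h1
  rwa [one_mul] at this

/-- The submodule spanned by the nilpotents of the identity component. -/
def S (D : Γ → AddSubgroup A) : Submodule ℤ A := Submodule.span ℤ {r | r ∈ D 1 ∧ IsNilpotent r}

/-- The submodule spanned by the homogeneous elements. -/
def W (D : Γ → AddSubgroup A) : Submodule ℤ A := Submodule.span ℤ {a | ∃ g, a ∈ D g}

theorem W_mul_W_le (hmul : ∀ {g h : Γ} {a b : A}, a ∈ D g → b ∈ D h → a * b ∈ D (g * h)) :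
    W D * W D ≤ W D := by
  rw [W, Submodule.span_mul_span]
  apply Submodule.span_mono
  rintro _ ⟨a, ⟨g, ha⟩, b, ⟨h, hb⟩, rfl⟩
  exact ⟨g * h, hmul ha hb⟩

theorem W_mul_S_le (hconj : ∀ g, ∀ a ∈ D g, ∀ r ∈ D 1, IsNilpotent r →
    ∃ r' ∈ D 1, IsNilpotent r' ∧ a * r = r' * a) : W D * S D ≤ S D * W D := by
  rw [W, S, Submodule.span_mul_span, Submodule.span_mul_span]
  apply Submodule.span_mono
  rintro _ ⟨a, ⟨g, ha⟩, r, ⟨hr, hrn⟩, rfl⟩
  obtain ⟨r', hr', hr'n, he⟩ := hconj g a ha r hr hrn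
  exact ⟨r', ⟨hr', hr'n⟩, a, ⟨g, ha⟩, he.symm⟩

/-- Products of homogeneous elements in `I`. -/
theorem list_claim (hmul : ∀ {g h : Γ} {a b : A}, a ∈ D g → b ∈ D h → a * b ∈ D (g * h))
    (hone : (1 : A) ∈ D 1)
    (hconj : ∀ g, ∀ a ∈ D g, ∀ r ∈ D 1, IsNilpotent r →
      ∃ r' ∈ D 1, IsNilpotent r' ∧ a * r = r' * a) [DecidableEq Γ] (l : List A)
    (hl : ∀ a ∈ l, ∃ g, a ∈ I D g) :
    l.prod ∈ S D * W D ∨ ∃ d : Γ, l.prod ∈ D d ∧ ∃ T : Finset Γ, T.card = l.length + 1 ∧
      ∀ δ ∈ T, ∃ l₁ l₂ : List A, l = l₁ ++ l₂ ∧ l₁.prod ∈ D (d * δ⁻¹) ∧ l₂.prod ∈ D δ := by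
  induction l with
  | nil =>
    right
    refine ⟨1, by simpa using hone, {1}, by simp, fun δ hδ => ?_⟩
    have : δ = 1 := by simpa using hδ
    subst this
    exact ⟨[], [], rfl, by simpa using hone, by simpa using hone⟩
  | cons a l ih =>
    obtain ⟨g, hg⟩ := hl a (by simp)
    have hl' : ∀ a ∈ l, ∃ g, a ∈ I D g := fun b hb => hl b (by simp [hb])
    rcases ih hl' with h | ⟨d, hd, T, hT, hTs⟩
    · left
      rw [List.prod_cons]
      have h1 : a * l.prod ∈ W D * (S D * W D) :=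
        Submodule.mul_mem_mul (Submodule.subset_span ⟨g, hg.1⟩) h
      rw [← mul_assoc] at h1
      have h2 : W D * S D * W D ≤ S D * W D := by
        calc W D * S D * W D ≤ S D * W D * W D := mul_le_mul' (W_mul_S_le hconj) le_rfl
          _ = S D * (W D * W D) := mul_assoc _ _ _
          _ ≤ S D * W D := mul_le_mul' le_rfl (W_mul_W_le hmul)
      exact h2 h1
    · by_cases hmem : g * d ∈ T
      · left
        obtain ⟨l₁, l₂, hl₁₂, h1, h2⟩ := hTs _ hmem
        have e : d * (g * d)⁻¹ = g⁻¹ := by group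
        rw [e] at h1
        have h3 := I_mul_right hmul hg h1
        rw [mul_inv_cancel] at h3
        have h4 := I_one hone h3
        rw [hl₁₂, List.prod_cons, List.prod_append, ← mul_assoc]
        exact Submodule.mul_mem_mul (Submodule.subset_span ⟨h3.1, h4⟩)
          (Submodule.subset_span ⟨_, h2⟩)
      · right
        refine ⟨g * d, by rw [List.prod_cons]; exact hmul hg.1 hd, insert (g * d) T, ?_, ?_⟩
        · rw [Finset.card_insert_of_notMem hmem, hT]
          simp
        · intro δ hδ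
          rcases Finset.mem_insert.mp hδ with rfl | hδ
          · refine ⟨[], a :: l, rfl, ?_, ?_⟩
            · rw [mul_inv_cancel]
              simpa using hone
            · rw [List.prod_cons]
              exact hmul hg.1 hd
          · obtain ⟨l₁, l₂, hl₁₂, h1, h2⟩ := hTs δ hδ
            refine ⟨a :: l₁, l₂, by rw [hl₁₂]; rfl, ?_, h2⟩
            rw [List.prod_cons, mul_assoc]
            exact hmul hg.1 h1

/-- **The graded nilpotence lemma.** -/
theorem eq_zero_of_forall_isNilpotent [Fintype Γ]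
    (hmul : ∀ {g h : Γ} {a b : A}, a ∈ D g → b ∈ D h → a * b ∈ D (g * h))
    (hone : (1 : A) ∈ D 1)
    (hconj : ∀ g, ∀ a ∈ D g, ∀ r ∈ D 1, IsNilpotent r →
      ∃ r' ∈ D 1, IsNilpotent r' ∧ a * r = r' * a)
    (hnil : ∃ k : ℕ, ∀ l : List A, l.length = k → (∀ r ∈ l, r ∈ D 1 ∧ IsNilpotent r) → l.prod = 0)
    {e : A} (he : e * e = e) (c : Γ → A) (hc : ∀ g, c g ∈ D g) (hsum : e = ∑ g, c g)
    (hz : ∀ g, ∀ z ∈ D g⁻¹, IsNilpotent (z * c g)) : e = 0 := by
  classical
  have hpow : ∀ n : ℕ, e ^ (n + 1) = e := by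
    intro n
    induction n with
    | zero => simp
    | succ n ih => rw [pow_succ, ih, he]
  let m := Fintype.card Γ
  -- `e ∈ S * W`
  let H : Set A := {a | ∃ g, a ∈ I D g}
  have heH : e ∈ Submodule.span ℤ H := by
    rw [hsum]
    exact Submodule.sum_mem _ fun g _ => Submodule.subset_span ⟨g, hc g, hz g⟩
  have hHm : H ^ (m + 1) ⊆ (S D * W D : Submodule ℤ A) := by
    intro x hx
    obtain ⟨f, rfl⟩ := (Set.mem_pow).mp hx
    have hl : ∀ a ∈ List.ofFn (fun i => ((f i : H) : A)), ∃ g, a ∈ I D g := by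
      intro a ha
      obtain ⟨i, rfl⟩ := (List.mem_ofFn' _ _).mp ha
      exact (f i).2
    rcases list_claim hmul hone hconj _ hl with h | ⟨d, -, T, hT, -⟩
    · exact h
    · exfalso
      have h1 := Finset.card_le_univ T
      rw [hT, List.length_ofFn] at h1
      have : Fintype.card Γ = m := rfl
      omega
  have he1 : e ∈ S D * W D := by
    have h1 : e ^ (m + 1) ∈ (Submodule.span ℤ H) ^ (m + 1) := Submodule.pow_mem_pow _ heH _
    rw [Submodule.span_pow, hpow] at h1
    exact (Submodule.span_le.mpr hHm) h1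
  -- powers
  have hKpow : ∀ n : ℕ, (S D * W D) ^ (n + 1) ≤ S D ^ (n + 1) * W D := by
    intro n
    induction n with
    | zero => simp
    | succ n ih =>
      rw [pow_succ]
      calc (S D * W D) ^ (n + 1) * (S D * W D)
          ≤ (S D ^ (n + 1) * W D) * (S D * W D) := mul_le_mul' ih le_rfl
        _ = S D ^ (n + 1) * (W D * S D) * W D := by simp only [mul_assoc]
        _ ≤ S D ^ (n + 1) * (S D * W D) * W D :=
            mul_le_mul' (mul_le_mul' le_rfl (W_mul_S_le hconj)) le_rfl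
        _ = S D ^ (n + 1 + 1) * (W D * W D) := by rw [pow_succ (S D) (n + 1)]; simp only [mul_assoc]
        _ ≤ S D ^ (n + 1 + 1) * W D := mul_le_mul' le_rfl (W_mul_W_le hmul)
  obtain ⟨k, hk⟩ := hnil
  have hSk : S D ^ (k + 1) = ⊥ := by
    rw [S, Submodule.span_pow, Submodule.span_eq_bot]
    intro x hx
    obtain ⟨f, rfl⟩ := (Set.mem_pow).mp hx
    rw [List.ofFn_succ', List.prod_concat]
    have h0 := hk (List.ofFn (fun i : Fin k => ((f i.castSucc : _) : A))) (by simp) (fun r hr => by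
      obtain ⟨i, rfl⟩ := (List.mem_ofFn' _ _).mp hr
      exact (f i.castSucc).2)
    rw [h0, zero_mul]
  have he2 : e ∈ (S D * W D) ^ (k + 1) := by
    have := Submodule.pow_mem_pow (S D * W D) he1 (k + 1)
    rwa [hpow] at this
  have he3 := hKpow k he2
  rw [hSk, Submodule.bot_mul] at he3
  simpa using he3

end Cfsg.Agent.Lib.Blocks.GradedNil
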