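import Mathlib
import Cfsg.Agent.Lib.Blocks.GradedNil

/-!
# Idempotents commuting with a normal subgroup, over a field

`N ⊴ G`, `F` a field.  If `e` is a nonzero idempotent of `F[G]` commuting with `N`, there is `z`
commuting with `N` such that the `N`-part of `z e` (an element of the commutative ring `Z(F[N])`) is
not nilpotent.
-/

set_option linter.unusedSectionVars false
set_option autoImplicit false
set_option linter.style.haveILetI false

namespace Cfsg.Agent.Lib.Blocks.GradedFG

open MonoidAlgebra Cfsg.Agent.Lib.Blocks.GradedNil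

variable {F : Type*} [Field F] {G : Type*} [Group G] [Fintype G]

/-- The element with prescribed coefficients. -/
noncomputable def ofF (f : G → F) : MonoidAlgebra F G := ofCoeff (Finsupp.equivFunOnFinite.symm f)

@[simp] theorem coeff_ofF (f : G → F) (g : G) : (ofF f).coeff g = f g := rfl

theorem coeff_mul_sumF (x y : MonoidAlgebra F G) (g : G) :
    (x * y).coeff g = ∑ h : G, x.coeff h * y.coeff (h⁻¹ * g) := by
  rw [coeff_mul_apply_left, Finsupp.sum_fintype]
  intro i
  simp

theorem coeff_mul_sumF' (x y : MonoidAlgebra F G) (g : G) :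
    (x * y).coeff g = ∑ h : G, x.coeff (g * h⁻¹) * y.coeff h := by
  rw [coeff_mul_apply_right, Finsupp.sum_fintype]
  intro i
  simp

theorem coeff_oneF [DecidableEq G] (g : G) :
    (1 : MonoidAlgebra F G).coeff g = if g = 1 then 1 else 0 := by
  rw [one_def, coeff_single, Finsupp.single_apply]
  simp only [eq_comm]

variable (N : Subgroup G)

/-- Commuting with `N`, in terms of coefficients. -/
def NInv (z : MonoidAlgebra F G) : Prop := ∀ n ∈ N, ∀ g, z.coeff (n * g * n⁻¹) = z.coeff g

variable {N}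

theorem NInv.mul {x y : MonoidAlgebra F G} (hx : NInv N x) (hy : NInv N y) : NInv N (x * y) := by
  intro n hn g
  rw [coeff_mul_sumF, coeff_mul_sumF]
  refine Fintype.sum_equiv (MulAut.conj n).symm.toEquiv _ _ fun h => ?_
  have e1 : ((MulAut.conj n).symm.toEquiv h) = n⁻¹ * h * n := by
    simp
  rw [e1]
  have e2 := hx n hn (n⁻¹ * h * n)
  have e3 : n * (n⁻¹ * h * n) * n⁻¹ = h := by group
  rw [e3] at e2
  have e4 := hy n hn ((n⁻¹ * h * n)⁻¹ * g)
  have e5 : h⁻¹ * (n * g * n⁻¹) = n * ((n⁻¹ * h * n)⁻¹ * g) * n⁻¹ := by group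
  rw [e5, e4, ← e2]

theorem NInv.add {x y : MonoidAlgebra F G} (hx : NInv N x) (hy : NInv N y) : NInv N (x + y) := by
  intro n hn g
  simp only [coeff_add, Finsupp.add_apply]
  rw [hx n hn, hy n hn]

theorem NInv.one : NInv N (1 : MonoidAlgebra F G) := by
  classical
  intro n hn g
  rw [coeff_oneF, coeff_oneF]
  have : n * g * n⁻¹ = 1 ↔ g = 1 := by
    constructor
    · intro h
      have : g = n⁻¹ * (n * g * n⁻¹) * n := by group
      rw [this, h]
      group
    · rintro rfl
      group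
  simp only [this]

variable (N) [hN : N.Normal]

/-- The homogeneous component of degree `q`. -/
def Dq (q : G ⧸ N) : AddSubgroup (MonoidAlgebra F G) where
  carrier := {z | NInv N z ∧ ∀ g : G, (g : G ⧸ N) ≠ q → z.coeff g = 0}
  add_mem' := by
    rintro a b ⟨ha, ha'⟩ ⟨hb, hb'⟩
    refine ⟨ha.add hb, fun g hg => ?_⟩
    simp only [coeff_add, Finsupp.add_apply, ha' g hg, hb' g hg, add_zero]
  zero_mem' := ⟨fun _ _ _ => rfl, fun _ _ => rfl⟩
  neg_mem' := by
    rintro a ⟨ha, ha'⟩
    refine ⟨fun n hn g => ?_, fun g hg => ?_⟩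
    · change (-a.coeff) (n * g * n⁻¹) = (-a.coeff) g
      simp only [Finsupp.neg_apply]
      rw [ha n hn]
    · change (-a.coeff) g = 0
      simp only [Finsupp.neg_apply]
      rw [ha' g hg, neg_zero]

variable {N}

theorem mem_Dq {q : G ⧸ N} {z : MonoidAlgebra F G} :
    z ∈ Dq N q ↔ NInv N z ∧ ∀ g : G, (g : G ⧸ N) ≠ q → z.coeff g = 0 := Iff.rfl

theorem Dq_mul {q q' : G ⧸ N} {a b : MonoidAlgebra F G} (ha : a ∈ Dq N q) (hb : b ∈ Dq N q') :
    a * b ∈ Dq N (q * q') := by
  refine ⟨ha.1.mul hb.1, fun g hg => ?_⟩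
  rw [coeff_mul_sumF]
  refine Finset.sum_eq_zero fun h _ => ?_
  by_cases hh : (h : G ⧸ N) = q
  · rw [hb.2 (h⁻¹ * g), mul_zero]
    intro hq
    apply hg
    rw [← hh, ← hq]
    rw [← QuotientGroup.mk_mul]
    congr 1
    group
  · rw [ha.2 h hh, zero_mul]

theorem one_mem_Dq : (1 : MonoidAlgebra F G) ∈ Dq N (1 : G ⧸ N) := by
  classical
  refine ⟨NInv.one, fun g hg => ?_⟩
  rw [coeff_oneF, if_neg]
  rintro rfl
  exact hg rfl

theorem mem_of_coeff_ne {z : MonoidAlgebra F G} (hz : z ∈ Dq N (1 : G ⧸ N)) {g : G} (hg : z.coeff g ≠ 0) :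
    g ∈ N := by
  by_contra h
  apply hg
  apply hz.2
  rwa [Ne, QuotientGroup.eq_one_iff]

theorem Dq_one_comm {a b : MonoidAlgebra F G} (ha : a ∈ Dq N (1 : G ⧸ N)) (hb : b ∈ Dq N (1 : G ⧸ N)) :
    a * b = b * a := by
  ext x
  rw [coeff_mul_sumF', coeff_mul_sumF]
  refine Finset.sum_congr rfl fun k _ => ?_
  by_cases hk : k ∈ N
  · have h1 := ha.1 k⁻¹ (N.inv_mem hk) (x * k⁻¹)
    have e : k⁻¹ * (x * k⁻¹) * k⁻¹⁻¹ = k⁻¹ * x := by group
    rw [e] at h1
    rw [← h1, mul_comm]
  · have h2 : b.coeff k = 0 := by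
      by_contra h
      exact hk (mem_of_coeff_ne hb h)
    rw [h2, mul_zero, zero_mul]

/-- Conjugation on coefficients. -/
noncomputable def cj (g : G) (x : MonoidAlgebra F G) : MonoidAlgebra F G :=
  ofF (fun h => x.coeff (g⁻¹ * h * g))

@[simp] theorem coeff_cj (g : G) (x : MonoidAlgebra F G) (h : G) :
    (cj g x).coeff h = x.coeff (g⁻¹ * h * g) := rfl

omit hN in
theorem cj_mul (g : G) (x y : MonoidAlgebra F G) : cj g (x * y) = cj g x * cj g y := by
  ext h
  rw [coeff_cj, coeff_mul_sumF, coeff_mul_sumF]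
  refine (Fintype.sum_equiv (MulAut.conj g).toEquiv _ _ fun k => ?_)
  have e1 : (MulAut.conj g).toEquiv k = g * k * g⁻¹ := by simp
  rw [e1, coeff_cj, coeff_cj]
  have e2 : g⁻¹ * (g * k * g⁻¹) * g = k := by group
  have e3 : g⁻¹ * ((g * k * g⁻¹)⁻¹ * h) * g = k⁻¹ * (g⁻¹ * h * g) := by group
  rw [e2, e3]

omit hN in
theorem cj_one (g : G) : cj g (1 : MonoidAlgebra F G) = 1 := by
  classical
  ext h
  rw [coeff_cj, coeff_oneF, coeff_oneF]
  have : g⁻¹ * h * g = 1 ↔ h = 1 := by
    constructor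
    · intro h1
      have : h = g * (g⁻¹ * h * g) * g⁻¹ := by group
      rw [this, h1]
      group
    · rintro rfl
      group
  simp only [this]

omit hN in
theorem cj_pow (g : G) (x : MonoidAlgebra F G) (k : ℕ) : cj g (x ^ k) = cj g x ^ k := by
  induction k with
  | zero => simp [cj_one]
  | succ k ih => rw [pow_succ, pow_succ, cj_mul, ih]

omit hN in
theorem cj_zero (g : G) : cj g (0 : MonoidAlgebra F G) = 0 := by
  ext h
  rfl

theorem cj_mem_Dq_one (g : G) {r : MonoidAlgebra F G} (hr : r ∈ Dq N (1 : G ⧸ N)) :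
    cj g r ∈ Dq N (1 : G ⧸ N) := by
  refine ⟨fun n hn x => ?_, fun x hx => ?_⟩
  · rw [coeff_cj, coeff_cj]
    have h1 := hr.1 (g⁻¹ * n * g) (by simpa using hN.conj_mem n hn g⁻¹) (g⁻¹ * x * g)
    rw [← h1]
    congr 1
    group
  · rw [coeff_cj]
    apply hr.2
    intro h
    rw [QuotientGroup.eq_one_iff] at h
    apply hx
    rw [QuotientGroup.eq_one_iff]
    have := hN.conj_mem _ h g
    have e : g * (g⁻¹ * x * g) * g⁻¹ = x := by group
    rwa [e] at this

theorem Dq_conj (q : G ⧸ N) {a r : MonoidAlgebra F G} (ha : a ∈ Dq N q) (hr : r ∈ Dq N (1 : G ⧸ N)) :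
    a * r = cj q.out r * a := by
  ext x
  rw [coeff_mul_sumF', coeff_mul_sumF]
  by_cases hx : (x : G ⧸ N) = q
  · -- write `x = g₀ t`
    have ht : q.out⁻¹ * x ∈ N := by
      rw [← QuotientGroup.eq]
      rw [hx, QuotientGroup.out_eq']
    set t := q.out⁻¹ * x with ht'
    refine Fintype.sum_equiv (MulAut.conj x).toEquiv _ _ fun m => ?_
    have e1 : (MulAut.conj x).toEquiv m = x * m * x⁻¹ := by simp
    rw [e1, coeff_cj]
    have e2 : (x * m * x⁻¹)⁻¹ * x = x * m⁻¹ := by group
    rw [e2, mul_comm]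
    congr 1
    have h1 := hr.1 t ht m
    rw [← h1]
    congr 1
    rw [ht']
    group
  · rw [Finset.sum_eq_zero, Finset.sum_eq_zero]
    · intro k _
      by_cases hk : (cj q.out r).coeff k = 0
      · rw [hk, zero_mul]
      · have hkN : k ∈ N := by
          have : q.out⁻¹ * k * q.out ∈ N := mem_of_coeff_ne hr hk
          have h2 := hN.conj_mem _ this q.out
          have e : q.out * (q.out⁻¹ * k * q.out) * q.out⁻¹ = k := by group
          rwa [e] at h2
        rw [ha.2 (k⁻¹ * x), mul_zero]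
        intro h3
        apply hx
        rw [← h3, QuotientGroup.mk_mul, QuotientGroup.mk_inv, (QuotientGroup.eq_one_iff k).mpr hkN]
        simp
    · intro m _
      by_cases hm : r.coeff m = 0
      · rw [hm, mul_zero]
      · have hmN : m ∈ N := mem_of_coeff_ne hr hm
        rw [ha.2 (x * m⁻¹), zero_mul]
        intro h3
        apply hx
        rw [← h3, QuotientGroup.mk_mul, QuotientGroup.mk_inv, (QuotientGroup.eq_one_iff m).mpr hmN]
        simp

/-- The identity component, as a subalgebra. -/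
noncomputable def Bz : Subalgebra F (MonoidAlgebra F G) where
  carrier := {z | z ∈ Dq N (1 : G ⧸ N)}
  mul_mem' := by
    intro a b ha hb
    have := Dq_mul ha hb
    rwa [mul_one] at this
  add_mem' := by
    intro a b ha hb
    exact (Dq N (1 : G ⧸ N)).add_mem ha hb
  algebraMap_mem' := by
    intro c
    rw [Algebra.algebraMap_eq_smul_one]
    refine ⟨fun n hn g => ?_, fun g hg => ?_⟩
    · simp only [coeff_smul, Finsupp.smul_apply]
      rw [NInv.one n hn g]
    · simp only [coeff_smul, Finsupp.smul_apply]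
      rw [one_mem_Dq.2 g hg, smul_zero]

variable (N) in
/-- The identity component is commutative. -/
noncomputable instance BzComm : CommRing (Bz (F := F) (N := N)) :=
  { (inferInstance : Ring (Bz (F := F) (N := N))) with
    mul_comm := fun a b => Subtype.ext (Dq_one_comm a.2 b.2) }

/-- The nilpotents of the identity component are uniformly nilpotent. -/
theorem uniform_nil (N : Subgroup G) [hN : N.Normal] : ∃ k : ℕ, ∀ l : List (MonoidAlgebra F G), l.length = k →
    (∀ r ∈ l, r ∈ Dq N (1 : G ⧸ N) ∧ IsNilpotent r) → l.prod = 0 := by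
  classical
  haveI : Module.Finite F (Bz (F := F) (N := N)) := inferInstance
  haveI : IsNoetherian F (Bz (F := F) (N := N)) := inferInstance
  haveI : IsNoetherianRing (Bz (F := F) (N := N)) := isNoetherian_of_tower F inferInstance
  obtain ⟨k, hk⟩ := IsNoetherianRing.isNilpotent_nilradical (Bz (F := F) (N := N))
  refine ⟨k, fun l hl hr => ?_⟩
  have key : ∀ l : List (MonoidAlgebra F G), (∀ r ∈ l, r ∈ Dq N (1 : G ⧸ N) ∧ IsNilpotent r) →
      ∃ x ∈ (nilradical (Bz (F := F) (N := N))) ^ l.length, (x : MonoidAlgebra F G) = l.prod := by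
    intro l
    induction l with
    | nil =>
      intro _
      exact ⟨1, by simp, by simp⟩
    | cons a l ih =>
      intro h
      obtain ⟨x, hx, hxl⟩ := ih fun r hr => h r (by simp [hr])
      obtain ⟨ha, n, hn⟩ := h a (by simp)
      let a' : Bz (F := F) (N := N) := ⟨a, ha⟩
      have ha' : a' ∈ nilradical (Bz (F := F) (N := N)) := by
        rw [mem_nilradical]
        refine ⟨n, Subtype.ext ?_⟩
        exact hn
      refine ⟨a' * x, ?_, ?_⟩
      · rw [List.length_cons, pow_succ']
        exact Ideal.mul_mem_mul ha' hx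
      · rw [List.prod_cons, ← hxl]
        rfl
  obtain ⟨x, hx, hxl⟩ := key l hr
  rw [hl, hk] at hx
  rw [← hxl, (Ideal.mem_bot).mp hx]
  rfl

/-- The `N`-part of an element. -/
noncomputable def prN (N : Subgroup G) (x : MonoidAlgebra F G) : MonoidAlgebra F G := by
  classical
  exact ofF (fun g => if g ∈ N then x.coeff g else 0)

/-- The component on a coset. -/
noncomputable def comp (q : G ⧸ N) (x : MonoidAlgebra F G) : MonoidAlgebra F G := by
  classical
  exact ofF (fun g => if (g : G ⧸ N) = q then x.coeff g else 0)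

theorem mk_conj {n : G} (hn : n ∈ N) (g : G) : ((n * g * n⁻¹ : G) : G ⧸ N) = (g : G ⧸ N) := by
  rw [QuotientGroup.mk_mul, QuotientGroup.mk_mul, QuotientGroup.mk_inv,
    (QuotientGroup.eq_one_iff n).mpr hn]
  simp

theorem comp_mem_Dq (q : G ⧸ N) {x : MonoidAlgebra F G} (hx : NInv N x) : comp q x ∈ Dq N q := by
  classical
  refine ⟨fun n hn g => ?_, fun g hg => ?_⟩
  · simp only [comp, coeff_ofF]
    rw [mk_conj hn, hx n hn]
  · simp only [comp, coeff_ofF]
    rw [if_neg hg]

theorem sum_comp [Fintype (G ⧸ N)] (x : MonoidAlgebra F G) : x = ∑ q : G ⧸ N, comp q x := by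
  classical
  ext g
  rw [coeff_sum, Finsupp.finset_sum_apply]
  simp only [comp, coeff_ofF]
  rw [Finset.sum_ite_eq]
  simp

theorem mul_comp_eq_prN {q : G ⧸ N} {z : MonoidAlgebra F G} (hz : z ∈ Dq N q⁻¹) (x : MonoidAlgebra F G) :
    z * comp q x = prN N (z * x) := by
  classical
  ext g
  rw [coeff_mul_sumF]
  simp only [prN, comp, coeff_ofF]
  by_cases hg : g ∈ N
  · rw [if_pos hg, coeff_mul_sumF]
    refine Finset.sum_congr rfl fun h _ => ?_
    by_cases hh : (h : G ⧸ N) = q⁻¹
    · have : ((h⁻¹ * g : G) : G ⧸ N) = q := by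
        rw [QuotientGroup.mk_mul, QuotientGroup.mk_inv, hh, (QuotientGroup.eq_one_iff g).mpr hg]
        simp
      rw [if_pos this]
    · rw [hz.2 h hh, zero_mul, zero_mul]
  · rw [if_neg hg]
    refine Finset.sum_eq_zero fun h _ => ?_
    by_cases hh : (h : G ⧸ N) = q⁻¹
    · have : ((h⁻¹ * g : G) : G ⧸ N) ≠ q := by
        rw [QuotientGroup.mk_mul, QuotientGroup.mk_inv, hh, inv_inv]
        intro h2
        apply hg
        rw [← QuotientGroup.eq_one_iff]
        exact mul_left_cancel (a := q) (by rw [h2, mul_one])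
      rw [if_neg this, mul_zero]
    · rw [hz.2 h hh, zero_mul]

/-- **The key existence statement over a field.** -/
theorem exists_not_isNilpotent {e : MonoidAlgebra F G} (he : e * e = e) (hinv : NInv N e) (hne : e ≠ 0) :
    ∃ z : MonoidAlgebra F G, NInv N z ∧ ¬ IsNilpotent (prN N (z * e)) := by
  classical
  by_contra hcon
  push Not at hcon
  apply hne
  letI : Fintype (G ⧸ N) := Fintype.ofFinite _
  refine eq_zero_of_forall_isNilpotent (D := Dq N) Dq_mul one_mem_Dq ?_ (uniform_nil N) he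
    (fun q => comp q e) (fun q => comp_mem_Dq q hinv) (sum_comp e) ?_
  · intro q a ha r hr hrn
    refine ⟨cj q.out r, cj_mem_Dq_one _ hr, ?_, Dq_conj q ha hr⟩
    obtain ⟨n, hn⟩ := hrn
    exact ⟨n, by rw [← cj_pow, hn, cj_zero]⟩
  · intro q z hz
    rw [mul_comp_eq_prN hz]
    exact hcon z hz.1

end Cfsg.Agent.Lib.Blocks.GradedFG
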