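import Mathlib
import Cfsg.Agent.Lib.Blocks.GradedFG
import Cfsg.Agent.Lib.Blk89.BlockPow
import Cfsg.Agent.Lib.BlockH.BrauerMap
import Cfsg.Agent.Lib.BlockT.NormalP
import Cfsg.Agent.Lib.BlockT.Fong
import Cfsg.Agent.Lib.Blocks.Defect2
import Cfsg.Agent.Lib.Blocks.FR2

/-!
# Blocks covering blocks of normal subgroups

For a block `B` of `G` covering the block `b` of `N ⊴ G` there is an element `z` with local coefficients
commuting with `N` such that the `N`-part of `z e_B` has central character outside `J` on each member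
of `b`.  Consequences:

* `exists_constituent_of_covers`: each member of `b` lies under a member of `B`;
* `weak_knorr`: defect groups of `b` are contained in defect groups of `B`.
-/

set_option linter.unusedSectionVars false
set_option autoImplicit false
set_option linter.style.haveILetI false

namespace Cfsg.Agent.Lib.Blocks.Cover

open Cfsg MonoidAlgebra
open Cfsg.Agent.Lib.Blocks.Local Cfsg.Agent.Lib.Blocks.Central Cfsg.Agent.Lib.Blocks.Brauer
open Cfsg.Agent.Lib.Blocks.Induced Cfsg.Agent.Lib.Blocks.Defect Cfsg.Agent.Lib.Blocks.Defect2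
open Cfsg.Agent.Lib.Char.Basic Cfsg.Agent.Lib.Char.Ortho Cfsg.Agent.Lib.Char.Complete
open Cfsg.Agent.Lib.Blk89.BlockPow Cfsg.Agent.Lib.Blocks.GradedFG
open Cfsg.Agent.Lib.BlockH.BrauerMap Cfsg.Agent.Lib.BlockT.Normal Cfsg.Agent.Lib.Blocks.FR2
open Cfsg.Agent.Lib.BlockT.SylowIn
open scoped ComplexConjugate

universe u

variable {G : Type u} [Group G] [Fintype G] {M : Ideal AlgInt} [hMp : M.IsPrime]

/-! ### Reduction modulo `J` -/

variable (M) in
/-- Reduction of an element of the group algebra. -/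
noncomputable def rho (x : GA G) : MonoidAlgebra (Res M) G := ofF (fun g => r M (x.coeff g))

@[simp] theorem coeff_rho (x : GA G) (g : G) : (rho M x).coeff g = r M (x.coeff g) := rfl

theorem rho_mul {x y : GA G} (hx : Rc M x) (hy : Rc M y) : rho M (x * y) = rho M x * rho M y := by
  ext g
  rw [coeff_rho, coeff_mul_sum, coeff_mul_sumF, r_sum _ _ fun h _ => memLocalRing_mul (hx h) (hy _)]
  refine Fintype.sum_congr _ _ fun h => ?_
  rw [r_mul (hx h) (hy _)]
  rfl

theorem rho_one : rho M (1 : GA G) = 1 := by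
  classical
  ext g
  rw [coeff_rho, coeff_one', coeff_oneF]
  split_ifs
  · exact r_one
  · exact r_zero

theorem rho_pow {x : GA G} (hx : Rc M x) (n : ℕ) : rho M (x ^ n) = rho M x ^ n := by
  induction n with
  | zero => simp [rho_one]
  | succ n ih => rw [pow_succ, pow_succ, rho_mul (hx.pow n) hx, ih]

theorem rho_eq_zero_iff {x : GA G} (hx : Rc M x) : rho M x = 0 ↔ Jc M x := by
  constructor
  · intro h g
    have := congrArg (fun a : MonoidAlgebra (Res M) G => a.coeff g) h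
    exact (r_eq_zero_iff (hx g)).mp this
  · intro h
    ext g
    exact (r_eq_zero_iff (hx g)).mpr (h g)

variable (M) in
/-- A lift from the residue field. -/
noncomputable def lft (a : Res M) : ℂ :=
  ((Function.surjInv (Ideal.Quotient.mk_surjective (I := localIdeal M)) a : localSubring M) : ℂ)

theorem lft_mem (a : Res M) : MemLocalRing M (lft M a) :=
  (Function.surjInv (Ideal.Quotient.mk_surjective (I := localIdeal M)) a : localSubring M).2

theorem r_lft (a : Res M) : r M (lft M a) = a := by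
  rw [lft, r_of_mem]
  exact Function.surjInv_eq _ _

/-- **The main existence statement**, in characteristic zero. -/
theorem exists_z {N : Subgroup G} [hN : N.Normal] [Fintype N] [Fintype (IrrCharacter N)] {e : GA G}
    (he : e * e = e) (hl : Rc M e) (hinv : QInv N e) (hne : ¬ Jc M e) :
    ∃ (z : GA G) (hz : QInv N z), Rc M z ∧
      ∃ ψ : IrrCharacter N, ¬ MemLocalIdeal M (omegaHom ψ (restrC N (hz.mul hinv))) := by
  classical
  have he' : rho M e * rho M e = rho M e := by rw [← rho_mul hl hl, he]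
  have hinv' : NInv N (rho M e) := fun n hn g => by
    rw [coeff_rho, coeff_rho, hinv n hn g]
  have hne' : rho M e ≠ 0 := fun h => hne ((rho_eq_zero_iff hl).mp h)
  obtain ⟨zb, hzb, hnn⟩ := exists_not_isNilpotent he' hinv' hne'
  let z : GA G := ofFun (fun g => lft M (zb.coeff g))
  have hzc : ∀ g, z.coeff g = lft M (zb.coeff g) := fun g => rfl
  have hRz : Rc M z := fun g => lft_mem _
  have hzr : rho M z = zb := by
    ext g
    rw [coeff_rho, hzc, r_lft]
  have hz : QInv N z := fun n hn g => by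
    rw [hzc, hzc, hzb n hn g]
  refine ⟨z, hz, hRz, ?_⟩
  by_contra hall
  push Not at hall
  obtain ⟨k, hk⟩ := exists_pow_Jc (restrC_mem_localCenter N (hz.mul hinv) (hRz.mul hl)) hall
  apply hnn
  have hw : rho M (incl N ((restrC N (hz.mul hinv) : Subalgebra.center ℂ (GA N)) : GA N)) =
      prN N (zb * rho M e) := by
    ext g
    rw [coeff_rho]
    simp only [prN, coeff_ofF]
    by_cases hg : g ∈ N
    · rw [if_pos hg, coeff_incl_of_mem N _ hg, ← hzr, ← rho_mul hRz hl, coeff_rho]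
      rfl
    · rw [if_neg hg, coeff_incl_of_notMem N _ hg, r_zero]
  refine ⟨k, ?_⟩
  rw [← hw, ← rho_pow (Rc.incl N (Rc.of_localCenter (restrC_mem_localCenter N (hz.mul hinv) (hRz.mul hl)))),
    ← incl_pow]
  rw [rho_eq_zero_iff (Rc.incl N ((Rc.of_localCenter (restrC_mem_localCenter N (hz.mul hinv) (hRz.mul hl))).pow k))]
  exact Jc.incl N hk

/-! ### Idempotents with vanishing trace -/

/-- An idempotent with zero trace on a representation acts as zero. -/
theorem lin_mul_eq_zero_of_idem {χ : G → ℂ} (hχ : IsCharacter G χ) {w : GA G} (hw : w * w = w)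
    (h0 : lin χ w = 0) (y : GA G) : lin χ (w * y) = 0 := by
  classical
  obtain ⟨n, ρ, rfl⟩ := hχ
  set T := ρ.asAlgebraHom w with hT
  have hTT : IsIdempotentElem T := by
    show T * T = T
    rw [hT, ← map_mul, hw]
  have htr : LinearMap.trace ℂ (Fin n → ℂ) T = 0 := by
    rw [hT, trace_asAlgebraHom, h0]
  have hproj := LinearMap.IsIdempotentElem.isProj_range T hTT
  have h1 := hproj.trace
  rw [htr] at h1
  have h2 : Module.finrank ℂ (LinearMap.range T) = 0 := by
    have : (Module.finrank ℂ (LinearMap.range T) : ℂ) = 0 := h1.symm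
    exact_mod_cast this
  have h3 : LinearMap.range T = ⊥ := Submodule.finrank_eq_zero.mp h2
  have h4 : T = 0 := LinearMap.range_eq_bot.mp h3
  rw [← trace_asAlgebraHom, map_mul, ← hT, h4, zero_mul, map_zero]

section Normal

variable {N : Subgroup G} [hN : N.Normal] [Fintype N] [Fintype (IrrCharacter N)]

/-- The functional `y ↦ ∑ₙ y(n) ψ(n)` in terms of the idempotent of `ψ`. -/
theorem sum_coeff_mul_irr (ψ : IrrCharacter N) (y : GA G) :
    ∑ n : N, y.coeff n * (ψ : N → ℂ) n =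
      (Nat.card N : ℂ) * ((ψ : N → ℂ) 1)⁻¹ *
        (incl N ((idem ({ψ} : Set (IrrCharacter N)) : Subalgebra.center ℂ (GA N)) : GA N) * y).coeff 1 := by
  classical
  have hψ1 := irr_one_ne_zero ψ.2
  have hc : (Nat.card N : ℂ) ≠ 0 := by
    exact_mod_cast Nat.card_pos.ne'
  rw [coeff_mul_sum]
  have h1 := Cfsg.Agent.Lib.Blocks.FR.sum_incl_mul (T := N)
    ((idem ({ψ} : Set (IrrCharacter N)) : Subalgebra.center ℂ (GA N)) : GA N)
    (fun g => y.coeff (g⁻¹ * 1))
  rw [h1]
  simp only [coeff_idem, blockCoeff_eq_sum]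
  have h2 : ∀ n : N, (∑ χ : IrrCharacter N, if χ ∈ ({ψ} : Set (IrrCharacter N)) then
      (χ : N → ℂ) 1 * conj ((χ : N → ℂ) n) else 0) = (ψ : N → ℂ) 1 * conj ((ψ : N → ℂ) n) := by
    intro n
    rw [Finset.sum_eq_single ψ]
    · rw [if_pos (Set.mem_singleton ψ)]
    · intro χ _ hχ
      rw [if_neg (by simpa using hχ)]
    · simp
  simp only [h2]
  rw [Finset.mul_sum]
  have h3 := Equiv.sum_comp (Equiv.inv N) (fun n : N => y.coeff n * (ψ : N → ℂ) n)
  rw [← h3]
  refine Fintype.sum_congr _ _ fun n => ?_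
  simp only [Equiv.inv_apply]
  have h4 : (ψ : N → ℂ) n⁻¹ = conj ((ψ : N → ℂ) n) :=
    char_inv_eq_conj (isCharacter_of_isIrrCharacter ψ.2) n
  rw [h4]
  have h5 : ((n⁻¹ : N) : G) = ((n : G)⁻¹ * 1 : G)⁻¹ ⁻¹ := by simp
  have h6 : ((n : G)⁻¹ * 1 : G) = ((n⁻¹ : N) : G) := by simp
  rw [h6]
  field_simp

/-- **Orthogonality**: if no member of `B` lies over `ψ` then `z e_B` has vanishing functional at `ψ`. -/
theorem sum_mul_idem_eq_zero [Fintype (IrrCharacter G)] (B : Set (IrrCharacter G)) (ψ : IrrCharacter N)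
    (h : ∀ χ ∈ B, classInner (fun n : N => (χ : G → ℂ) n) (ψ : N → ℂ) = 0) (z : GA G) :
    ∑ n : N, (z * ((idem B : Subalgebra.center ℂ (GA G)) : GA G)).coeff n * (ψ : N → ℂ) n = 0 := by
  classical
  rw [sum_coeff_mul_irr, ← mul_assoc]
  set E := incl N ((idem ({ψ} : Set (IrrCharacter N)) : Subalgebra.center ℂ (GA N)) : GA N) with hE
  have hEE : E * E = E := by
    rw [hE, ← incl_mul, ← Subalgebra.coe_mul, Cfsg.Agent.Lib.Blocks.Green.idem_mul_self]
  have hlin : ∀ χ ∈ B, lin (χ : G → ℂ) E = 0 := by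
    intro χ hχ
    rw [lin_apply, hE, Cfsg.Agent.Lib.Blocks.FR.sum_incl_mul]
    simp only [coeff_idem]
    rw [sum_blockCoeff_fun ({ψ} : Set (IrrCharacter N)) (fun n : N => (χ : G → ℂ) n)]
    refine Finset.sum_eq_zero fun θ _ => ?_
    split_ifs with hθ
    · have : θ = ψ := hθ
      rw [this, h χ hχ, mul_zero]
    · rfl
  have hkey : ((E * z) * ((idem B : Subalgebra.center ℂ (GA G)) : GA G)).coeff 1 = 0 := by
    rw [coeff_mul_sum]
    simp only [coeff_idem, blockCoeff_eq_sum]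
    have h1 : ∀ g : G, (E * z).coeff g * ((Nat.card G : ℂ)⁻¹ * ∑ χ : IrrCharacter G, if χ ∈ B then
        (χ : G → ℂ) 1 * conj ((χ : G → ℂ) (g⁻¹ * 1)) else 0) =
        ∑ χ : IrrCharacter G, if χ ∈ B then (Nat.card G : ℂ)⁻¹ * (χ : G → ℂ) 1 *
          ((E * z).coeff g * (χ : G → ℂ) g) else 0 := by
      intro g
      rw [Finset.mul_sum, Finset.mul_sum]
      refine Fintype.sum_congr _ _ fun χ => ?_
      split_ifs
      · have h4 : conj ((χ : G → ℂ) (g⁻¹ * 1)) = (χ : G → ℂ) g := by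
          rw [mul_one]
          have := char_inv_eq_conj (isCharacter_of_isIrrCharacter χ.2) g⁻¹
          rw [inv_inv] at this
          exact this.symm
        rw [h4]
        ring
      · simp
    simp only [h1]
    rw [Finset.sum_comm]
    refine Finset.sum_eq_zero fun χ _ => ?_
    by_cases hχ : χ ∈ B
    · simp only [if_pos hχ]
      rw [← Finset.mul_sum]
      have := lin_mul_eq_zero_of_idem (isCharacter_of_isIrrCharacter χ.2) hEE (hlin χ hχ) z
      rw [lin_apply] at this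
      rw [this, mul_zero]
    · simp only [if_neg hχ, Finset.sum_const_zero]
  rw [hkey, mul_zero]

variable [Fintype (IrrCharacter G)] {B : Set (IrrCharacter G)} {b : Set (IrrCharacter N)}

theorem idem_not_Jc (hB : IsPBlock M B) : ¬ Jc M ((idem B : Subalgebra.center ℂ (GA G)) : GA G) := by
  intro h
  obtain ⟨g, hg⟩ := exists_isDefectClass hB
  apply hg.2.1
  have := h g
  rwa [coeff_idem] at this

theorem idem_mul_coe (B : Set (IrrCharacter G)) :
    ((idem B : Subalgebra.center ℂ (GA G)) : GA G) * ((idem B : Subalgebra.center ℂ (GA G)) : GA G) =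
      ((idem B : Subalgebra.center ℂ (GA G)) : GA G) := by
  rw [← Subalgebra.coe_mul, Cfsg.Agent.Lib.Blocks.Green.idem_mul_self]

theorem qinv_idem (N : Subgroup G) (B : Set (IrrCharacter G)) :
    QInv N ((idem B : Subalgebra.center ℂ (GA G)) : GA G) := QInv.of_central (isCentral_of_mem _)

theorem omegaHom_restrC_apply {x : GA G} (hx : QInv N x) (ψ : IrrCharacter N) :
    omegaHom ψ (restrC N hx) = (∑ n : N, x.coeff n * (ψ : N → ℂ) n) / (ψ : N → ℂ) 1 := rfl

theorem exists_constituent_of_sum_ne_zero {z : GA G} {ψ : IrrCharacter N}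
    (h : ∑ n : N, (z * ((idem B : Subalgebra.center ℂ (GA G)) : GA G)).coeff n * (ψ : N → ℂ) n ≠ 0) :
    ∃ χ ∈ B, classInner (fun n : N => (χ : G → ℂ) n) (ψ : N → ℂ) ≠ 0 := by
  by_contra hcon
  push Not at hcon
  exact h (sum_mul_idem_eq_zero B ψ hcon z)

/-- **The element attached to a covered block.** -/
theorem exists_z_covers (hB : IsPBlock M B) (hb : IsPBlock M b)
    (hcov : ∃ χ ∈ B, ∃ θ ∈ b, classInner (fun n : N => (χ : G → ℂ) n) (θ : N → ℂ) ≠ 0) :
    ∃ (z : GA G) (hz : QInv N z), Rc M z ∧ ∀ θ ∈ b,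
      ¬ MemLocalIdeal M (omegaHom θ (restrC N (hz.mul (qinv_idem N B)))) := by
  classical
  set e := ((idem B : Subalgebra.center ℂ (GA G)) : GA G) with he
  have hRe : Rc M e := Rc.of_localCenter (idem_mem_localCenter hB)
  obtain ⟨z, hz, hRz, ψ, hψ⟩ := exists_z (idem_mul_coe B) hRe (qinv_idem N B) (idem_not_Jc hB)
  rw [omegaHom_restrC_apply] at hψ
  have hψ0 : ∑ n : N, (z * e).coeff n * (ψ : N → ℂ) n ≠ 0 := by
    intro h0
    rw [h0, zero_div] at hψ
    exact hψ memLocalIdeal_zero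
  obtain ⟨χ', hχ', hψ'⟩ := exists_constituent_of_sum_ne_zero hψ0
  obtain ⟨χ₀, hχ₀, θ₀, hθ₀, hcon⟩ := hcov
  obtain ⟨g, θ₁, hθ₁, rfl⟩ := mem_orbitSet_of_constituent hN M hB hb hχ₀ hθ₀ hcon hχ' hψ'
  have hcje : cj g e = e := by
    ext h
    rw [coeff_cj]
    have := isCentral_of_mem (idem B) h g⁻¹
    rw [inv_inv] at this
    exact this
  have hz' : QInv N (cj g z) := by
    intro n hn x
    rw [coeff_cj, coeff_cj]
    have h1 := hz (g⁻¹ * n * g) (by simpa using hN.conj_mem n hn g⁻¹) (g⁻¹ * x * g)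
    rw [← h1]
    congr 1
    group
  have hRz' : Rc M (cj g z) := fun h => hRz _
  refine ⟨cj g z, hz', hRz', ?_⟩
  have hval : omegaHom θ₁ (restrC N (hz'.mul (qinv_idem N B))) =
      (∑ n : N, (z * e).coeff n * (conjIrr hN g θ₁ : N → ℂ) n) / (conjIrr hN g θ₁ : N → ℂ) 1 := by
    rw [omegaHom_restrC_apply]
    have h1 : (conjIrr hN g θ₁ : N → ℂ) 1 = (θ₁ : N → ℂ) 1 := Cfsg.Agent.Lib.Char.CliffordCorr.conjOn_apply_one hN g θ₁
    rw [h1]
    congr 1
    refine (Fintype.sum_equiv (Cfsg.Agent.Lib.Char.Conj.conjEquiv hN g).toEquiv _ _ fun n => ?_).symm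
    have h2 : (conjIrr hN g θ₁ : N → ℂ) n =
        (θ₁ : N → ℂ) (Cfsg.Agent.Lib.Char.Conj.conjEquiv hN g n) := by
      show Cfsg.Agent.Lib.Char.Conj.conjOn hN g θ₁ n = _
      rw [Cfsg.Agent.Lib.Char.Conj.conjOn_eq_comp]
      rfl
    rw [h2]
    congr 1
    have h3 : (cj g z * e) = cj g (z * e) := by
      rw [cj_mul, hcje]
    have h4 : (cj g z * (e : GA G)).coeff ((Cfsg.Agent.Lib.Char.Conj.conjEquiv hN g).toEquiv n : N) =
        (z * e).coeff (g⁻¹ * (((Cfsg.Agent.Lib.Char.Conj.conjEquiv hN g) n : N) : G) * g) := by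
      rw [h3]
      rfl
    rw [h4, Cfsg.Agent.Lib.Char.Conj.coe_conjEquiv]
    congr 1
    group
  have hnot : ¬ MemLocalIdeal M (omegaHom θ₁ (restrC N (hz'.mul (qinv_idem N B)))) := by
    rw [hval]
    exact hψ
  intro θ hθ h0
  apply hnot
  have hs : SameBlock M (θ₁ : N → ℂ) (θ : N → ℂ) := by
    rw [isPBlock_eq_blockOf hb hθ₁] at hθ
    exact hθ
  have h1 := omegaHom_sub_mem_of_sameBlock hs
    (restrC_mem_localCenter N (hz'.mul (qinv_idem N B)) (hRz'.mul hRe))
  have := memLocalIdeal_add h1 h0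
  rwa [sub_add_cancel] at this

/-- **Every member of a covered block lies under a member of the covering block.** -/
theorem exists_constituent_of_covers (hB : IsPBlock M B) (hb : IsPBlock M b)
    (hcov : ∃ χ ∈ B, ∃ θ ∈ b, classInner (fun n : N => (χ : G → ℂ) n) (θ : N → ℂ) ≠ 0)
    {θ : IrrCharacter N} (hθ : θ ∈ b) :
    ∃ χ ∈ B, classInner (fun n : N => (χ : G → ℂ) n) (θ : N → ℂ) ≠ 0 := by
  obtain ⟨z, hz, -, h⟩ := exists_z_covers hB hb hcov
  have h1 := h θ hθ
  rw [omegaHom_restrC_apply] at h1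
  apply exists_constituent_of_sum_ne_zero (z := z)
  intro h0
  rw [h0, zero_div] at h1
  exact h1 memLocalIdeal_zero

/-- **Knörr's theorem, weak form**: defect groups of a covered block are contained in defect groups of
the covering block. -/
theorem weak_knorr {p : ℕ} [Fact p.Prime] (hM : IsPModular p M) (hB : IsPBlock M B) (hb : IsPBlock M b)
    (hcov : ∃ χ ∈ B, ∃ θ ∈ b, classInner (fun n : N => (χ : G → ℂ) n) (θ : N → ℂ) ≠ 0)
    {Q : Subgroup N} (hQ : IsDefectGroup p M b Q) {D : Subgroup G} (hD : IsDefectGroup p M B D) :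
    ∃ x : G, Q.map N.subtype ≤ D.map (MulAut.conj x).toMonoidHom := by
  classical
  letI := Fintype.ofFinite (ConjClasses N)
  obtain ⟨z, hz, hRz, h⟩ := exists_z_covers hB hb hcov
  obtain ⟨θ, hθ⟩ := isPBlock_nonempty hb
  set e := ((idem B : Subalgebra.center ℂ (GA G)) : GA G) with he
  have hRe : Rc M e := Rc.of_localCenter (idem_mem_localCenter hB)
  have h1 := h θ hθ
  rw [omegaHom_eq_sum_classes] at h1
  obtain ⟨C, -, hC⟩ := exists_notMem_of_sum_notMem _ _ h1
  set n₀ : N := C.out with hn₀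
  have hyl : MemLocalRing M ((restrC N (hz.mul (qinv_idem N B)) : GA N).coeff n₀) := (hRz.mul hRe) _
  have hcl : MemLocalRing M (centralChar (θ : N → ℂ) n₀) :=
    memLocalRing_of_isIntegral (isIntegral_centralChar θ n₀)
  have hc1 : ¬ MemLocalIdeal M (centralChar (θ : N → ℂ) n₀) := fun h0 =>
    hC (memLocalIdeal_mul_left hyl h0)
  have hy1 : ¬ MemLocalIdeal M ((z * e).coeff (n₀ : G)) := fun h0 =>
    hC (memLocalIdeal_mul_right h0 hcl)
  -- the Sylow subgroup
  obtain ⟨S⟩ : Nonempty (Sylow p (Subgroup.centralizer ({n₀} : Set N))) := inferInstance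
  set P₁ : Subgroup N := (S : Subgroup (Subgroup.centralizer ({n₀} : Set N))).map
    (Subgroup.centralizer ({n₀} : Set N)).subtype with hP₁
  have hP₁S : IsSylowIn p P₁ (Subgroup.centralizer ({n₀} : Set N)) := ⟨S, rfl⟩
  set P₀ : Subgroup G := P₁.map N.subtype with hP₀
  have hP₀p : IsPGroup p P₀ := hP₁S.isPGroup.map _
  have hP₀N : ∀ q ∈ P₀, q ∈ N := by
    rintro _ ⟨q, -, rfl⟩
    exact q.2
  have hP₀c : ∀ q ∈ P₀, q * (n₀ : G) = (n₀ : G) * q := by
    rintro _ ⟨q, hq, rfl⟩
    have h2 := hP₁S.le hq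
    simp only [Subgroup.mem_centralizer_iff, Set.mem_singleton_iff, forall_eq] at h2
    exact congrArg (fun t : N => (t : G)) h2.symm
  letI := conjAct P₀
  have hsum : (z * e).coeff (n₀ : G) = ∑ g : G, z.coeff ((n₀ : G) * g⁻¹) * e.coeff g :=
    coeff_mul_sum' _ _ _
  have key := sum_sub_sum_fixed_mem hM hP₀p (fun g : G => z.coeff ((n₀ : G) * g⁻¹) * e.coeff g)
    (by
      intro q g
      change z.coeff ((n₀ : G) * ((q : G) * g * (q : G)⁻¹)⁻¹) * e.coeff ((q : G) * g * (q : G)⁻¹) = _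
      rw [he, coeff_idem, blockCoeff_conj_invariant, ← coeff_idem, ← he]
      congr 1
      have h3 : (n₀ : G) * ((q : G) * g * (q : G)⁻¹)⁻¹ = (q : G) * ((n₀ : G) * g⁻¹) * (q : G)⁻¹ := by
        have h4 : (n₀ : G) * (q : G) = (q : G) * (n₀ : G) := (hP₀c q q.2).symm
        calc (n₀ : G) * ((q : G) * g * (q : G)⁻¹)⁻¹ = ((n₀ : G) * (q : G)) * g⁻¹ * (q : G)⁻¹ := by group
          _ = _ := by rw [h4]; group
      rw [h3]
      exact hz q (hP₀N q q.2) _)
    (fun g => memLocalRing_mul (hRz _) (hRe _))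
    (Finset.univ.filter (· ∈ Subgroup.centralizer (P₀ : Set G)))
    (by
      intro g
      simp only [Finset.mem_filter, Finset.mem_univ, true_and]
      exact (conjAct_fixed_iff P₀ g).symm)
  rw [← hsum] at key
  have h3 : ¬ MemLocalIdeal M (∑ g ∈ Finset.univ.filter (· ∈ Subgroup.centralizer (P₀ : Set G)),
      z.coeff ((n₀ : G) * g⁻¹) * e.coeff g) := by
    intro h
    apply hy1
    have := memLocalIdeal_add key h
    rwa [sub_add_cancel] at this
  obtain ⟨g, hg, hne⟩ := exists_notMem_of_sum_notMem _ _ h3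
  have hgC : g ∈ Subgroup.centralizer (P₀ : Set G) := (Finset.mem_filter.mp hg).2
  have h4 : ¬ MemLocalIdeal M (blockCoeff B g) := by
    intro h0
    apply hne
    rw [he, coeff_idem]
    exact memLocalIdeal_mul_left (hRz _) h0
  have hP₀g : P₀ ≤ Subgroup.centralizer ({g} : Set G) := by
    intro q hq
    simp only [Subgroup.mem_centralizer_iff, Set.mem_singleton_iff, forall_eq]
    exact (Subgroup.mem_centralizer_iff.mp hgC q hq).symm
  -- min-max twice
  obtain ⟨χ, hχ⟩ := isPBlock_nonempty hB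
  obtain ⟨y, hy, hDy⟩ := isDefectGroup_isSylowIn hD
  obtain ⟨x, hx⟩ := minmax_le hM hB hχ (hy.2.2 χ hχ) h4 hDy hP₀p hP₀g
  obtain ⟨yb, hyb, hQy⟩ := isDefectGroup_isSylowIn hQ
  obtain ⟨t, ht⟩ := minmax_le hM hb hθ hc1 hyb.2.1 hP₁S hQy.isPGroup hQy.le
  refine ⟨(t : G) * x, ?_⟩
  rintro _ ⟨q, hq, rfl⟩
  obtain ⟨u, hu, rfl⟩ := ht hq
  have hu₀ : ((u : N) : G) ∈ P₀ := ⟨u, hu, rfl⟩
  obtain ⟨v, hv, hve⟩ := hx hu₀
  refine ⟨v, hv, ?_⟩
  simp only [MulEquiv.coe_toMonoidHom, MulAut.conj_apply, Subgroup.subtype_apply, Subgroup.coe_mul,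
    Subgroup.coe_inv] at hve ⊢
  rw [← hve]
  group

end Normal

end Cfsg.Agent.Lib.Blocks.Cover
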