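import Mathlib
import Cfsg.Agent.Lib.Blocks.Cover
import Cfsg.Agent.Lib.Blocks.Inducing

/-!
# Knörr's theorem on defect groups of covered blocks

* `covB`: the members of blocks covered by `B`: a union of blocks, stable under conjugation.
* `exists_fixed_covB`: a `p`-subgroup centralizing `y` with `e_B(y) ∉ J` centralizes some `n ∈ N` with
  coefficient outside `J` in the idempotent of `covB`.
* `card_inf_le`: `|D ∩ N| ≤ |Q|`.
* `knorr`: some defect group of `B` meets `N` exactly in a given defect group of `b`.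
-/

set_option linter.unusedSectionVars false
set_option autoImplicit false
set_option linter.style.haveILetI false

namespace Cfsg.Agent.Lib.Blocks.Cover2

open Cfsg MonoidAlgebra
open Cfsg.Agent.Lib.Blocks.Local Cfsg.Agent.Lib.Blocks.Central Cfsg.Agent.Lib.Blocks.Brauer
open Cfsg.Agent.Lib.Blocks.Induced Cfsg.Agent.Lib.Blocks.Defect Cfsg.Agent.Lib.Blocks.Defect2
open Cfsg.Agent.Lib.Char.Basic Cfsg.Agent.Lib.Char.Ortho Cfsg.Agent.Lib.Char.Complete
open Cfsg.Agent.Lib.Char.Induced Cfsg.Agent.Lib.BlockT.NormalP Cfsg.Agent.Lib.BlockT.Fong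
open Cfsg.Agent.Lib.BlockH.BrauerMap Cfsg.Agent.Lib.BlockT.Normal Cfsg.Agent.Lib.Blocks.FR2
open Cfsg.Agent.Lib.BlockT.SylowIn Cfsg.Agent.Lib.Blocks.Cover
open Cfsg.Agent.Lib.Blocks.Inducing
open scoped ComplexConjugate

universe u

variable {G : Type u} [Group G] [Fintype G] {M : Ideal AlgInt} [hMp : M.IsPrime]
  {N : Subgroup G} [hN : N.Normal] [Fintype N] [Fintype (IrrCharacter N)]
  [Fintype (IrrCharacter G)] {B : Set (IrrCharacter G)}

/-- The members of the blocks covered by `B`. -/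
def covB (N : Subgroup G) [Fintype N] (B : Set (IrrCharacter G)) : Set (IrrCharacter N) :=
  {ψ | ∃ χ ∈ B, classInner (fun n : N => (χ : G → ℂ) n) (ψ : N → ℂ) ≠ 0}

theorem classInner_conjIrr {χ : G → ℂ} (hχ : IsClassFunction G χ) (t : G) (ψ : IrrCharacter N) :
    classInner (fun n : N => χ n) (conjIrr hN t ψ : N → ℂ) = classInner (fun n : N => χ n) (ψ : N → ℂ) := by
  rw [classInner, classInner]
  congr 1
  refine Fintype.sum_equiv (Cfsg.Agent.Lib.Char.Conj.conjEquiv hN t).toEquiv _ _ fun n => ?_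
  have h1 : ((Cfsg.Agent.Lib.Char.Conj.conjEquiv hN t).toEquiv n : N) =
      (Cfsg.Agent.Lib.Char.Conj.conjEquiv hN t) n := rfl
  rw [h1]
  have h2 : (conjIrr hN t ψ : N → ℂ) n = (ψ : N → ℂ) (Cfsg.Agent.Lib.Char.Conj.conjEquiv hN t n) := by
    show Cfsg.Agent.Lib.Char.Conj.conjOn hN t ψ n = _
    rw [Cfsg.Agent.Lib.Char.Conj.conjOn_eq_comp]
    rfl
  rw [h2, Cfsg.Agent.Lib.Char.Conj.coe_conjEquiv, hχ]

theorem conjIrr_mem_covB (t : G) {ψ : IrrCharacter N} (hψ : ψ ∈ covB N B) :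
    conjIrr hN t ψ ∈ covB N B := by
  obtain ⟨χ, hχ, h⟩ := hψ
  refine ⟨χ, hχ, ?_⟩
  rwa [classInner_conjIrr (isClassFunction_of_isIrrCharacter χ.2)]

theorem conjIrr_image_covB (t : G) : conjIrr hN t '' covB N B = covB N B := by
  apply Set.Subset.antisymm
  · rintro _ ⟨ψ, hψ, rfl⟩
    exact conjIrr_mem_covB t hψ
  · intro ψ hψ
    exact ⟨conjIrr hN t⁻¹ ψ, conjIrr_mem_covB t⁻¹ hψ, conjIrr_conjIrr_inv hN t ψ⟩

theorem blockOf_subset_covB (hB : IsPBlock M B) {ψ : IrrCharacter N} (hψ : ψ ∈ covB N B) :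
    blockOf M (ψ : N → ℂ) ⊆ covB N B := by
  obtain ⟨χ, hχ, h⟩ := hψ
  intro ψ' hψ'
  exact exists_constituent_of_covers hB ⟨ψ, rfl⟩ ⟨χ, hχ, ψ, mem_blockOf_self ψ, h⟩ hψ'

theorem blockCoeff_covB_conj (t : G) (n : N) :
    blockCoeff (covB N B) (Cfsg.Agent.Lib.Char.Conj.conjEquiv hN t n) = blockCoeff (covB N B) n := by
  rw [blockCoeff_conjEquiv hN, conjIrr_image_covB]

/-- The central element attached to `covB`. -/
noncomputable def Ecov (hN : N.Normal) (B : Set (IrrCharacter G)) : Subalgebra.center ℂ (GA G) :=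
  ⟨ofFun (Cfsg.extendByZero N (blockCoeff (covB N B))), by
    rw [mem_center_iff]
    intro g h
    simp only [coeff_ofFun]
    by_cases hg : g ∈ N
    · have h1 : h * g * h⁻¹ ∈ N := hN.conj_mem g hg h
      rw [extendByZero_of_mem N _ hg, extendByZero_of_mem N _ h1]
      have h2 := blockCoeff_covB_conj (B := B) h ⟨g, hg⟩
      rw [← h2]
      congr 1
    · have h1 : h * g * h⁻¹ ∉ N := fun h2 => hg (by
        have := hN.conj_mem _ h2 h⁻¹
        simpa [mul_assoc] using this)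
      rw [extendByZero_of_not_mem N _ hg, extendByZero_of_not_mem N _ h1]⟩

theorem coeff_Ecov (g : G) : ((Ecov hN B : Subalgebra.center ℂ (GA G)) : GA G).coeff g =
    Cfsg.extendByZero N (blockCoeff (covB N B)) g := rfl

theorem memLocalRing_covB (hB : IsPBlock M B) (n : N) : MemLocalRing M (blockCoeff (covB N B) n) :=
  memLocalRing_blockCoeff_of_union M (fun _ hψ => blockOf_subset_covB hB hψ) n

theorem Ecov_mem_local (hB : IsPBlock M B) (g : G) :
    MemLocalRing M (((Ecov hN B : Subalgebra.center ℂ (GA G)) : GA G).coeff g) := by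
  rw [coeff_Ecov]
  by_cases hg : g ∈ N
  · rw [extendByZero_of_mem N _ hg]
    exact memLocalRing_covB hB _
  · rw [extendByZero_of_not_mem N _ hg]
    exact memLocalRing_zero

theorem omegaHom_Ecov {χ : IrrCharacter G} (hχ : χ ∈ B) : omegaHom χ (Ecov hN B) = 1 := by
  classical
  rw [omegaHom_apply, lin_apply]
  have e1 : ∑ g : G, ((Ecov hN B : Subalgebra.center ℂ (GA G)) : GA G).coeff g * (χ : G → ℂ) g =
      ∑ n : N, blockCoeff (covB N B) n * (χ : G → ℂ) n := sum_extendByZero_mul _ _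
  rw [e1]
  obtain ⟨θ, hθ⟩ := exists_constituent (N := N) χ
  have hinv : ∀ (t : G) (n : N), blockCoeff (covB N B) ⟨t * n * t⁻¹, hN.conj_mem n n.2 t⟩ =
      blockCoeff (covB N B) n := by
    intro t n
    rw [← blockCoeff_covB_conj (B := B) t n]
    congr 1
  rw [sum_mul_eq_of_constituent hN χ.2 θ.2 hθ (blockCoeff (covB N B)) hinv, sum_blockCoeff_irr,
    if_pos ⟨χ, hχ, hθ⟩]

theorem Ecov_mul_idem : Ecov hN B * idem B = idem B := by
  classical
  apply omegaHom_injective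
  intro ψ
  rw [map_mul, omegaHom_idem]
  by_cases hψ : ψ ∈ B
  · rw [if_pos hψ, omegaHom_Ecov hψ, one_mul]
  · rw [if_neg hψ, mul_zero]

/-- A `p`-subgroup centralizing a nonzero coefficient of `B` centralizes a nonzero coefficient in `N`. -/
theorem exists_fixed_covB {p : ℕ} [hp : Fact p.Prime] (hM : IsPModular p M) (hB : IsPBlock M B) {y : G}
    (hy : ¬ MemLocalIdeal M (blockCoeff B y)) (Q : Subgroup G) (hQ : IsPGroup p Q)
    (hQy : ∀ q ∈ Q, q * y = y * q) :
    ∃ n : N, ¬ MemLocalIdeal M (blockCoeff (covB N B) n) ∧ ∀ q ∈ Q, q * (n : G) = (n : G) * q := by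
  classical
  have h1 := Ecov_mul_idem (B := B) (N := N)
  have h2 : blockCoeff B y = ∑ g : G, ((Ecov hN B : Subalgebra.center ℂ (GA G)) : GA G).coeff g *
      blockCoeff B (g⁻¹ * y) := by
    have := congrArg (fun x : Subalgebra.center ℂ (GA G) => (x : GA G).coeff y) h1
    simp only [coeff_idem] at this
    rw [← this]
    simp only [Subalgebra.coe_mul, coeff_mul_sum, coeff_idem]
  letI := conjAct Q
  have hloc : ∀ g : G, MemLocalRing M (((Ecov hN B : Subalgebra.center ℂ (GA G)) : GA G).coeff g *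
      blockCoeff B (g⁻¹ * y)) := fun g =>
    memLocalRing_mul (Ecov_mem_local hB g) (memLocalRing_blockCoeff hB _)
  have key := sum_sub_sum_fixed_mem hM hQ (fun g : G =>
      ((Ecov hN B : Subalgebra.center ℂ (GA G)) : GA G).coeff g * blockCoeff B (g⁻¹ * y))
    (by
      intro q g
      change ((Ecov hN B : Subalgebra.center ℂ (GA G)) : GA G).coeff ((q : G) * g * (q : G)⁻¹) *
        blockCoeff B (((q : G) * g * (q : G)⁻¹)⁻¹ * y) = _
      rw [isCentral_of_mem (Ecov hN B) g q]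
      congr 1
      have hqy : (q : G)⁻¹ * y = y * (q : G)⁻¹ := by
        rw [inv_mul_eq_iff_eq_mul, ← mul_assoc, hQy q q.2, mul_assoc, mul_inv_cancel, mul_one]
      have : ((q : G) * g * (q : G)⁻¹)⁻¹ * y = (q : G) * (g⁻¹ * y) * (q : G)⁻¹ := by
        calc ((q : G) * g * (q : G)⁻¹)⁻¹ * y = (q : G) * g⁻¹ * ((q : G)⁻¹ * y) := by group
          _ = (q : G) * g⁻¹ * (y * (q : G)⁻¹) := by rw [hqy]
          _ = _ := by group
      rw [this, blockCoeff_conj_invariant])
    hloc (Finset.univ.filter (· ∈ Subgroup.centralizer (Q : Set G)))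
    (by
      intro g
      simp only [Finset.mem_filter, Finset.mem_univ, true_and]
      exact (conjAct_fixed_iff Q g).symm)
  rw [← h2] at key
  have h3 : ¬ MemLocalIdeal M (∑ g ∈ Finset.univ.filter (· ∈ Subgroup.centralizer (Q : Set G)),
      ((Ecov hN B : Subalgebra.center ℂ (GA G)) : GA G).coeff g * blockCoeff B (g⁻¹ * y)) := by
    intro h
    apply hy
    have := memLocalIdeal_add key h
    rwa [sub_add_cancel] at this
  obtain ⟨g, hg, hne⟩ := exists_notMem_of_sum_notMem _ _ h3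
  have hgC : g ∈ Subgroup.centralizer (Q : Set G) := (Finset.mem_filter.mp hg).2
  have h4 : ¬ MemLocalIdeal M (((Ecov hN B : Subalgebra.center ℂ (GA G)) : GA G).coeff g) := fun h =>
    hne (memLocalIdeal_mul_right h (memLocalRing_blockCoeff hB _))
  rw [coeff_Ecov] at h4
  have hgN : g ∈ N := by
    by_contra hn
    rw [extendByZero_of_not_mem N _ hn] at h4
    exact h4 memLocalIdeal_zero
  rw [extendByZero_of_mem N _ hgN] at h4
  exact ⟨⟨g, hgN⟩, h4, fun q hq => Subgroup.mem_centralizer_iff.mp hgC q hq⟩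

/-- The conjugate of a block. -/
theorem conjIrr_image_eq_blockOf {b : Set (IrrCharacter N)} (hb : IsPBlock M b) {θ : IrrCharacter N}
    (hθ : θ ∈ b) (t : G) : conjIrr hN t '' b = blockOf M (conjIrr hN t θ : N → ℂ) := by
  apply Set.Subset.antisymm
  · rintro _ ⟨θ', hθ', rfl⟩
    have hs : SameBlock M (θ : N → ℂ) (θ' : N → ℂ) := by
      rw [isPBlock_eq_blockOf hb hθ] at hθ'
      exact hθ'
    exact sameBlock_conjOn hN M t hs
  · intro φ hφ
    refine ⟨conjIrr hN t⁻¹ φ, ?_, conjIrr_conjIrr_inv hN t φ⟩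
    rw [isPBlock_eq_blockOf hb hθ]
    have hs : SameBlock M (conjIrr hN t θ : N → ℂ) (φ : N → ℂ) := hφ
    have h2 := sameBlock_conjOn hN M t⁻¹ hs
    have h3 : Cfsg.Agent.Lib.Char.Conj.conjOn hN t⁻¹ (conjIrr hN t θ : N → ℂ) = (θ : N → ℂ) := by
      have := conjIrr_inv_conjIrr hN t θ
      exact congrArg Subtype.val this
    rw [h3] at h2
    exact h2

/-- The `p`-subgroups in `N` centralizing a nonzero coefficient of a block of `N`. -/
theorem card_le_of_coeff {p : ℕ} [hp : Fact p.Prime] (hM : IsPModular p M) {c : Set (IrrCharacter N)}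
    (hc : IsPBlock M c) {n : N} (hn : ¬ MemLocalIdeal M (blockCoeff c n)) {R : Subgroup G}
    (hRp : IsPGroup p R) (hRn : ∀ q ∈ R, q * (n : G) = (n : G) * q)
    {Q : Subgroup N} (hQ : IsDefectGroup p M c Q) : ∃ v : N, R.subgroupOf N ≤ Q.map (MulAut.conj v).toMonoidHom := by
  obtain ⟨θ, hθ⟩ := isPBlock_nonempty hc
  obtain ⟨y, hy, hs⟩ := isDefectGroup_isSylowIn hQ
  refine minmax_le hM hc hθ (hy.2.2 θ hθ) hn hs
    (hRp.comap_of_injective _ (Subgroup.subtype_injective _)) ?_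
  intro r hr
  simp only [Subgroup.mem_centralizer_iff, Set.mem_singleton_iff, forall_eq]
  exact Subtype.ext (hRn _ (Subgroup.mem_subgroupOf.mp hr)).symm

/-- **The upper bound in Knörr's theorem**. -/
theorem card_inf_le {p : ℕ} [hp : Fact p.Prime] (hM : IsPModular p M) {b : Set (IrrCharacter N)}
    (hB : IsPBlock M B) (hb : IsPBlock M b)
    (hcov : ∃ χ ∈ B, ∃ θ ∈ b, classInner (fun n : N => (χ : G → ℂ) n) (θ : N → ℂ) ≠ 0)
    {Q : Subgroup N} (hQ : IsDefectGroup p M b Q) {D : Subgroup G} (hD : IsDefectGroup p M B D) :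
    Nat.card (D ⊓ N : Subgroup G) ≤ Nat.card Q := by
  classical
  obtain ⟨y, hy, hDy⟩ := isDefectGroup_isSylowIn hD
  have hRp : IsPGroup p (D ⊓ N : Subgroup G) := hDy.isPGroup.to_le inf_le_left
  have hRy : ∀ q ∈ (D ⊓ N : Subgroup G), q * y = y * q := by
    intro q hq
    have := hDy.le hq.1
    simp only [Subgroup.mem_centralizer_iff, Set.mem_singleton_iff, forall_eq] at this
    exact this.symm
  obtain ⟨n, hn, hRn⟩ := exists_fixed_covB (N := N) hM hB hy.2.1 (D ⊓ N) hRp hRy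
  obtain ⟨ψ, hψ, hψn⟩ := exists_block_coeff_notMem (fun _ hψ => blockOf_subset_covB hB hψ) hn
  obtain ⟨χ₀, hχ₀, θ₀, hθ₀, hcon⟩ := hcov
  obtain ⟨χ', hχ', hψ'⟩ := hψ
  obtain ⟨t, θ₁, hθ₁, rfl⟩ := mem_orbitSet_of_constituent hN M hB hb hχ₀ hθ₀ hcon hχ' hψ'
  rw [← conjIrr_image_eq_blockOf hb hθ₁, ← blockCoeff_conjEquiv hN] at hψn
  set n' := Cfsg.Agent.Lib.Char.Conj.conjEquiv hN t n with hn'
  -- the conjugate subgroup
  set R' : Subgroup G := (D ⊓ N : Subgroup G).map (MulAut.conj t).toMonoidHom with hR'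
  have hR'p : IsPGroup p R' := hRp.map _
  have hR'N : R' ≤ N := by
    rintro _ ⟨q, hq, rfl⟩
    exact hN.conj_mem q hq.2 t
  have hR'n : ∀ q ∈ R', q * (n' : G) = (n' : G) * q := by
    rintro _ ⟨q, hq, rfl⟩
    rw [hn', Cfsg.Agent.Lib.Char.Conj.coe_conjEquiv]
    simp only [MulEquiv.coe_toMonoidHom, MulAut.conj_apply]
    have := hRn q hq
    calc t * q * t⁻¹ * (t * (n : G) * t⁻¹) = t * (q * (n : G)) * t⁻¹ := by group
      _ = t * ((n : G) * q) * t⁻¹ := by rw [this]
      _ = _ := by group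
  obtain ⟨v, hv⟩ := card_le_of_coeff hM hb hψn hR'p hR'n hQ
  have h1 : Nat.card (R'.subgroupOf N) ≤ Nat.card (Q.map (MulAut.conj v).toMonoidHom) :=
    Subgroup.card_le_of_le hv
  have h2 : Nat.card (Q.map (MulAut.conj v).toMonoidHom) = Nat.card Q := card_conj_eq _ _
  have h3 : Nat.card (R'.subgroupOf N) = Nat.card R' :=
    Nat.card_congr (Subgroup.subgroupOfEquivOfLe hR'N).toEquiv
  have h4 : Nat.card R' = Nat.card (D ⊓ N : Subgroup G) := card_conj_eq _ _
  rw [← h2, ← h4, ← h3]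
  exact h1

/-- **Knörr's theorem**. -/
theorem knorr {p : ℕ} [hp : Fact p.Prime] (hM : IsPModular p M) {b : Set (IrrCharacter N)}
    (hB : IsPBlock M B) (hb : IsPBlock M b)
    (hcov : ∃ χ ∈ B, ∃ θ ∈ b, classInner (fun n : N => (χ : G → ℂ) n) (θ : N → ℂ) ≠ 0)
    {Q : Subgroup G} (hQN : Q ≤ N) (hQ : IsDefectGroup p M b (Q.subgroupOf N)) :
    ∃ P : Subgroup G, IsDefectGroup p M B P ∧ P ⊓ N = Q := by
  classical
  haveI : N.Normal := hN
  obtain ⟨D, hD⟩ := exists_isDefectGroup (p := p) hB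
  obtain ⟨x, hx⟩ := weak_knorr hM hB hb hcov hQ hD
  have hDx := isDefectGroup_conj hD x
  refine ⟨_, hDx, ?_⟩
  have h1 : (Q.subgroupOf N).map N.subtype = Q := by
    rw [Subgroup.subgroupOf_map_subtype]
    exact inf_eq_left.mpr hQN
  rw [h1] at hx
  symm
  apply Subgroup.eq_of_le_of_card_ge (le_inf hx hQN)
  have h2 := card_inf_le hM hB hb hcov hQ hDx
  have h3 : Nat.card (Q.subgroupOf N) = Nat.card Q :=
    Nat.card_congr (Subgroup.subgroupOfEquivOfLe hQN).toEquiv
  rwa [h3] at h2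

end Cfsg.Agent.Lib.Blocks.Cover2
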