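import Mathlib
import Cfsg.Agent.Lib.Blocks.Cover2
import Cfsg.Agent.Lib.Blocks.Heights
import Cfsg.Agent.Lib.Char.Burnside

/-!
# Sums of squares of degrees over principal blocks of normal subgroups
-/

set_option linter.unusedSectionVars false
set_option autoImplicit false
set_option linter.style.haveILetI false

namespace Cfsg.Agent.Lib.Blocks.Lambda

open Cfsg MonoidAlgebra
open Cfsg.Agent.Lib.Blocks.Local Cfsg.Agent.Lib.Blocks.Central Cfsg.Agent.Lib.Blocks.Brauer
open Cfsg.Agent.Lib.Blocks.Heights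
open Cfsg.Agent.Lib.Char.Basic Cfsg.Agent.Lib.Char.Ortho Cfsg.Agent.Lib.Char.Complete
open Cfsg.Agent.Lib.Char.Induced Cfsg.Agent.Lib.BlockT.NormalP Cfsg.Agent.Lib.BlockT.Fong
open Cfsg.Agent.Lib.BlockT.Normal Cfsg.Agent.Lib.Blocks.FR2 Cfsg.Agent.Lib.Blocks.Cover
open scoped ComplexConjugate

universe u

variable {G : Type u} [Group G] [Fintype G] {M : Ideal AlgInt} [hMp : M.IsPrime]
  {N : Subgroup G} (hN : N.Normal) [Fintype N] [Fintype (IrrCharacter N)]
  [Fintype (IrrCharacter G)]

theorem finsum_mem_nat {ι : Type*} [Fintype ι] (S : Set ι) [DecidablePred (· ∈ S)] (f : ι → ℕ) :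
    ∑ᶠ i ∈ S, f i = ∑ i : ι, if i ∈ S then f i else 0 := by
  rw [← finsum_eq_sum_of_fintype]
  exact finsum_congr fun i => finsum_eq_if

/-- The value at the identity of the idempotent of a set of characters. -/
theorem blockCoeff_one_eq {K : Type*} [Group K] [Fintype K] [Fintype (IrrCharacter K)] (S : Set (IrrCharacter K))
    [DecidablePred (· ∈ S)] :
    blockCoeff S 1 = (Nat.card K : ℂ)⁻¹ *
      ((∑ χ : IrrCharacter K, if χ ∈ S then charDegree (χ : K → ℂ) ^ 2 else 0 : ℕ) : ℂ) := by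
  rw [blockCoeff_eq_sum]
  congr 1
  push_cast
  refine Fintype.sum_congr _ _ fun χ => ?_
  split_ifs
  · rw [irr_one_eq, Complex.conj_natCast]
    push_cast
    ring
  · rfl

/-- The degree is the sum over the constituents. -/
theorem exists_mult (χ : IrrCharacter G) :
    ∃ n : IrrCharacter N → ℕ, (∀ θ : IrrCharacter N, classInner (fun k : N => (χ : G → ℂ) k) (θ : N → ℂ) = n θ) ∧
      charDegree (χ : G → ℂ) = ∑ θ : IrrCharacter N, charDegree (θ : N → ℂ) * n θ := by
  classical
  have h0 := fun θ : IrrCharacter N =>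
    exists_nat_classInner (isCharacter_restrict N (isCharacter_of_isIrrCharacter χ.2))
      (isCharacter_of_isIrrCharacter θ.2)
  choose n hn using h0
  refine ⟨n, hn, ?_⟩
  have hF : IsClassFunction N (fun k : N => (χ : G → ℂ) k) :=
    isClassFunction_of_isCharacter (isCharacter_restrict N (isCharacter_of_isIrrCharacter χ.2))
  have h1 := eq_sum_deg_mul_classInner hF
  have h2 : (χ : G → ℂ) ((1 : N) : G) = (charDegree (χ : G → ℂ) : ℂ) := by
    rw [Subgroup.coe_one, irr_one_eq]
  simp only [h2] at h1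
  have h3 : ∀ θ : IrrCharacter N, (θ : N → ℂ) 1 * classInner (fun k : N => (χ : G → ℂ) k) (θ : N → ℂ) =
      ((charDegree (θ : N → ℂ) * n θ : ℕ) : ℂ) := by
    intro θ
    rw [hn θ, irr_one_eq]
    push_cast
    rfl
  simp only [h3] at h1
  exact_mod_cast h1

/-- The sum of squares over the characters over a stable block. -/
theorem sum_covers {c : Set (IrrCharacter N)} (hinv : IsInv hN c) (hc : IsPBlock M c)
    [DecidablePred (· ∈ c)] [DecidablePred (· ∈ covers N c)] :
    (∑ χ : IrrCharacter G, if χ ∈ covers N c then charDegree (χ : G → ℂ) ^ 2 else 0) =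
      N.index * ∑ θ : IrrCharacter N, if θ ∈ c then charDegree (θ : N → ℂ) ^ 2 else 0 := by
  have h1 := blockCoeff_covers hN hinv hc (1 : G)
  have h2 : ((1 : G)) = ((1 : N) : G) := rfl
  rw [h2, extendByZero_coe, Subgroup.coe_one, blockCoeff_one_eq, blockCoeff_one_eq] at h1
  have hG : (Nat.card G : ℂ) ≠ 0 := by exact_mod_cast Nat.card_pos.ne'
  have hH : (Nat.card N : ℂ) ≠ 0 := by exact_mod_cast Nat.card_pos.ne'
  have hidx : (Nat.card G : ℂ) = Nat.card N * N.index := by
    exact_mod_cast (Subgroup.card_mul_index N).symm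
  have hi : (N.index : ℂ) ≠ 0 := by
    intro h0
    rw [h0, mul_zero] at hidx
    exact hG hidx
  rw [hidx] at h1
  field_simp at h1
  exact_mod_cast h1

/-- **The inequalities** for any stable block and any block of `G` covering it, all of whose members... -/
theorem lambda_le [hN' : N.Normal] {c : Set (IrrCharacter N)} {B : Set (IrrCharacter G)} (hB : IsPBlock M B) (hc : IsPBlock M c)
    (hcov : ∃ χ ∈ B, ∃ θ ∈ c, classInner (fun n : N => (χ : G → ℂ) n) (θ : N → ℂ) ≠ 0)
    [DecidablePred (· ∈ c)] [DecidablePred (· ∈ B)] :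
    (∑ θ : IrrCharacter N, if θ ∈ c then charDegree (θ : N → ℂ) ^ 2 else 0) ≤
      ∑ χ : IrrCharacter G, if χ ∈ B then charDegree (χ : G → ℂ) ^ 2 else 0 := by
  classical
  have h0 := fun χ : IrrCharacter G => exists_mult (N := N) χ
  choose n hn hdeg using h0
  have hχ : ∀ χ : IrrCharacter G, (∑ θ : IrrCharacter N, if n χ θ ≠ 0 ∧ θ ∈ c then
      charDegree (θ : N → ℂ) ^ 2 else 0) ≤ charDegree (χ : G → ℂ) ^ 2 := by
    intro χ
    have h1 : ∀ θ : IrrCharacter N, (if n χ θ ≠ 0 ∧ θ ∈ c then charDegree (θ : N → ℂ) ^ 2 else 0) ≤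
        (charDegree (θ : N → ℂ) * n χ θ) ^ 2 := by
      intro θ
      split_ifs with h
      · rw [mul_pow]
        exact Nat.le_mul_of_pos_right _ (pow_pos (Nat.pos_of_ne_zero h.1) 2)
      · exact Nat.zero_le _
    calc _ ≤ ∑ θ : IrrCharacter N, (charDegree (θ : N → ℂ) * n χ θ) ^ 2 := Finset.sum_le_sum fun θ _ => h1 θ
      _ ≤ (∑ θ : IrrCharacter N, charDegree (θ : N → ℂ) * n χ θ) ^ 2 :=
          Finset.sum_sq_le_sq_sum_of_nonneg (fun _ _ => Nat.zero_le _)
      _ = _ := by rw [hdeg]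
  calc (∑ θ : IrrCharacter N, if θ ∈ c then charDegree (θ : N → ℂ) ^ 2 else 0)
      ≤ ∑ θ : IrrCharacter N, ∑ χ : IrrCharacter G, if χ ∈ B then (if n χ θ ≠ 0 ∧ θ ∈ c then
          charDegree (θ : N → ℂ) ^ 2 else 0) else 0 := by
        refine Finset.sum_le_sum fun θ _ => ?_
        split_ifs with hθ
        · obtain ⟨χ, hχB, hcon⟩ := exists_constituent_of_covers hB hc hcov hθ
          have hne : n χ θ ≠ 0 := by
            intro h0
            apply hcon
            rw [hn χ θ, h0]
            simp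
          have := Finset.single_le_sum (f := fun χ : IrrCharacter G => if χ ∈ B then (if n χ θ ≠ 0 ∧ θ ∈ c then
            charDegree (θ : N → ℂ) ^ 2 else 0) else 0) (fun _ _ => Nat.zero_le _) (Finset.mem_univ χ)
          simp only [if_pos hχB, if_pos (And.intro hne hθ)] at this
          exact this
        · exact Nat.zero_le _
    _ = ∑ χ : IrrCharacter G, if χ ∈ B then (∑ θ : IrrCharacter N, if n χ θ ≠ 0 ∧ θ ∈ c then
          charDegree (θ : N → ℂ) ^ 2 else 0) else 0 := by
        rw [Finset.sum_comm]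
        refine Fintype.sum_congr _ _ fun χ => ?_
        split_ifs with h
        · rfl
        · simp
    _ ≤ _ := by
        refine Finset.sum_le_sum fun χ _ => ?_
        split_ifs
        · exact hχ χ
        · exact le_rfl

/-- **Principal blocks**: `λ(N) ≤ λ(G) ≤ [G : N] λ(N)`. -/
theorem lambda_main [hN' : N.Normal] :
    (∑ᶠ θ ∈ principalBlock M N, charDegree (θ : N → ℂ) ^ 2) ≤
        (∑ᶠ χ ∈ principalBlock M G, charDegree (χ : G → ℂ) ^ 2) ∧
      (∑ᶠ χ ∈ principalBlock M G, charDegree (χ : G → ℂ) ^ 2) ≤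
        N.index * ∑ᶠ θ ∈ principalBlock M N, charDegree (θ : N → ℂ) ^ 2 := by
  classical
  rw [finsum_mem_nat, finsum_mem_nat]
  let oneG : IrrCharacter G := ⟨fun _ => 1, Cfsg.Agent.Lib.Char.Burnside.isIrrCharacter_one⟩
  let oneN : IrrCharacter N := ⟨fun _ => 1, Cfsg.Agent.Lib.Char.Burnside.isIrrCharacter_one⟩
  have hB : IsPBlock M (principalBlock M G) := ⟨oneG, rfl⟩
  have hb : IsPBlock M (principalBlock M N) := ⟨oneN, rfl⟩
  have hoG : oneG ∈ principalBlock M G := mem_blockOf_self oneG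
  have hoN : oneN ∈ principalBlock M N := mem_blockOf_self oneN
  have hone : classInner (fun n : N => (oneG : G → ℂ) n) (oneN : N → ℂ) ≠ 0 := by
    have h1 : classInner (fun n : N => (oneG : G → ℂ) n) (oneN : N → ℂ) = 1 := by
      show classInner (fun _ : N => (1 : ℂ)) (fun _ : N => (1 : ℂ)) = 1
      rw [classInner]
      simp only [map_one, mul_one, Finset.sum_const, Finset.card_univ, nsmul_eq_mul]
      rw [← Nat.card_eq_fintype_card]
      have hc : (Nat.card N : ℂ) ≠ 0 := by exact_mod_cast Nat.card_pos.ne'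
      field_simp
    rw [h1]
    exact one_ne_zero
  have hcov : ∃ χ ∈ principalBlock M G, ∃ θ ∈ principalBlock M N,
      classInner (fun n : N => (χ : G → ℂ) n) (θ : N → ℂ) ≠ 0 := ⟨oneG, hoG, oneN, hoN, hone⟩
  refine ⟨lambda_le hB hb hcov, ?_⟩
  have hinv : IsInv hN' (principalBlock M N) := by
    intro t θ hθ
    have h1 : SameBlock M (fun _ : N => (1 : ℂ)) (θ : N → ℂ) := hθ
    have h2 := sameBlock_conjOn hN' M t h1
    exact h2
  have hsub : principalBlock M G ⊆ covers N (principalBlock M N) :=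
    blockOf_subset_covers hN' hinv hb (χ := oneG) ⟨oneN, hoN, hone⟩
  rw [← sum_covers hN' hinv hb]
  refine Finset.sum_le_sum fun χ _ => ?_
  by_cases h : χ ∈ principalBlock M G
  · rw [if_pos h, if_pos (hsub h)]
  · rw [if_neg h]
    exact Nat.zero_le _

end Cfsg.Agent.Lib.Blocks.Lambda
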