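import Mathlib
import Cfsg.Agent.Lib.Blocks.NormRank

/-!
# The trace formula for unions of blocks

The results of `BlockH.Regular` and `Blocks.NormRank` for sets of irreducible characters closed under the block
relation.
-/

set_option linter.unusedSectionVars false
set_option autoImplicit false
set_option linter.style.haveILetI false

namespace Cfsg.Agent.Lib.Blocks.ClosedRank

open Cfsg
open Cfsg.Agent.Lib.Blocks.Local Cfsg.Agent.Lib.Blocks.Central
open Cfsg.Agent.Lib.Blocks.Weak Cfsg.Agent.Lib.Blocks.Main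
open Cfsg.Agent.Lib.BlockH.Regular
open Cfsg.Agent.Lib.Blocks.NormRank (ker part_of_reg part_of_sing classFunction_apply sum_conj_ker)
open scoped ComplexConjugate

universe v

/-- A set of irreducible characters closed under the block relation. -/
def IsClosedB {C : Type v} [Group C] (M : Ideal AlgInt) (e : Set (IrrCharacter C)) : Prop :=
  ∀ ξ ∈ e, ∀ ξ' : IrrCharacter C, SameBlock M (ξ' : C → ℂ) (ξ : C → ℂ) → ξ' ∈ e

theorem isClosedB_of_isPBlock {C : Type v} [Group C] [Fintype C] {M : Ideal AlgInt} [M.IsPrime]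
    {e : Set (IrrCharacter C)} (he : IsPBlock M e) : IsClosedB M e := by
  intro ξ h ξ' hs
  rw [isPBlock_eq_blockOf he h]
  exact sameBlock_symm hs

section Reg

variable {G : Type v} [Group G] [Fintype G] [Fintype (IrrCharacter G)]

/-- The regular part of a member of a block is a combination of the members of the block. -/
theorem pRegularPart_eq_sum {M : Ideal AlgInt} {p : ℕ} (hM : IsPModular p M)
    {B : Set (IrrCharacter G)} [DecidablePred (· ∈ B)] (hB : IsClosedB M B)
    {χ : IrrCharacter G} (hχ : χ ∈ B) :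
    pRegularPart p (χ : G → ℂ) = ∑ ψ : IrrCharacter G,
      if ψ ∈ B then classInner (pRegularPart p (χ : G → ℂ)) (ψ : G → ℂ) • (ψ : G → ℂ) else 0 := by
  haveI := isPrime_of_pModular hM
  have hcl := isClassFunction_pRegularPart p
    (Cfsg.Agent.Lib.Char.Basic.isClassFunction_of_isIrrCharacter χ.2)
  conv_lhs => rw [Cfsg.Agent.Lib.Char.Complete.classFunction_eq_sum hcl]
  refine Fintype.sum_congr _ _ fun ψ => ?_
  split_ifs with hψ
  · rfl
  · have : ¬ SameBlock M (χ : G → ℂ) (ψ : G → ℂ) := by
      intro h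
      exact hψ (hB χ hχ ψ (sameBlock_symm h))
    rw [classInner_pRegularPart_eq_zero hM this, zero_smul]

/-- **The `p`-regular rank of a block as a trace.** -/
theorem card_mul_blockRank {M : Ideal AlgInt} {p : ℕ} (hM : IsPModular p M)
    {B : Set (IrrCharacter G)} [DecidablePred (· ∈ B)] (hB : IsClosedB M B) :
    (blockRank p B : ℂ) = (Nat.card G : ℂ)⁻¹ * ∑ x : G, ∑ ψ : IrrCharacter G,
      if ψ ∈ B then pRegularPart p (ψ : G → ℂ) x * conj ((ψ : G → ℂ) x) else 0 := by
  classical
  set U : Submodule ℂ (G → ℂ) :=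
    Submodule.span ℂ ((fun χ : IrrCharacter G => pRegularPart p (χ : G → ℂ)) '' B) with hU
  set f := Matrix.toLin' (regMat p B) with hf
  have hproj : LinearMap.IsProj U f := by
    refine ⟨fun φ => ?_, fun u hu => ?_⟩
    · rw [hf, regMat_toLin_apply]
      refine Submodule.sum_mem _ fun ψ _ => ?_
      split_ifs with hψ
      · exact Submodule.smul_mem _ _ (Submodule.subset_span ⟨ψ, hψ, rfl⟩)
      · exact Submodule.zero_mem _
    · induction hu using Submodule.span_induction with
      | zero => simp
      | add a b _ _ ha hb => rw [map_add, ha, hb]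
      | smul c a _ ha => rw [map_smul, ha]
      | mem a ha =>
        obtain ⟨χ, hχ, rfl⟩ := ha
        simp only
        rw [hf, regMat_toLin_apply]
        have hexp := pRegularPart_eq_sum (p := p) hM hB hχ
        ext x
        simp only [Finset.sum_apply]
        by_cases hx : IsPRegular p x
        · have h1 : pRegularPart p (χ : G → ℂ) x = ∑ ψ : IrrCharacter G,
              if ψ ∈ B then classInner (pRegularPart p (χ : G → ℂ)) (ψ : G → ℂ) * (ψ : G → ℂ) x
                else 0 := by
            conv_lhs => rw [hexp]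
            simp only [Finset.sum_apply]
            refine Fintype.sum_congr _ _ fun ψ => ?_
            split_ifs <;> simp
          rw [h1]
          refine Fintype.sum_congr _ _ fun ψ => ?_
          split_ifs
          · simp only [Pi.smul_apply, smul_eq_mul]
            rw [pRegularPart_apply p (ψ : G → ℂ) x, if_pos hx]
          · rfl
        · have h2 : ∀ θ : G → ℂ, pRegularPart p θ x = 0 := by
            intro θ
            rw [pRegularPart_apply, if_neg hx]
          rw [h2]
          refine Finset.sum_eq_zero fun ψ _ => ?_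
          split_ifs
          · simp [h2]
          · rfl
  have htr := hproj.trace
  rw [hf, Matrix.trace_toLin'_eq] at htr
  rw [blockRank, ← htr, Matrix.trace]
  simp only [Matrix.diag, regMat]
  rw [Finset.mul_sum]
  refine Fintype.sum_congr _ _ fun x => ?_
  rw [Finset.mul_sum]
  refine Fintype.sum_congr _ _ fun ψ => ?_
  split_ifs
  · ring
  · simp

end Reg

section Abstract

variable {C : Type v} [Group C] [Fintype C] [Fintype (IrrCharacter C)] {p : ℕ} {M : Ideal AlgInt}
  {e : Set (IrrCharacter C)} [DecidablePred (· ∈ e)]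

theorem not_sameBlock (he : IsClosedB M e) {ξ ξ' : IrrCharacter C} (h : ξ ∈ e)
    (h' : ξ' ∉ e) : ¬ SameBlock M (ξ' : C → ℂ) (ξ : C → ℂ) :=
  fun hs => h' (he ξ h ξ' hs)

theorem sum_inner_irr (hM : IsPModular p M) (he : IsClosedB M e) (ξ' : IrrCharacter C) {s : C}
    (hs : ¬ p ∣ orderOf s) :
    (∑ ξ : IrrCharacter C, if ξ ∈ e then
        classInner (pRegularPart p (ξ' : C → ℂ)) (ξ : C → ℂ) * (ξ : C → ℂ) s else 0) =
      if ξ' ∈ e then (ξ' : C → ℂ) s else 0 := by
  classical
  split_ifs with h
  · have h1 := congrFun (pRegularPart_eq_sum (p := p) hM he h) s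
    rw [part_of_reg hs, Finset.sum_apply] at h1
    rw [h1]
    refine Fintype.sum_congr _ _ fun ξ => ?_
    split_ifs <;> simp
  · refine Finset.sum_eq_zero fun ξ _ => ?_
    split_ifs with hξ
    · rw [classInner_pRegularPart_eq_zero hM (not_sameBlock he hξ h), zero_mul]
    · rfl

theorem blockPart_eq_ker (hM : IsPModular p M) (he : IsClosedB M e) {f : C → ℂ}
    (hf : IsClassFunction C f) {s : C} (hs : ¬ p ∣ orderOf s) :
    blockPart e f s = (Nat.card C : ℂ)⁻¹ *
      ∑ t : C, if ¬ p ∣ orderOf t then f t * ker e t s else 0 := by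
  classical
  rw [blockPart_apply]
  have h1 : ∀ ξ' : IrrCharacter C, (if ξ' ∈ e then
      classInner f (ξ' : C → ℂ) * (ξ' : C → ℂ) s else 0) =
      classInner f (ξ' : C → ℂ) * ∑ ξ : IrrCharacter C, if ξ ∈ e then
        classInner (pRegularPart p (ξ' : C → ℂ)) (ξ : C → ℂ) * (ξ : C → ℂ) s else 0 := by
    intro ξ'
    rw [sum_inner_irr hM he ξ' hs]
    split_ifs <;> simp
  rw [Fintype.sum_congr _ _ h1]
  have h2 : ∀ t : C, (if ¬ p ∣ orderOf t then f t * ker e t s else 0) =
      ∑ ξ' : IrrCharacter C, classInner f (ξ' : C → ℂ) * ∑ ξ : IrrCharacter C,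
        if ξ ∈ e then pRegularPart p (ξ' : C → ℂ) t * conj ((ξ : C → ℂ) t) * (ξ : C → ℂ) s else 0 := by
    intro t
    by_cases ht : ¬ p ∣ orderOf t
    · rw [if_pos ht, classFunction_apply hf t, Finset.sum_mul]
      refine Fintype.sum_congr _ _ fun ξ' => ?_
      rw [mul_assoc]
      congr 1
      rw [ker, Finset.mul_sum]
      refine Fintype.sum_congr _ _ fun ξ => ?_
      rw [part_of_reg ht]
      split_ifs <;> ring
    · rw [if_neg ht]
      symm
      refine Finset.sum_eq_zero fun ξ' _ => ?_
      have : ∀ ξ : IrrCharacter C, (if ξ ∈ e then pRegularPart p (ξ' : C → ℂ) t *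
          conj ((ξ : C → ℂ) t) * (ξ : C → ℂ) s else 0) = 0 := by
        intro ξ
        rw [part_of_sing ht]
        split_ifs <;> simp
      simp [this]
  rw [Fintype.sum_congr _ _ h2, Finset.sum_comm, Finset.mul_sum]
  refine Fintype.sum_congr _ _ fun ξ' => ?_
  rw [← Finset.mul_sum, mul_left_comm]
  congr 1
  rw [Finset.sum_comm, Finset.mul_sum]
  refine Fintype.sum_congr _ _ fun ξ => ?_
  split_ifs with hξ
  · rw [classInner, mul_assoc, Finset.sum_mul]
  · simp

/-- Orthogonality of the block part and the remainder. -/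
theorem dot_blockPart (hM : IsPModular p M) (he : IsClosedB M e) {f : C → ℂ}
    (hf : IsClassFunction C f) :
    (∑ s : C, if ¬ p ∣ orderOf s then blockPart e f s * conj (blockPart e f s) else 0) =
      ∑ s : C, if ¬ p ∣ orderOf s then blockPart e f s * conj (f s) else 0 := by
  classical
  haveI := isPrime_of_pModular hM
  rw [← sub_eq_zero, ← Finset.sum_sub_distrib]
  set k : IrrCharacter C → ℂ := fun ξ => classInner f (ξ : C → ℂ) with hk
  have h0 : ∀ ξ ξ' : IrrCharacter C, ξ ∈ e → ξ' ∉ e →
      (∑ s : C, if ¬ p ∣ orderOf s then (ξ : C → ℂ) s * conj ((ξ' : C → ℂ) s) else 0) = 0 := by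
    intro ξ ξ' h h'
    exact sum_regular_eq_zero hM (fun hs => not_sameBlock he h h' (sameBlock_symm hs))
  have h1 : ∀ s : C, (if ¬ p ∣ orderOf s then blockPart e f s * conj (blockPart e f s) else 0) -
      (if ¬ p ∣ orderOf s then blockPart e f s * conj (f s) else 0) =
      -∑ ξ : IrrCharacter C, ∑ ξ' : IrrCharacter C, if ξ ∈ e ∧ ξ' ∉ e then
        k ξ * conj (k ξ') * (if ¬ p ∣ orderOf s then (ξ : C → ℂ) s * conj ((ξ' : C → ℂ) s) else 0)
        else 0 := by
    intro s
    by_cases hs : ¬ p ∣ orderOf s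
    · simp only [if_pos hs]
      have ha : blockPart e f s = ∑ ξ : IrrCharacter C, if ξ ∈ e then k ξ * (ξ : C → ℂ) s else 0 :=
        blockPart_apply e f s
      have hb : f s - blockPart e f s = ∑ ξ : IrrCharacter C, if ξ ∉ e then k ξ * (ξ : C → ℂ) s else 0 := by
        rw [ha, classFunction_apply hf s, ← Finset.sum_sub_distrib]
        refine Fintype.sum_congr _ _ fun ξ => ?_
        by_cases h : ξ ∈ e <;> simp [h, hk]
      have hc : blockPart e f s * conj (blockPart e f s) - blockPart e f s * conj (f s) =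
          -(blockPart e f s * conj (f s - blockPart e f s)) := by
        rw [map_sub]
        ring
      rw [hc, hb, map_sum]
      congr 1
      rw [ha, Finset.sum_mul_sum]
      refine Fintype.sum_congr _ _ fun ξ => ?_
      refine Fintype.sum_congr _ _ fun ξ' => ?_
      by_cases h : ξ ∈ e <;> by_cases h' : ξ' ∈ e <;> simp [h, h']
      ring
    · simp only [if_neg hs]
      simp
  rw [Fintype.sum_congr _ _ h1, Finset.sum_neg_distrib, neg_eq_zero, Finset.sum_comm]
  refine Finset.sum_eq_zero fun ξ _ => ?_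
  rw [Finset.sum_comm]
  refine Finset.sum_eq_zero fun ξ' _ => ?_
  by_cases h : ξ ∈ e ∧ ξ' ∉ e
  · simp only [if_pos h]
    rw [← Finset.mul_sum, h0 ξ ξ' h.1 h.2, mul_zero]
  · simp [if_neg h]

open Classical in
/-- **The trace formula.** -/
theorem frame_trace (hM : IsPModular p M) (he : IsClosedB M e) {ι : Type*} [Fintype ι]
    {F : ι → C → ℂ} (hF : ∀ i, IsClassFunction C (F i))
    (hframe : ∀ s t : C, ¬ p ∣ orderOf s → ¬ p ∣ orderOf t →
      (∑ i, F i t * conj (F i s)) =
        if IsConj t s then (Nat.card (Subgroup.centralizer ({s} : Set C)) : ℂ) else 0) :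
    (∑ i, ∑ s : C, if ¬ p ∣ orderOf s then blockPart e (F i) s * conj (blockPart e (F i) s) else 0) =
      (Nat.card C : ℂ) * (blockRank p e : ℂ) := by
  classical
  have hcard : (Nat.card C : ℂ) ≠ 0 := by
    have : Nat.card C ≠ 0 := Nat.card_pos.ne'
    exact_mod_cast this
  simp_rw [dot_blockPart hM he (hF _)]
  have h1 : ∀ i, ∀ s : C, (if ¬ p ∣ orderOf s then blockPart e (F i) s * conj (F i s) else 0) =
      if ¬ p ∣ orderOf s then (Nat.card C : ℂ)⁻¹ *
        ∑ t : C, (if ¬ p ∣ orderOf t then ker e t s * (F i t * conj (F i s)) else 0) else 0 := by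
    intro i s
    by_cases hs : ¬ p ∣ orderOf s
    · simp only [if_pos hs]
      rw [blockPart_eq_ker hM he (hF i) hs, mul_assoc, Finset.sum_mul]
      congr 1
      refine Fintype.sum_congr _ _ fun t => ?_
      split_ifs <;> ring
    · simp only [if_neg hs]
  simp_rw [h1]
  rw [Finset.sum_comm]
  have h2 : ∀ s : C, (∑ i, if ¬ p ∣ orderOf s then (Nat.card C : ℂ)⁻¹ *
        ∑ t : C, (if ¬ p ∣ orderOf t then ker e t s * (F i t * conj (F i s)) else 0) else 0) =
      if ¬ p ∣ orderOf s then ker e s s else 0 := by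
    intro s
    by_cases hs : ¬ p ∣ orderOf s
    · simp only [if_pos hs]
      rw [← Finset.mul_sum, Finset.sum_comm]
      have h3 : ∀ t : C, (∑ i, if ¬ p ∣ orderOf t then ker e t s * (F i t * conj (F i s)) else 0) =
          if ¬ p ∣ orderOf t then ker e t s *
            (if IsConj t s then (Nat.card (Subgroup.centralizer ({s} : Set C)) : ℂ) else 0) else 0 := by
        intro t
        by_cases ht : ¬ p ∣ orderOf t
        · simp only [if_pos ht]
          rw [← Finset.mul_sum, hframe s t hs ht]
        · simp only [if_neg ht]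
          simp
      rw [Fintype.sum_congr _ _ h3, sum_conj_ker hs, ← mul_assoc, inv_mul_cancel₀ hcard, one_mul]
    · simp only [if_neg hs]
      simp
  rw [Fintype.sum_congr _ _ h2]
  rw [card_mul_blockRank hM he, ← mul_assoc, mul_inv_cancel₀ hcard, one_mul]
  refine Fintype.sum_congr _ _ fun s => ?_
  by_cases hs : ¬ p ∣ orderOf s
  · rw [if_pos hs, ker]
    refine Fintype.sum_congr _ _ fun ξ => ?_
    split_ifs
    · rw [part_of_reg hs]
      ring
    · rfl
  · rw [if_neg hs]
    symm
    refine Finset.sum_eq_zero fun ξ _ => ?_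
    split_ifs
    · rw [part_of_sing hs, zero_mul]
    · rfl

end Abstract

end Cfsg.Agent.Lib.Blocks.ClosedRank
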