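import Mathlib
import Cfsg.Agent.Lib.Blocks.RegPart2

/-!
# The Brauer--Feit bound

Let `χ₀` be a character of height zero in the block `B`, and write `p ^ e * c ψ` for the
inner product of `p ^ a χ₀⁰` with `ψ`.  Then `c ψ ≠ 0` has `p`-adic value equal to the height of
`ψ`, and `∑ c ψ ^ 2 = p ^ d * c χ₀`.  This gives
`4 * ∑_{ψ ∈ B} p ^ (2 h(ψ)) ≤ p ^ (2 d) + 4`.
-/

set_option linter.unusedSectionVars false
set_option autoImplicit false
set_option linter.style.haveILetI false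

namespace Cfsg.Agent.Lib.Blocks.BrauerFeit

open Cfsg
open Cfsg.Agent.Lib.Blocks.Local Cfsg.Agent.Lib.Blocks.Central Cfsg.Agent.Lib.Blocks.RegPart
open Cfsg.Agent.Lib.Blocks.RegPart2
open Cfsg.Agent.Lib.Char.GenLattice Cfsg.Agent.Lib.Char.Basic Cfsg.Agent.Lib.Char.Ortho
open Cfsg.Agent.Lib.BlockP.Defect
open scoped ComplexConjugate

universe u

variable {G : Type u} [Group G] [Fintype G] {M : Ideal AlgInt} {p : ℕ}
  [hMp : M.IsPrime] [Fact p.Prime] [Fintype (IrrCharacter G)]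

/-- The quadratic identity for the coefficients of a regular part. -/
theorem sum_sq_eq {χ : IrrCharacter G} {m : IrrCharacter G → ℤ}
    (hm : ∀ i : IrrCharacter G, classInner (regF p (χ : G → ℂ)) (i : G → ℂ) = m i)
    (hs : regF p (χ : G → ℂ) = ∑ i, m i • (i : G → ℂ)) :
    ∑ i, (m i) ^ 2 = ((p ^ (Nat.card G).factorization p : ℕ) : ℤ) * m χ := by
  have h1 : classInner (regF p (χ : G → ℂ)) (regF p (χ : G → ℂ)) = ∑ i, ((m i : ℤ) : ℂ) ^ 2 := by
    have h3 : ∀ i : IrrCharacter G, ((m i : ℤ) : ℂ) ^ 2 =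
        (m i : ℂ) * classInner (regF p (χ : G → ℂ)) (i : G → ℂ) := by
      intro i
      rw [hm i]
      ring
    simp only [h3]
    have h4 : ∑ g, regF p (χ : G → ℂ) g * conj (regF p (χ : G → ℂ) g) =
        ∑ i, (m i : ℂ) * ∑ g, regF p (χ : G → ℂ) g * conj ((i : G → ℂ) g) := by
      nth_rewrite 2 [hs]
      simp only [Finset.mul_sum]
      rw [Finset.sum_comm]
      refine Fintype.sum_congr _ _ fun x => ?_
      rw [Finset.sum_apply, map_sum, Finset.mul_sum]
      refine Fintype.sum_congr _ _ fun i => ?_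
      rw [Pi.smul_apply, zsmul_eq_mul, map_mul, map_intCast]
      ring
    simp only [classInner_def]
    rw [h4, Finset.mul_sum]
    refine Fintype.sum_congr _ _ fun i => ?_
    ring
  have h2 : classInner (regF p (χ : G → ℂ)) (regF p (χ : G → ℂ)) =
      ((p ^ (Nat.card G).factorization p : ℕ) : ℂ) * m χ := by
    rw [← hm χ]
    have h4 : ∑ g, regF p (χ : G → ℂ) g * conj (regF p (χ : G → ℂ) g) =
        ((p ^ (Nat.card G).factorization p : ℕ) : ℂ) *
          ∑ g, regF p (χ : G → ℂ) g * conj ((χ : G → ℂ) g) := by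
      rw [Finset.mul_sum]
      refine Fintype.sum_congr _ _ fun x => ?_
      simp only [regF]
      split_ifs
      · simp
      · simp only [map_mul, map_natCast]
        ring
    simp only [classInner_def]
    rw [h4]
    ring
  have h3 : ((∑ i, (m i) ^ 2 : ℤ) : ℂ) =
      ((((p ^ (Nat.card G).factorization p : ℕ) : ℤ) * m χ : ℤ) : ℂ) := by
    push_cast
    rw [← h1, h2]
    push_cast
    ring
  exact_mod_cast h3

/-- An integer of `p`-adic value `v`, if nonzero, has square at least `p ^ (2 v)`. -/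
theorem pow_le_sq {n : ℤ} {v : ℕ} (hn : n ≠ 0) (hd : (p : ℤ) ^ v ∣ n) :
    (p : ℤ) ^ (2 * v) ≤ n ^ 2 := by
  have hp : p.Prime := Fact.out
  have h1 : ((p : ℤ) ^ v).natAbs ≤ n.natAbs := by
    apply Nat.le_of_dvd (Int.natAbs_pos.mpr hn)
    exact Int.natAbs_dvd_natAbs.mpr hd
  have h2 : ((p : ℤ) ^ v).natAbs = p ^ v := by
    rw [Int.natAbs_pow, Int.natAbs_natCast]
  rw [h2] at h1
  have h3 : ((p ^ v : ℕ) : ℤ) ≤ |n| := by
    rw [Int.abs_eq_natAbs]
    exact_mod_cast h1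
  have h4 : (0 : ℤ) ≤ ((p ^ v : ℕ) : ℤ) := by positivity
  calc (p : ℤ) ^ (2 * v) = ((p ^ v : ℕ) : ℤ) ^ 2 := by
        push_cast
        ring
    _ ≤ |n| ^ 2 := pow_le_pow_left₀ h4 h3 2
    _ = n ^ 2 := sq_abs n

/-- The main inequality. -/
theorem four_mul_sum_le (hM : IsPModular p M) {B : Set (IrrCharacter G)} (hB : IsPBlock M B)
    [DecidablePred (· ∈ B)] :
    4 * ∑ ψ : IrrCharacter G, (if ψ ∈ B then p ^ (2 * blockHeight p B (ψ : G → ℂ)) else 0) ≤
      p ^ (2 * blockDefect p B) + 4 := by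
  classical
  have hp : p.Prime := Fact.out
  have hp0 : (0 : ℤ) < p := by exact_mod_cast hp.pos
  obtain ⟨χ, hχ, hχe⟩ := exists_minExp p (isPBlock_nonempty hB)
  have hht : blockHeight p B (χ : G → ℂ) = 0 := by
    change (charDegree (χ : G → ℂ)).factorization p - minExp p B = 0
    omega
  obtain ⟨m, hm, hm0, hs⟩ := exists_int_comb hM hB hχ
  have hsq := sum_sq_eq hm hs
  set e := minExp p B with he
  set d := blockDefect p B with hd
  have had : (Nat.card G).factorization p = e + d := (minExp_add_blockDefect hχ).symm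
  obtain ⟨-, hall⟩ := height_zero_iff hM hB hχ
  have hall' := hall.mp hht
  -- bounds on the coefficients
  have hbd : ∀ ψ ∈ B, (p : ℤ) ^ (2 * e) * (p : ℤ) ^ (2 * blockHeight p B (ψ : G → ℂ)) ≤ (m ψ) ^ 2 := by
    intro ψ hψ
    obtain ⟨n, hn, hn0, hnv⟩ := hall' ψ hψ
    have hnm : n = m ψ := by
      rw [hm ψ] at hn
      exact_mod_cast hn.symm
    rw [hnm] at hn0 hnv
    have h1 : (p : ℤ) ^ padicValInt p (m ψ) ∣ m ψ := padicValInt_dvd (m ψ)
    have h2 := pow_le_sq (p := p) hn0 h1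
    have h3 : padicValInt p (m ψ) = e + blockHeight p B (ψ : G → ℂ) := by
      have := minExp_le p hψ
      rw [hnv]
      change _ = e + ((charDegree (ψ : G → ℂ)).factorization p - minExp p B)
      omega
    rw [h3] at h2
    calc (p : ℤ) ^ (2 * e) * (p : ℤ) ^ (2 * blockHeight p B (ψ : G → ℂ))
        = (p : ℤ) ^ (2 * (e + blockHeight p B (ψ : G → ℂ))) := by
          rw [← pow_add]
          congr 1
          ring
      _ ≤ _ := h2
  -- the coefficient of `χ`
  obtain ⟨c, hc⟩ : (p : ℤ) ^ e ∣ m χ := by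
    obtain ⟨n, hn, h1, -, -⟩ := exists_regInt (p := p) hM χ χ
    have hnm : n = m χ := by
      rw [hm χ] at hn
      exact_mod_cast hn.symm
    rw [← hnm]
    rw [hχe] at h1
    exact h1
  -- the sum over the rest
  have hsplit : ∑ i, (m i) ^ 2 = (m χ) ^ 2 + ∑ i ∈ Finset.univ.erase χ, (m i) ^ 2 := by
    exact (Finset.add_sum_erase _ (fun i => (m i) ^ 2) (Finset.mem_univ χ)).symm
  have hlow : (p : ℤ) ^ (2 * e) * ∑ i ∈ Finset.univ.erase χ,
      (if i ∈ B then (p : ℤ) ^ (2 * blockHeight p B (i : G → ℂ)) else 0) ≤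
      ∑ i ∈ Finset.univ.erase χ, (m i) ^ 2 := by
    rw [Finset.mul_sum]
    refine Finset.sum_le_sum fun i _ => ?_
    split_ifs with hi
    · exact hbd i hi
    · rw [mul_zero]
      exact sq_nonneg _
  set S : ℤ := ∑ i ∈ Finset.univ.erase χ,
      (if i ∈ B then (p : ℤ) ^ (2 * blockHeight p B (i : G → ℂ)) else 0) with hS
  have hpe : (0 : ℤ) < (p : ℤ) ^ (2 * e) := pow_pos hp0 _
  have hmain : S ≤ (p : ℤ) ^ d * c - c ^ 2 := by
    have h1 : (p : ℤ) ^ (2 * e) * S ≤ (p : ℤ) ^ (2 * e) * ((p : ℤ) ^ d * c - c ^ 2) := by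
      refine hlow.trans ?_
      have h2 : ∑ i ∈ Finset.univ.erase χ, (m i) ^ 2 =
          ((p ^ (Nat.card G).factorization p : ℕ) : ℤ) * m χ - (m χ) ^ 2 := by
        rw [← hsq, hsplit]
        ring
      rw [h2, had, hc]
      push_cast
      apply le_of_eq
      ring
    exact le_of_mul_le_mul_left h1 hpe
  have hfinal : 4 * S ≤ ((p : ℤ) ^ d) ^ 2 := by
    nlinarith [sq_nonneg ((p : ℤ) ^ d - 2 * c)]
  have hT : ((∑ ψ : IrrCharacter G, (if ψ ∈ B then p ^ (2 * blockHeight p B (ψ : G → ℂ)) else 0) : ℕ) : ℤ)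
      = 1 + S := by
    push_cast
    have h6 := Finset.add_sum_erase Finset.univ (fun i : IrrCharacter G =>
      if i ∈ B then (p : ℤ) ^ (2 * blockHeight p B (i : G → ℂ)) else 0) (Finset.mem_univ χ)
    simp only [if_pos hχ, hht, mul_zero, pow_zero] at h6
    rw [← h6]
  have hgoal : ((4 * ∑ ψ : IrrCharacter G, (if ψ ∈ B then p ^ (2 * blockHeight p B (ψ : G → ℂ)) else 0) : ℕ) : ℤ)
      ≤ ((p ^ (2 * d) + 4 : ℕ) : ℤ) := by
    rw [Nat.cast_mul, hT]
    push_cast
    have h5 : ((p : ℤ) ^ d) ^ 2 = (p : ℤ) ^ (2 * d) := by ring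
    rw [← h5]
    linarith
  exact_mod_cast hgoal

end Cfsg.Agent.Lib.Blocks.BrauerFeit
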