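import Mathlib

/-!
# The Euler characteristic of normal chains fixed by a subgroup with a central element of order `p`

`euler`: if `z ∈ A` has order `p` and is central in `A`, the alternating sum over the nonempty chains
of nontrivial `p`-subgroups, normal in the largest member and normalized by `A`, is `1`.
-/

set_option linter.unusedSectionVars false
set_option autoImplicit false
set_option linter.style.haveILetI false

namespace Cfsg.Agent.Lib.Blocks.ChainEuler

variable {G : Type*} [Group G] {p : ℕ}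

/-- Nontrivial subgroups of a `p`-group normalized by it contain central elements. -/
theorem exists_central_of_normalized [Fact p.Prime] [Finite G] {P Y : Subgroup G}
    (hP : IsPGroup p P) (hYP : Y ≤ P) (hN : P ≤ Subgroup.normalizer (Y : Set G)) (hY : Y ≠ ⊥) :
    ∃ y ∈ Y, y ≠ 1 ∧ ∀ g ∈ P, g * y = y * g := by
  classical
  letI : MulAction P Y :=
    { smul := fun g y => ⟨(g : G) * y * (g : G)⁻¹, (Subgroup.mem_normalizer_iff.mp (hN g.2) y).mp y.2⟩
      one_smul := fun y => Subtype.ext (by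
        change ((1 : P) : G) * y * ((1 : P) : G)⁻¹ = y
        simp)
      mul_smul := fun g h y => Subtype.ext (by
        change ((g * h : P) : G) * y * ((g * h : P) : G)⁻¹ = (g : G) * ((h : G) * y * (h : G)⁻¹) * (g : G)⁻¹
        push_cast
        group) }
  have hsmul : ∀ (g : P) (y : Y), ((g • y : Y) : G) = (g : G) * y * (g : G)⁻¹ := fun _ _ => rfl
  have hYp : IsPGroup p Y := hP.to_le hYP
  have hcard : p ∣ Nat.card Y := by
    haveI : Nontrivial Y := (Subgroup.nontrivial_iff_ne_bot Y).mpr hY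
    obtain ⟨n, hn⟩ := IsPGroup.iff_card.mp hYp
    have hn0 : n ≠ 0 := by
      rintro rfl
      have : Nat.card Y = 1 := by simpa using hn
      have h1 := Finite.one_lt_card (α := Y)
      omega
    rw [hn]
    exact dvd_pow_self p hn0
  have h1 : (1 : Y) ∈ MulAction.fixedPoints P Y := by
    intro g
    apply Subtype.ext
    rw [hsmul]
    simp
  obtain ⟨b, hb, hne⟩ := hP.exists_fixed_point_of_prime_dvd_card_of_fixed_point (α := Y) hcard h1
  refine ⟨b, b.2, fun h => hne (Subtype.ext (by simpa using h.symm)), fun g hg => ?_⟩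
  have h2 := congrArg Subtype.val (hb ⟨g, hg⟩)
  rw [hsmul] at h2
  change g * (b : G) * g⁻¹ = b at h2
  calc g * (b : G) = g * (b : G) * g⁻¹ * g := by group
    _ = _ := by rw [h2]

theorem mem_normalizer_inf {U V : Subgroup G} {a : G} (hU : a ∈ Subgroup.normalizer (U : Set G))
    (hV : a ∈ Subgroup.normalizer (V : Set G)) : a ∈ Subgroup.normalizer ((U ⊓ V : Subgroup G) : Set G) := by
  rw [Subgroup.mem_normalizer_iff] at hU hV ⊢
  intro h
  simp only [Subgroup.mem_inf, hU h, hV h]

theorem mem_normalizer_sup {U V : Subgroup G} {a : G} (hU : a ∈ Subgroup.normalizer (U : Set G))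
    (hV : a ∈ Subgroup.normalizer (V : Set G)) : a ∈ Subgroup.normalizer ((U ⊔ V : Subgroup G) : Set G) := by
  have hfwd : ∀ b : G, b ∈ Subgroup.normalizer (U : Set G) → b ∈ Subgroup.normalizer (V : Set G) →
      ∀ h ∈ U ⊔ V, b * h * b⁻¹ ∈ U ⊔ V := by
    intro b hbU hbV h hh
    have hm : (U ⊔ V).map (MulAut.conj b).toMonoidHom ≤ U ⊔ V := by
      rw [Subgroup.map_sup, sup_le_iff]
      constructor
      · rintro _ ⟨u, hu, rfl⟩
        exact Subgroup.mem_sup_left ((Subgroup.mem_normalizer_iff.mp hbU u).mp hu)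
      · rintro _ ⟨v, hv, rfl⟩
        exact Subgroup.mem_sup_right ((Subgroup.mem_normalizer_iff.mp hbV v).mp hv)
    exact hm ⟨h, hh, rfl⟩
  rw [Subgroup.mem_normalizer_iff]
  intro h
  refine ⟨hfwd a hU hV h, fun hh => ?_⟩
  have := hfwd a⁻¹ (inv_mem hU) (inv_mem hV) _ hh
  convert this using 1
  group

theorem mem_normalizer_of_commute {U : Subgroup G} {a : G} (h : ∀ u ∈ U, a * u = u * a) :
    a ∈ Subgroup.normalizer (U : Set G) := by
  rw [Subgroup.mem_normalizer_iff]
  intro u
  constructor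
  · intro hu
    rw [h u hu]
    simpa using hu
  · intro hu
    have h2 : a * (a * u * a⁻¹) = (a * u * a⁻¹) * a := h _ hu
    have h3 : (a * u * a⁻¹) * a = a * u := by group
    rw [h3] at h2
    have h4 := mul_left_cancel h2
    rwa [h4] at hu

/-! ### Chains -/

/-- The nonempty chains of nontrivial `p`-subgroups normal in their largest member. -/
def IsNChain (p : ℕ) (s : Finset (Subgroup G)) : Prop :=
  s.Nonempty ∧ (∀ Q ∈ s, ∀ R ∈ s, Q ≤ R ∨ R ≤ Q) ∧ (∀ Q ∈ s, Q ≠ ⊥ ∧ IsPGroup p Q) ∧
    ∃ T ∈ s, ∀ Q ∈ s, Q ≤ T ∧ T ≤ Subgroup.normalizer ((Q : Subgroup G) : Set G)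

/-- The chains normalized by `A`. -/
def IsChainFor (p : ℕ) (A : Subgroup G) (s : Finset (Subgroup G)) : Prop :=
  IsNChain p s ∧ ∀ Q ∈ s, A ≤ Subgroup.normalizer ((Q : Subgroup G) : Set G)

theorem chain_sup_mem [Finite G] {s : Finset (Subgroup G)} (hne : s.Nonempty)
    (hc : ∀ Q ∈ s, ∀ R ∈ s, Q ≤ R ∨ R ≤ Q) : s.sup id ∈ s := by
  classical
  obtain ⟨m, hm⟩ := s.exists_maximal hne
  have hm1 : m ∈ s := hm.1
  have h : ∀ Q ∈ s, Q ≤ m := by
    intro Q hQ
    rcases hc Q hQ m hm1 with h | h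
    · exact h
    · exact hm.2 hQ h
  have : s.sup id = m := le_antisymm (Finset.sup_le h) (Finset.le_sup (f := id) hm1)
  rwa [this]

theorem chain_inf_mem [Finite G] {s : Finset (Subgroup G)} (hne : s.Nonempty)
    (hc : ∀ Q ∈ s, ∀ R ∈ s, Q ≤ R ∨ R ≤ Q) : s.inf id ∈ s := by
  classical
  obtain ⟨m, hm⟩ := s.exists_minimal hne
  have hm1 : m ∈ s := hm.1
  have h : ∀ Q ∈ s, m ≤ Q := by
    intro Q hQ
    rcases hc Q hQ m hm1 with h | h
    · exact hm.2 hQ h
    · exact h
  have : s.inf id = m := le_antisymm (Finset.inf_le (f := id) hm1) (Finset.le_inf h)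
  rwa [this]

section Tog

open Classical in
/-- Toggle a subgroup in a finite set. -/
noncomputable def tog (s : Finset (Subgroup G)) (X : Subgroup G) : Finset (Subgroup G) :=
  if X ∈ s then s.erase X else insert X s

open Classical in
theorem mem_tog {s : Finset (Subgroup G)} {X Q : Subgroup G} :
    Q ∈ tog s X ↔ (Q ∈ s ∧ Q ≠ X) ∨ (Q = X ∧ X ∉ s) := by
  unfold tog
  by_cases h : X ∈ s
  · simp [h, and_comm]
  · rw [if_neg h, Finset.mem_insert]
    simp only [h, not_false_eq_true, and_true]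
    constructor
    · rintro (h' | h')
      · exact Or.inr h'
      · refine Or.inl ⟨h', ?_⟩
        rintro rfl
        exact h h'
    · rintro (h' | h')
      · exact Or.inr h'.1
      · exact Or.inl h'

open Classical in
theorem tog_tog (s : Finset (Subgroup G)) (X : Subgroup G) : tog (tog s X) X = s := by
  unfold tog
  by_cases h : X ∈ s
  · simp [h]
  · simp [h]

open Classical in
theorem sign_tog {s : Finset (Subgroup G)} {X : Subgroup G} (h1 : s.Nonempty)
    (h2 : (tog s X).Nonempty) :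
    (-1 : ℤ) ^ (s.card - 1) + (-1 : ℤ) ^ ((tog s X).card - 1) = 0 := by
  unfold tog at h2 ⊢
  by_cases h : X ∈ s
  · simp only [if_pos h] at h2 ⊢
    have hc := Finset.card_erase_of_mem h
    have hpos : 0 < (s.erase X).card := Finset.card_pos.mpr h2
    obtain ⟨k, hk⟩ : ∃ k, (s.erase X).card = k + 1 := ⟨_, (Nat.succ_pred_eq_of_pos hpos).symm⟩
    have hs : s.card = k + 2 := by omega
    rw [hk, hs]
    simp [pow_succ]
  · simp only [if_neg h] at h2 ⊢
    rw [Finset.card_insert_of_notMem h]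
    have hpos : 0 < s.card := Finset.card_pos.mpr h1
    obtain ⟨k, hk⟩ : ∃ k, s.card = k + 1 := ⟨_, (Nat.succ_pred_eq_of_pos hpos).symm⟩
    rw [hk]
    simp [pow_succ]

end Tog

section Euler

variable [Finite G] {A : Subgroup G} {z : G} {s : Finset (Subgroup G)}

/-- The centralizer of `T` and `z`. -/
def cen (z : G) (T : Subgroup G) : Subgroup G := Subgroup.centralizer ((T : Set G) ∪ {z})

theorem mem_cen {T : Subgroup G} {g : G} :
    g ∈ cen z T ↔ (∀ t ∈ T, t * g = g * t) ∧ z * g = g * z := by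
  simp [cen, Subgroup.mem_centralizer_iff, and_comm]

/-- The part of `T` centralized by `T` and `z`. -/
def sec (z : G) (T : Subgroup G) : Subgroup G := T ⊓ cen z T

theorem conj_mem_cen {T : Subgroup G} {a h : G} (ha : a ∈ Subgroup.normalizer (T : Set G))
    (haz : a * z = z * a) (hh : h ∈ cen z T) : a * h * a⁻¹ ∈ cen z T := by
  rw [mem_cen] at hh ⊢
  obtain ⟨h1, h2⟩ := hh
  constructor
  · intro t ht
    have ht' : a⁻¹ * t * a ∈ T := by
      have := (Subgroup.mem_normalizer_iff.mp ha (a⁻¹ * t * a)).mpr (by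
        convert ht using 1
        group)
      exact this
    have h3 := h1 _ ht'
    calc t * (a * h * a⁻¹) = a * ((a⁻¹ * t * a) * h) * a⁻¹ := by group
      _ = a * (h * (a⁻¹ * t * a)) * a⁻¹ := by rw [h3]
      _ = _ := by group
  · have h3 : a⁻¹ * z = z * a⁻¹ := by
      calc a⁻¹ * z = a⁻¹ * (z * a) * a⁻¹ := by group
        _ = a⁻¹ * (a * z) * a⁻¹ := by rw [haz]
        _ = _ := by group
    calc z * (a * h * a⁻¹) = (z * a) * h * a⁻¹ := by group
      _ = a * (z * h) * a⁻¹ := by rw [← haz]; group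
      _ = a * (h * z) * a⁻¹ := by rw [h2]
      _ = a * h * (z * a⁻¹) := by group
      _ = a * h * (a⁻¹ * z) := by rw [h3]
      _ = _ := by group

theorem mem_normalizer_cen {T : Subgroup G} {a : G} (ha : a ∈ Subgroup.normalizer (T : Set G))
    (haz : a * z = z * a) : a ∈ Subgroup.normalizer ((cen z T : Subgroup G) : Set G) := by
  rw [Subgroup.mem_normalizer_iff]
  intro h
  refine ⟨conj_mem_cen ha haz, fun hh => ?_⟩
  have h3 : a⁻¹ * z = z * a⁻¹ := by
    calc a⁻¹ * z = a⁻¹ * (z * a) * a⁻¹ := by group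
      _ = a⁻¹ * (a * z) * a⁻¹ := by rw [haz]
      _ = _ := by group
  have := conj_mem_cen (inv_mem ha) h3 hh
  convert this using 1
  group

theorem top_spec (hs : IsChainFor p A s) : s.sup id ∈ s ∧
    ∀ Q ∈ s, Q ≤ s.sup id ∧ s.sup id ≤ Subgroup.normalizer ((Q : Subgroup G) : Set G) := by
  obtain ⟨⟨hne, hc, hp, T, hT, hTs⟩, hA⟩ := hs
  have h : s.sup id = T := le_antisymm (Finset.sup_le fun Q hQ => (hTs Q hQ).1)
    (Finset.le_sup (f := id) hT)
  rw [h]
  exact ⟨hT, hTs⟩

open Classical in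
/-- The first toggled subgroup. -/
noncomputable def X1 (z : G) (s : Finset (Subgroup G)) : Subgroup G :=
  (s.filter (fun Q => ¬ Q ≤ sec z (s.sup id))).inf id ⊓ sec z (s.sup id)

open Classical in
/-- The second toggled subgroup. -/
noncomputable def X2 (z : G) (s : Finset (Subgroup G)) : Subgroup G :=
  (s.filter (fun Q => z ∉ Q)).sup id ⊔ Subgroup.zpowers z

theorem isPGroup_zpowers [Fact p.Prime] (hzo : orderOf z = p) : IsPGroup p (Subgroup.zpowers z) := by
  rw [IsPGroup.iff_card]
  exact ⟨1, by rw [Nat.card_zpowers, hzo, pow_one]⟩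

theorem mem_normalizer_zpowers {a : G} (haz : a * z = z * a) :
    a ∈ Subgroup.normalizer ((Subgroup.zpowers z : Subgroup G) : Set G) := by
  apply mem_normalizer_of_commute
  intro u hu
  obtain ⟨k, rfl⟩ := Subgroup.mem_zpowers_iff.mp hu
  have : Commute a z := haz
  exact (this.zpow_right k).eq

theorem case1 [Fact p.Prime] (hs : IsChainFor p A s) (hzo : orderOf z = p) (hzA : z ∈ A)
    (hcomm : ∀ a ∈ A, a * z = z * a) (hT : ¬ s.sup id ≤ cen z (s.sup id)) :
    IsChainFor p A (tog s (X1 z s)) ∧ (tog s (X1 z s)).sup id = s.sup id ∧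
      X1 z (tog s (X1 z s)) = X1 z s := by
  classical
  obtain ⟨hTm, hTs⟩ := top_spec hs
  obtain ⟨⟨hne, hc, hp, -⟩, hA⟩ := hs
  set T := s.sup id with hTdef
  set S := sec z T with hSdef
  have hST : S ≤ T := inf_le_left
  have hTS : ¬ T ≤ S := fun h => hT (h.trans inf_le_right)
  set F := s.filter (fun Q => ¬ Q ≤ S) with hF
  have hFne : F.Nonempty := ⟨T, Finset.mem_filter.mpr ⟨hTm, hTS⟩⟩
  have hFc : ∀ Q ∈ F, ∀ R ∈ F, Q ≤ R ∨ R ≤ Q := fun Q hQ R hR =>
    hc Q (Finset.mem_filter.mp hQ).1 R (Finset.mem_filter.mp hR).1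
  have hYm := chain_inf_mem hFne hFc
  set Y := F.inf id with hY
  have hYs : Y ∈ s := (Finset.mem_filter.mp hYm).1
  have hYS : ¬ Y ≤ S := (Finset.mem_filter.mp hYm).2
  have hYmin : ∀ Q ∈ s, ¬ Q ≤ S → Y ≤ Q := fun Q hQ h =>
    Finset.inf_le (f := id) (Finset.mem_filter.mpr ⟨hQ, h⟩)
  have hX : X1 z s = Y ⊓ S := rfl
  rw [hX]
  set X := Y ⊓ S with hXdef
  have hXS : X ≤ S := inf_le_right
  have hXT : X ≤ T := hXS.trans hST
  -- nontrivial
  have hXbot : X ≠ ⊥ := by
    have hPp : IsPGroup p (Subgroup.zpowers z ⊔ T : Subgroup G) :=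
      IsPGroup.to_sup_of_normal_right' (isPGroup_zpowers hzo) (hp T hTm).2
        (by
          rw [Subgroup.zpowers_le]
          exact hA T hTm hzA)
    obtain ⟨y, hy, hy1, hy2⟩ := exists_central_of_normalized hPp
      (((hTs Y hYs).1).trans le_sup_right)
      (sup_le (by
        rw [Subgroup.zpowers_le]
        exact hA Y hYs hzA) (hTs Y hYs).2)
      (hp Y hYs).1
    intro hbot
    apply hy1
    have hyX : y ∈ X := by
      refine ⟨hy, (hTs Y hYs).1 hy, ?_⟩
      refine mem_cen.mpr ?_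
      exact ⟨fun t ht => hy2 t (Subgroup.mem_sup_right ht),
        hy2 z (Subgroup.mem_sup_left (Subgroup.mem_zpowers z))⟩
    rw [hbot] at hyX
    simpa using hyX
  have hXp : IsPGroup p X := (hp Y hYs).2.to_le inf_le_left
  have hNT : T ≤ Subgroup.normalizer ((X : Subgroup G) : Set G) := by
    intro t ht
    refine mem_normalizer_inf ((hTs Y hYs).2 ht) (mem_normalizer_inf (Subgroup.le_normalizer ht) ?_)
    exact mem_normalizer_of_commute fun u hu => (mem_cen.mp hu).1 t ht
  have hNA : A ≤ Subgroup.normalizer ((X : Subgroup G) : Set G) := by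
    intro a ha
    exact mem_normalizer_inf (hA Y hYs ha)
      (mem_normalizer_inf (hA T hTm ha) (mem_normalizer_cen (hA T hTm ha) (hcomm a ha)))
  have hcomp : ∀ Q ∈ s, Q ≤ X ∨ X ≤ Q := by
    intro Q hQ
    rcases hc Q hQ Y hYs with h | h
    · by_cases hQS : Q ≤ S
      · exact Or.inl (le_inf h hQS)
      · exact Or.inr (inf_le_left.trans (hYmin Q hQ hQS))
    · exact Or.inr (inf_le_left.trans h)
  have hTX : T ≠ X := fun h => hTS (h ▸ hXS)
  have hTtog : T ∈ tog s X := mem_tog.mpr (Or.inl ⟨hTm, hTX⟩)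
  have hcases : ∀ Q ∈ tog s X, Q ∈ s ∨ Q = X := by
    intro Q hQ
    rcases mem_tog.mp hQ with h | h
    · exact Or.inl h.1
    · exact Or.inr h.1
  have hsup : (tog s X).sup id = T := by
    apply le_antisymm
    · refine Finset.sup_le fun Q hQ => ?_
      rcases hcases Q hQ with h | rfl
      · exact (hTs Q h).1
      · exact hXT
    · exact Finset.le_sup (f := id) hTtog
  refine ⟨⟨⟨⟨T, hTtog⟩, ?_, ?_, T, hTtog, ?_⟩, ?_⟩, hsup, ?_⟩
  · intro Q hQ R hR
    rcases hcases Q hQ with h | rfl <;> rcases hcases R hR with h' | rfl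
    · exact hc Q h R h'
    · exact hcomp Q h
    · exact (hcomp R h').symm
    · exact Or.inl le_rfl
  · intro Q hQ
    rcases hcases Q hQ with h | rfl
    · exact hp Q h
    · exact ⟨hXbot, hXp⟩
  · intro Q hQ
    rcases hcases Q hQ with h | rfl
    · exact hTs Q h
    · exact ⟨hXT, hNT⟩
  · intro Q hQ
    rcases hcases Q hQ with h | rfl
    · exact hA Q h
    · exact hNA
  · rw [show X1 z (tog s X) = ((tog s X).filter (fun Q => ¬ Q ≤ sec z ((tog s X).sup id))).inf id ⊓
        sec z ((tog s X).sup id) from rfl, hsup]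
    have hfil : (tog s X).filter (fun Q => ¬ Q ≤ sec z T) = F := by
      ext Q
      rw [Finset.mem_filter, hF, Finset.mem_filter]
      constructor
      · rintro ⟨h1, h2⟩
        rcases hcases Q h1 with h | rfl
        · exact ⟨h, h2⟩
        · exact absurd hXS h2
      · rintro ⟨h1, h2⟩
        refine ⟨mem_tog.mpr (Or.inl ⟨h1, ?_⟩), h2⟩
        rintro rfl
        exact h2 hXS
    rw [hfil]

theorem case2 [Fact p.Prime] (hs : IsChainFor p A s) (hzo : orderOf z = p) (hzA : z ∈ A)
    (hcomm : ∀ a ∈ A, a * z = z * a) (hT : s.sup id ≤ cen z (s.sup id))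
    (hne' : s ≠ {Subgroup.zpowers z}) :
    IsChainFor p A (tog s (X2 z s)) ∧
      (tog s (X2 z s)).sup id ≤ cen z ((tog s (X2 z s)).sup id) ∧
      X2 z (tog s (X2 z s)) = X2 z s := by
  classical
  haveI : Fact p.Prime := inferInstance
  have hp1 : p.Prime := Fact.out
  have hz1 : z ≠ 1 := by
    rintro rfl
    rw [orderOf_one] at hzo
    exact hp1.one_lt.ne hzo
  obtain ⟨hTm, hTs⟩ := top_spec hs
  obtain ⟨⟨hne, hc, hp, -⟩, hA⟩ := hs
  set T := s.sup id with hTdef
  set Z₀ := Subgroup.zpowers z with hZ₀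
  have hzZ : z ∈ Z₀ := Subgroup.mem_zpowers z
  set That : Subgroup G := T ⊔ Z₀ with hThat
  have hT1 : ∀ t ∈ T, ∀ t' ∈ T, t' * t = t * t' := fun t ht t' ht' => (mem_cen.mp (hT ht)).1 t' ht'
  have hT2 : ∀ t ∈ T, z * t = t * z := fun t ht => (mem_cen.mp (hT ht)).2
  -- `That` is abelian
  have hab : ∀ a ∈ That, ∀ b ∈ That, a * b = b * a := by
    have key1 : That ≤ Subgroup.centralizer (T : Set G) := by
      refine sup_le (fun t ht => ?_) ?_
      · rw [Subgroup.mem_centralizer_iff]
        exact fun t' ht' => hT1 t ht t' ht'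
      · rw [Subgroup.zpowers_le, Subgroup.mem_centralizer_iff]
        exact fun t' ht' => (hT2 t' ht').symm
    have key2 : That ≤ Subgroup.centralizer (Z₀ : Set G) := by
      refine sup_le (fun t ht => ?_) ?_
      · rw [Subgroup.mem_centralizer_iff]
        intro w hw
        obtain ⟨k, rfl⟩ := Subgroup.mem_zpowers_iff.mp hw
        have : Commute z t := hT2 t ht
        exact (this.zpow_left k).eq
      · rw [Subgroup.zpowers_le, Subgroup.mem_centralizer_iff]
        intro w hw
        obtain ⟨k, rfl⟩ := Subgroup.mem_zpowers_iff.mp hw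
        exact ((Commute.refl z).zpow_left k).eq
    have key3 : That ≤ Subgroup.centralizer (That : Set G) := by
      refine sup_le ?_ ?_
      · exact Subgroup.le_centralizer_iff.mpr key1
      · exact Subgroup.le_centralizer_iff.mpr key2
    intro a ha b hb
    exact (Subgroup.mem_centralizer_iff.mp (key3 hb) a ha)
  have hThatP : IsPGroup p That := by
    have := IsPGroup.to_sup_of_normal_right' (isPGroup_zpowers hzo) (hp T hTm).2
        (by
          rw [Subgroup.zpowers_le]
          exact hA T hTm hzA)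
    rwa [sup_comm] at this
  set F := s.filter (fun Q => z ∉ Q) with hF
  set V := F.sup id with hV
  have hX : X2 z s = V ⊔ Z₀ := rfl
  rw [hX]
  set X := V ⊔ Z₀ with hXdef
  have hVT : V ≤ T := Finset.sup_le fun Q hQ => (hTs Q (Finset.mem_filter.mp hQ).1).1
  have hXT : X ≤ That := sup_le_sup_right hVT _
  have hzX : z ∈ X := Subgroup.mem_sup_right hzZ
  have hXbot : X ≠ ⊥ := by
    intro h
    rw [h] at hzX
    exact hz1 (by simpa using hzX)
  have hVcase : V = ⊥ ∨ V ∈ s := by
    by_cases hFe : F.Nonempty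
    · right
      exact (Finset.mem_filter.mp (chain_sup_mem hFe fun Q hQ R hR =>
        hc Q (Finset.mem_filter.mp hQ).1 R (Finset.mem_filter.mp hR).1)).1
    · left
      rw [Finset.not_nonempty_iff_eq_empty] at hFe
      rw [hV, hFe]
      simp
  have hzV : z ∉ V := by
    by_cases hFe : F.Nonempty
    · exact (Finset.mem_filter.mp (chain_sup_mem hFe fun Q hQ R hR =>
        hc Q (Finset.mem_filter.mp hQ).1 R (Finset.mem_filter.mp hR).1)).2
    · rw [Finset.not_nonempty_iff_eq_empty] at hFe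
      rw [hV, hFe]
      simpa using hz1
  have hNA : A ≤ Subgroup.normalizer ((X : Subgroup G) : Set G) := by
    intro a ha
    refine mem_normalizer_sup ?_ (mem_normalizer_zpowers (hcomm a ha))
    rcases hVcase with h | h
    · rw [h]
      rw [Subgroup.mem_normalizer_iff]
      intro u
      simp
    · exact hA V h ha
  have hcomp : ∀ Q ∈ s, Q ≤ X ∨ X ≤ Q := by
    intro Q hQ
    by_cases hzQ : z ∈ Q
    · right
      refine sup_le ?_ ?_
      · rcases hVcase with h | h
        · rw [h]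
          exact bot_le
        · rcases hc Q hQ V h with h' | h'
          · exact absurd (h' hzQ) hzV
          · exact h'
      · rw [hZ₀, Subgroup.zpowers_le]
        exact hzQ
    · left
      exact (Finset.le_sup (f := id) (Finset.mem_filter.mpr ⟨hQ, hzQ⟩)).trans le_sup_left
  have hcases : ∀ Q ∈ tog s X, Q ∈ s ∨ Q = X := by
    intro Q hQ
    rcases mem_tog.mp hQ with h | h
    · exact Or.inl h.1
    · exact Or.inr h.1
  have hQThat : ∀ Q ∈ tog s X, Q ≤ That := by
    intro Q hQ
    rcases hcases Q hQ with h | rfl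
    · exact (hTs Q h).1.trans le_sup_left
    · exact hXT
  have hnetog : (tog s X).Nonempty := by
    by_cases hXs : X ∈ s
    · by_contra hemp
      rw [Finset.not_nonempty_iff_eq_empty] at hemp
      have h1 : s = {X} := by
        ext Q
        rw [Finset.mem_singleton]
        constructor
        · intro hQ
          by_contra hQX
          have : Q ∈ tog s X := mem_tog.mpr (Or.inl ⟨hQ, hQX⟩)
          rw [hemp] at this
          simp at this
        · rintro rfl
          exact hXs
      have h2 : F = ∅ := by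
        rw [hF, h1]
        ext Q
        simp only [Finset.mem_filter, Finset.mem_singleton, Finset.notMem_empty, iff_false, not_and,
          not_not]
        rintro rfl
        exact hzX
      have h3 : V = ⊥ := by
        rw [hV, h2]
        simp
      rw [h3, bot_sup_eq] at hXdef
      apply hne'
      rw [h1, hXdef]
    · exact ⟨X, mem_tog.mpr (Or.inr ⟨rfl, hXs⟩)⟩
  have hctog : ∀ Q ∈ tog s X, ∀ R ∈ tog s X, Q ≤ R ∨ R ≤ Q := by
    intro Q hQ R hR
    rcases hcases Q hQ with h | rfl <;> rcases hcases R hR with h' | rfl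
    · exact hc Q h R h'
    · exact hcomp Q h
    · exact (hcomp R h').symm
    · exact Or.inl le_rfl
  have hTm' := chain_sup_mem hnetog hctog
  set T' := (tog s X).sup id with hT'
  have hT'That : T' ≤ That := hQThat _ hTm'
  refine ⟨⟨⟨hnetog, hctog, ?_, T', hTm', ?_⟩, ?_⟩, ?_, ?_⟩
  · intro Q hQ
    rcases hcases Q hQ with h | rfl
    · exact hp Q h
    · exact ⟨hXbot, hThatP.to_le hXT⟩
  · intro Q hQ
    refine ⟨Finset.le_sup (f := id) hQ, fun t ht => ?_⟩
    exact mem_normalizer_of_commute fun u hu => hab t (hT'That ht) u (hQThat Q hQ hu)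
  · intro Q hQ
    rcases hcases Q hQ with h | rfl
    · exact hA Q h
    · exact hNA
  · intro t ht
    rw [mem_cen]
    exact ⟨fun t' ht' => hab _ (hT'That ht') _ (hT'That ht),
      hab _ (Subgroup.mem_sup_right hzZ) _ (hT'That ht)⟩
  · rw [show X2 z (tog s X) = ((tog s X).filter (fun Q => z ∉ Q)).sup id ⊔ Subgroup.zpowers z from rfl]
    have hfil : (tog s X).filter (fun Q => z ∉ Q) = F := by
      ext Q
      rw [Finset.mem_filter, hF, Finset.mem_filter]
      constructor
      · rintro ⟨h1, h2⟩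
        rcases hcases Q h1 with h | rfl
        · exact ⟨h, h2⟩
        · exact absurd hzX h2
      · rintro ⟨h1, h2⟩
        refine ⟨mem_tog.mpr (Or.inl ⟨h1, ?_⟩), h2⟩
        rintro rfl
        exact h2 hzX
    rw [hfil]

open Classical in
/-- The subgroup to toggle. -/
noncomputable def tau (z : G) (s : Finset (Subgroup G)) : Subgroup G :=
  if s.sup id ≤ cen z (s.sup id) then X2 z s else X1 z s

theorem tau_singleton (hz1 : z ≠ 1) : tau z {Subgroup.zpowers z} = Subgroup.zpowers z := by
  classical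
  have h1 : ({Subgroup.zpowers z} : Finset (Subgroup G)).sup id = Subgroup.zpowers z := by simp
  have h2 : Subgroup.zpowers z ≤ cen z (Subgroup.zpowers z) := by
    intro w hw
    obtain ⟨k, rfl⟩ := Subgroup.mem_zpowers_iff.mp hw
    refine mem_cen.mpr ⟨fun t ht => ?_, ?_⟩
    · obtain ⟨j, rfl⟩ := Subgroup.mem_zpowers_iff.mp ht
      exact ((Commute.refl z).zpow_zpow j k).eq
    · exact ((Commute.refl z).zpow_right k).eq
  unfold tau
  rw [h1, if_pos h2]
  show (({Subgroup.zpowers z} : Finset (Subgroup G)).filter (fun Q => z ∉ Q)).sup id ⊔ _ = _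
  have h3 : ({Subgroup.zpowers z} : Finset (Subgroup G)).filter (fun Q => z ∉ Q) = ∅ := by
    ext Q
    simp only [Finset.mem_filter, Finset.mem_singleton, Finset.notMem_empty, iff_false, not_and,
      not_not]
    rintro rfl
    exact Subgroup.mem_zpowers z
  rw [h3]
  simp

theorem tau_step [Fact p.Prime] (hs : IsChainFor p A s) (hzo : orderOf z = p) (hzA : z ∈ A)
    (hcomm : ∀ a ∈ A, a * z = z * a) (hne' : s ≠ {Subgroup.zpowers z}) :
    IsChainFor p A (tog s (tau z s)) ∧ tau z (tog s (tau z s)) = tau z s := by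
  classical
  by_cases hT : s.sup id ≤ cen z (s.sup id)
  · have h0 : tau z s = X2 z s := if_pos hT
    obtain ⟨h1, h2, h3⟩ := case2 hs hzo hzA hcomm hT hne'
    rw [h0]
    refine ⟨h1, ?_⟩
    unfold tau
    rw [if_pos h2, h3]
  · have h0 : tau z s = X1 z s := if_neg hT
    obtain ⟨h1, h2, h3⟩ := case1 hs hzo hzA hcomm hT
    rw [h0]
    refine ⟨h1, ?_⟩
    unfold tau
    rw [h2, if_neg hT, h3]

/-- **The Euler characteristic of normal chains fixed by `A`** -/
theorem euler [Fact p.Prime] (𝒮 : Finset (Finset (Subgroup G)))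
    (h𝒮 : ∀ s, s ∈ 𝒮 ↔ IsChainFor p A s) (hzo : orderOf z = p) (hzA : z ∈ A)
    (hcomm : ∀ a ∈ A, a * z = z * a) : ∑ s ∈ 𝒮, (-1 : ℤ) ^ (s.card - 1) = 1 := by
  classical
  have hp1 : p.Prime := Fact.out
  have hz1 : z ≠ 1 := by
    rintro rfl
    rw [orderOf_one] at hzo
    exact hp1.one_lt.ne hzo
  have hZ : ({Subgroup.zpowers z} : Finset (Subgroup G)) ∈ 𝒮 := by
    rw [h𝒮]
    have hZbot : Subgroup.zpowers z ≠ ⊥ := by
      intro h
      exact hz1 (Subgroup.zpowers_eq_bot.mp h)
    refine ⟨⟨Finset.singleton_nonempty _, ?_, ?_, Subgroup.zpowers z, Finset.mem_singleton_self _, ?_⟩, ?_⟩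
    · intro Q hQ R hR
      rw [Finset.mem_singleton] at hQ hR
      rw [hQ, hR]
      exact Or.inl le_rfl
    · intro Q hQ
      rw [Finset.mem_singleton] at hQ
      rw [hQ]
      exact ⟨hZbot, isPGroup_zpowers hzo⟩
    · intro Q hQ
      rw [Finset.mem_singleton] at hQ
      rw [hQ]
      exact ⟨le_rfl, Subgroup.le_normalizer⟩
    · intro Q hQ
      rw [Finset.mem_singleton] at hQ
      rw [hQ]
      exact fun a ha => mem_normalizer_zpowers (hcomm a ha)
  rw [← Finset.add_sum_erase 𝒮 _ hZ]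
  have hzero : ∑ s ∈ 𝒮.erase {Subgroup.zpowers z}, (-1 : ℤ) ^ (s.card - 1) = 0 := by
    have hmem : ∀ s, s ∈ 𝒮.erase {Subgroup.zpowers z} → IsChainFor p A s ∧ s ≠ {Subgroup.zpowers z} := by
      intro s hs
      rw [Finset.mem_erase] at hs
      exact ⟨(h𝒮 s).mp hs.2, hs.1⟩
    have hsign : ∀ s, s ∈ 𝒮.erase {Subgroup.zpowers z} →
        (-1 : ℤ) ^ (s.card - 1) + (-1 : ℤ) ^ ((tog s (tau z s)).card - 1) = 0 := by
      intro s hs
      obtain ⟨h1, h2⟩ := hmem s hs
      exact sign_tog h1.1.1 (tau_step h1 hzo hzA hcomm h2).1.1.1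
    refine Finset.sum_involution (fun s _ => tog s (tau z s)) hsign ?_ ?_ ?_
    · intro s hs hf he
      have := hsign s hs
      change tog s (tau z s) = s at he
      rw [he] at this
      apply hf
      linarith
    · intro s hs
      obtain ⟨h1, h2⟩ := hmem s hs
      obtain ⟨h3, h4⟩ := tau_step h1 hzo hzA hcomm h2
      rw [Finset.mem_erase]
      refine ⟨fun h5 => ?_, (h𝒮 _).mpr h3⟩
      rw [h5, tau_singleton hz1] at h4
      rw [← h4] at h5
      have h6 := tog_tog s (tau z s)
      rw [← h4, h5] at h6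
      have h7 : tog ({Subgroup.zpowers z} : Finset (Subgroup G)) (Subgroup.zpowers z) = ∅ := by
        unfold tog
        simp
      rw [h7] at h6
      exact h1.1.1.ne_empty h6.symm
    · intro s hs
      obtain ⟨h1, h2⟩ := hmem s hs
      obtain ⟨h3, h4⟩ := tau_step h1 hzo hzA hcomm h2
      change tog (tog s (tau z s)) (tau z (tog s (tau z s))) = s
      rw [h4, tog_tog]
  rw [hzero]
  simp

end Euler

section Comb

variable [Finite G]

/-- The stabilizer of a chain. -/
def chainNorm (s : Finset (Subgroup G)) : Subgroup G :=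
  ⨅ Q ∈ s, Subgroup.normalizer ((Q : Subgroup G) : Set G)

theorem le_chainNorm_iff {A : Subgroup G} {s : Finset (Subgroup G)} :
    A ≤ chainNorm s ↔ ∀ Q ∈ s, A ≤ Subgroup.normalizer ((Q : Subgroup G) : Set G) := by
  unfold chainNorm
  simp only [le_iInf_iff]

theorem mem_chainNorm_iff {x : G} {s : Finset (Subgroup G)} :
    x ∈ chainNorm s ↔ ∀ Q ∈ s, x ∈ Subgroup.normalizer ((Q : Subgroup G) : Set G) := by
  unfold chainNorm
  simp only [Subgroup.mem_iInf]

/-- The centralizer of an element. -/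
abbrev Cn (x : G) : Subgroup G := Subgroup.centralizer ({x} : Set G)

theorem exists_order_p_power [Fact p.Prime] {x : G} (hx1 : x ≠ 1) (hxp : ∃ k : ℕ, orderOf x = p ^ k) :
    ∃ z ∈ Subgroup.zpowers x, orderOf z = p := by
  have hp1 : p.Prime := Fact.out
  obtain ⟨k, hk⟩ := hxp
  have hk0 : k ≠ 0 := by
    rintro rfl
    rw [pow_zero, orderOf_eq_one_iff] at hk
    exact hx1 hk
  have hd : p ∣ orderOf x := by
    rw [hk]
    exact dvd_pow_self p hk0
  refine ⟨x ^ (orderOf x / p), Subgroup.npow_mem_zpowers _ _, ?_⟩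
  exact orderOf_pow_orderOf_div (orderOf_pos x).ne' hd

open Classical in
/-- The chains in `𝒮` normalized by `x` and a subgroup `K ≤ C_G(x)` have Euler characteristic one. -/
theorem euler_cent [Fact p.Prime] (𝒮 : Finset (Finset (Subgroup G)))
    (h𝒮 : ∀ s, s ∈ 𝒮 ↔ IsNChain p s) {x : G} (hx1 : x ≠ 1) (hxp : ∃ k : ℕ, orderOf x = p ^ k)
    {K : Subgroup G} (hK : K ≤ Cn x) :
    ∑ s ∈ 𝒮.filter (fun s => x ∈ chainNorm s ∧ K ≤ chainNorm s), (-1 : ℤ) ^ (s.card - 1) = 1 := by
  obtain ⟨z, hz, hzo⟩ := exists_order_p_power (p := p) hx1 hxp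
  set A : Subgroup G := K ⊔ Subgroup.zpowers x with hA
  refine euler (A := A) (z := z) _ ?_ hzo (Subgroup.mem_sup_right hz) ?_
  · intro s
    rw [Finset.mem_filter, h𝒮]
    constructor
    · rintro ⟨h1, h2, h3⟩
      refine ⟨h1, le_chainNorm_iff.mp (sup_le h3 ?_)⟩
      rwa [Subgroup.zpowers_le]
    · rintro ⟨h1, h2⟩
      have h3 := le_chainNorm_iff.mpr h2
      exact ⟨h1, h3 (Subgroup.mem_sup_right (Subgroup.mem_zpowers x)),
        le_sup_left.trans h3⟩
  · have hsub : A ≤ Subgroup.centralizer ({z} : Set G) := by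
      refine sup_le (fun k hk => ?_) ?_
      · rw [Subgroup.mem_centralizer_singleton_iff]
        obtain ⟨j, rfl⟩ := Subgroup.mem_zpowers_iff.mp hz
        have h1 := hK hk
        rw [Subgroup.mem_centralizer_singleton_iff] at h1
        have : Commute k x := h1
        exact (this.zpow_right j).eq
      · rw [Subgroup.zpowers_le, Subgroup.mem_centralizer_singleton_iff]
        obtain ⟨j, rfl⟩ := Subgroup.mem_zpowers_iff.mp hz
        exact ((Commute.refl x).zpow_right j).eq
    intro a ha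
    have := hsub ha
    rwa [Subgroup.mem_centralizer_singleton_iff] at this

open Classical in
/-- **The chain sum over a centralizer** -/
theorem comb [Fact p.Prime] (𝒮 : Finset (Finset (Subgroup G)))
    (h𝒮 : ∀ s, s ∈ 𝒮 ↔ IsNChain p s) {x : G} (hx1 : x ≠ 1) (hxp : ∃ k : ℕ, orderOf x = p ^ k)
    (φ : Subgroup G → ℤ) :
    ∑ s ∈ 𝒮.filter (fun s => x ∈ chainNorm s),
      (-1 : ℤ) ^ (s.card - 1) * φ (chainNorm s ⊓ Cn x) = φ (Cn x) := by
  letI : Fintype (Subgroup G) := Fintype.ofFinite _
  set 𝒳 := 𝒮.filter (fun s => x ∈ chainNorm s) with h𝒳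
  set C := Cn x with hC
  let h : Subgroup G → ℤ := fun K => ∑ s ∈ 𝒳.filter (fun s => chainNorm s ⊓ C = K), (-1 : ℤ) ^ (s.card - 1)
  have hg : ∀ K : Subgroup G, K ≤ C →
      ∑ K' ∈ Finset.univ.filter (fun K' => K ≤ K' ∧ K' ≤ C), h K' = 1 := by
    intro K hK
    have h1 := euler_cent 𝒮 h𝒮 hx1 hxp hK
    rw [← h1]
    have h2 : 𝒮.filter (fun s => x ∈ chainNorm s ∧ K ≤ chainNorm s) =
        𝒳.filter (fun s => K ≤ chainNorm s ⊓ C) := by
      ext s
      simp only [h𝒳, Finset.mem_filter]
      constructor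
      · rintro ⟨a, b, c⟩
        exact ⟨⟨a, b⟩, le_inf c hK⟩
      · rintro ⟨⟨a, b⟩, c⟩
        exact ⟨a, b, c.trans inf_le_left⟩
    rw [h2]
    rw [← Finset.sum_fiberwise_of_maps_to (s := 𝒳.filter (fun s => K ≤ chainNorm s ⊓ C))
      (t := Finset.univ.filter (fun K' => K ≤ K' ∧ K' ≤ C)) (g := fun s => chainNorm s ⊓ C)]
    · refine Finset.sum_congr rfl fun K' hK' => ?_
      have hK'' := (Finset.mem_filter.mp hK').2
      apply Finset.sum_congr _ fun _ _ => rfl
      ext s
      simp only [Finset.mem_filter]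
      constructor
      · rintro ⟨a, b⟩
        exact ⟨⟨a, by rw [b]; exact hK''.1⟩, b⟩
      · rintro ⟨⟨a, _⟩, b⟩
        exact ⟨a, b⟩
    · intro s hs
      exact Finset.mem_filter.mpr ⟨Finset.mem_univ _, (Finset.mem_filter.mp hs).2, inf_le_right⟩
  have hval : ∀ K : Subgroup G, K ≤ C → h K = if K = C then 1 else 0 := by
    intro K
    induction K using WellFoundedGT.induction with
    | _ K ih =>
      intro hK
      have h1 := hg K hK
      have hsplit : Finset.univ.filter (fun K' => K ≤ K' ∧ K' ≤ C) =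
          insert K (Finset.univ.filter (fun K' => K < K' ∧ K' ≤ C)) := by
        ext K'
        simp only [Finset.mem_filter, Finset.mem_univ, true_and, Finset.mem_insert]
        constructor
        · rintro ⟨a, b⟩
          rcases a.eq_or_lt with rfl | a'
          · exact Or.inl rfl
          · exact Or.inr ⟨a', b⟩
        · rintro (rfl | ⟨a, b⟩)
          · exact ⟨le_rfl, hK⟩
          · exact ⟨a.le, b⟩
      rw [hsplit, Finset.sum_insert (by simp)] at h1
      have h2 : ∑ K' ∈ Finset.univ.filter (fun K' => K < K' ∧ K' ≤ C), h K' =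
          if K = C then 0 else 1 := by
        have h3 : ∀ K' ∈ Finset.univ.filter (fun K' => K < K' ∧ K' ≤ C),
            h K' = if K' = C then 1 else 0 := by
          intro K' hK'
          have := (Finset.mem_filter.mp hK').2
          exact ih K' this.1 this.2
        rw [Finset.sum_congr rfl h3, Finset.sum_ite_eq']
        by_cases hKC : K = C
        · rw [if_pos hKC, if_neg]
          subst hKC
          simp
        · rw [if_neg hKC, if_pos]
          simp only [Finset.mem_filter, Finset.mem_univ, true_and]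
          exact ⟨lt_of_le_of_ne hK hKC, le_rfl⟩
      rw [h2] at h1
      by_cases hKC : K = C
      · rw [if_pos hKC] at h1 ⊢
        linarith
      · rw [if_neg hKC] at h1 ⊢
        linarith
  rw [← Finset.sum_fiberwise_of_maps_to (s := 𝒳) (t := Finset.univ.filter (fun K' => K' ≤ C))
    (g := fun s => chainNorm s ⊓ C)
    (fun s _ => Finset.mem_filter.mpr ⟨Finset.mem_univ _, inf_le_right⟩)]
  have h3 : ∀ K' ∈ Finset.univ.filter (fun K' => K' ≤ C),
      ∑ s ∈ 𝒳.filter (fun s => chainNorm s ⊓ C = K'),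
        (-1 : ℤ) ^ (s.card - 1) * φ (chainNorm s ⊓ C) = if K' = C then φ C else 0 := by
    intro K' hK'
    have h4 : ∀ s ∈ 𝒳.filter (fun s => chainNorm s ⊓ C = K'),
        (-1 : ℤ) ^ (s.card - 1) * φ (chainNorm s ⊓ C) = (-1 : ℤ) ^ (s.card - 1) * φ K' := by
      intro s hs
      rw [(Finset.mem_filter.mp hs).2]
    rw [Finset.sum_congr rfl h4, ← Finset.sum_mul]
    have h5 := hval K' (Finset.mem_filter.mp hK').2
    change h K' * _ = _
    rw [h5]
    by_cases hKC : K' = C
    · rw [if_pos hKC, if_pos hKC, hKC, one_mul]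
    · rw [if_neg hKC, if_neg hKC, zero_mul]
  rw [Finset.sum_congr rfl h3, Finset.sum_ite_eq', if_pos]
  simp

end Comb

end Cfsg.Agent.Lib.Blocks.ChainEuler
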