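import Mathlib
import Cfsg.Agent.Lib.Blocks.SectionCount
import Cfsg.Agent.Lib.Blocks.ChainEuler

/-!
# Transitivity of block induction, transport of the `p`-regular rank

`section_count_bN`: the section count for the union `bN H` of the blocks of `H` inducing `b`, for a
subgroup `H` with `T ≤ H`, `C_G(T) ≤ H ≤ N_G(T)`, `T` a `p`-subgroup.
-/

set_option linter.unusedSectionVars false
set_option autoImplicit false
set_option linter.style.haveILetI false

namespace Cfsg.Agent.Lib.Blocks.ChainBlocks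

open Cfsg
open Cfsg.Agent.Lib.Blocks.Local Cfsg.Agent.Lib.Blocks.Central Cfsg.Agent.Lib.Blocks.Induced
open Cfsg.Agent.Lib.Blocks.Weak Cfsg.Agent.Lib.Blocks.Main
open Cfsg.Agent.Lib.Blocks.ClosedRank Cfsg.Agent.Lib.Blocks.NormRank
open Cfsg.Agent.Lib.Blocks.SectionCount
open Cfsg.Agent.Lib.BlockH.Transport
open Cfsg.Agent.Lib.Blocks.ChainEuler (IsNChain chainNorm le_chainNorm_iff mem_normalizer_of_commute)
open scoped ComplexConjugate

universe u

section Rank

variable {H H' : Type u} [Group H] [Group H'] {p : ℕ}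

theorem pRegularPart_comp (σ : H ≃* H') (f : H → ℂ) :
    pRegularPart p (f ∘ σ.symm) = (pRegularPart p f) ∘ σ.symm := by
  classical
  funext g
  have : IsPRegular p g ↔ IsPRegular p (σ.symm g) := by
    simp only [IsPRegular, MulEquiv.orderOf_eq]
  simp only [pRegularPart, Function.comp_apply]
  by_cases h : IsPRegular p g
  · rw [if_pos h, if_pos (this.mp h)]
  · rw [if_neg h, if_neg (fun h' => h (this.mpr h'))]

/-- The `p`-regular rank is invariant under isomorphisms. -/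
theorem blockRank_blockMap (σ : H ≃* H') (e : Set (IrrCharacter H)) :
    blockRank p (blockMap σ e) = blockRank p e := by
  classical
  let L : (H → ℂ) ≃ₗ[ℂ] (H' → ℂ) := LinearEquiv.funCongrLeft ℂ ℂ σ.symm.toEquiv
  have hL : ∀ f : H → ℂ, L f = f ∘ σ.symm := fun f => rfl
  have himg : (fun χ : IrrCharacter H' => pRegularPart p (χ : H' → ℂ)) '' (blockMap σ e) =
      L '' ((fun χ : IrrCharacter H => pRegularPart p (χ : H → ℂ)) '' e) := by
    ext f
    constructor
    · rintro ⟨_, ⟨ψ, hψ, rfl⟩, rfl⟩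
      refine ⟨_, ⟨ψ, hψ, rfl⟩, ?_⟩
      simp only
      rw [hL, ← pRegularPart_comp]
      rfl
    · rintro ⟨_, ⟨ψ, hψ, rfl⟩, rfl⟩
      refine ⟨_, ⟨ψ, hψ, rfl⟩, ?_⟩
      simp only
      rw [hL, ← pRegularPart_comp]
      rfl
  unfold blockRank
  rw [himg]
  have h2 := Submodule.map_span (L : (H → ℂ) →ₗ[ℂ] (H' → ℂ))
    ((fun χ : IrrCharacter H => pRegularPart p (χ : H → ℂ)) '' e)
  have h3 : (L : (H → ℂ) →ₗ[ℂ] (H' → ℂ)) '' ((fun χ : IrrCharacter H => pRegularPart p (χ : H → ℂ)) '' e) =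
      L '' ((fun χ : IrrCharacter H => pRegularPart p (χ : H → ℂ)) '' e) := rfl
  rw [← h3, ← h2]
  exact LinearEquiv.finrank_map_eq L _

end Rank

section Trans

variable {G : Type u} [Group G] [Fintype G] {M : Ideal AlgInt} {p : ℕ}

/-- The union of the blocks of `H` inducing `b`. -/
def bN (M : Ideal AlgInt) (H : Subgroup G) (b : Set (IrrCharacter G)) : Set (IrrCharacter H) :=
  {ψ : IrrCharacter H | ∃ β : Set (IrrCharacter H), ψ ∈ β ∧ IsInducedBlock M H β b}

variable {H L : Subgroup G} {C : Subgroup H} [Fintype H] [Fintype L] [Fintype C]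

theorem omegaHom_restr (σ : C ≃* L) (hσ : ∀ y : C, ((σ y : L) : G) = ((y : H) : G)) (ξ : IrrCharacter C)
    (z : Subalgebra.center ℂ (GA G)) :
    omegaHom (irrMap σ ξ) (restrCenter L z) = omegaHom ξ (restrCenter C (restrCenter H z)) := by
  classical
  rw [omegaHom_apply, omegaHom_apply, lin_apply, lin_apply]
  have h1 : ((irrMap σ ξ : IrrCharacter L) : L → ℂ) 1 = (ξ : C → ℂ) 1 := by
    rw [irrMap_apply, map_one]
  rw [h1]
  congr 1
  symm
  refine Fintype.sum_equiv σ.toEquiv _ _ fun y => ?_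
  simp only [MulEquiv.toEquiv_eq_coe, EquivLike.coe_coe, irrMap_apply, MulEquiv.symm_apply_apply,
    coe_restrCenter, coeff_restr]
  rw [hσ]

/-- Transitivity of block induction. -/
theorem trans_induced [M.IsPrime] (σ : C ≃* L) (hσ : ∀ y : C, ((σ y : L) : G) = ((y : H) : G))
    {ξ : IrrCharacter C} {B : Set (IrrCharacter H)} {b : Set (IrrCharacter G)}
    (h₁ : IsInducedBlock M C (blockOf M (ξ : C → ℂ)) B) (h₂ : IsInducedBlock M H B b) :
    IsInducedBlock M L (blockOf M ((irrMap σ ξ : IrrCharacter L) : L → ℂ)) b := by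
  classical
  obtain ⟨ψ, hψ⟩ := isPBlock_nonempty h₁.2.1
  obtain ⟨χ, hχ⟩ := isPBlock_nonempty h₂.2.1
  rw [isPBlock_eq_blockOf h₂.2.1 hχ]
  refine isInducedBlock_blockOf L fun z hz => ?_
  have hz₁ := restrCenter_mem_localCenter H hz
  have h3 := IsInducedBlock.sub_mem C h₁ (mem_blockOf_self ξ) hψ hz₁
  have h4 := IsInducedBlock.sub_mem H h₂ hψ hχ hz
  rw [indHom_apply] at h3 h4 ⊢
  rw [omegaHom_restr σ hσ]
  have := memLocalIdeal_add h3 h4
  convert this using 1
  ring

theorem bN_closed [M.IsPrime] {b : Set (IrrCharacter G)} : IsClosedB M (bN M H b) := by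
  rintro ψ ⟨β, hψ, hind⟩ ψ' hs
  refine ⟨β, ?_, hind⟩
  rw [isPBlock_eq_blockOf hind.1 hψ]
  exact sameBlock_symm hs

end Trans

section Main

variable {G : Type u} [Group G] [Fintype G] {M : Ideal AlgInt} {p : ℕ} [Fact p.Prime]

/-- The centralizer in `H` of `x ∈ H` is isomorphic to `H ⊓ C_G(x)`. -/
def secEquiv (H : Subgroup G) (x : H) : Cn x ≃* ↥(H ⊓ Cn (x : G)) where
  toFun y := ⟨y.1.1, y.1.2, by
    have h1 := y.2
    rw [Subgroup.mem_centralizer_singleton_iff] at h1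
    change ((y : H) : G) ∈ Cn (x : G)
    rw [Subgroup.mem_centralizer_singleton_iff]
    exact congrArg Subtype.val h1⟩
  invFun l := ⟨⟨l.1, l.2.1⟩, by
    have h1 : (l : G) ∈ Cn (x : G) := l.2.2
    rw [Subgroup.mem_centralizer_singleton_iff] at h1 ⊢
    exact Subtype.ext h1⟩
  left_inv y := rfl
  right_inv l := rfl
  map_mul' a b := rfl

theorem coe_secEquiv (H : Subgroup G) (x : H) (y : Cn x) :
    ((secEquiv H x y : ↥(H ⊓ Cn (x : G))) : G) = ((y : H) : G) := rfl

theorem orderOf_subgroup_coe {H : Subgroup G} (x : H) : orderOf (x : G) = orderOf x :=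
  Subgroup.orderOf_coe x

/-- The blocks of `H ⊓ C_G(x)` inducing `b` correspond to the blocks of `C_H(x)` inducing blocks of
`H` inducing `b`. -/
theorem blockMap_indU (hM : IsPModular p M) {b : Set (IrrCharacter G)} {H T : Subgroup G}
    (hP : Cfsg.Agent.Lib.Blocks.Induced.IsBrauerPair p T H) {x : H} (hxp : ∃ k : ℕ, orderOf x = p ^ k) :
    blockMap (secEquiv H x) (indU M (Cn x) (bN M H b)) = bN M (H ⊓ Cn (x : G)) b := by
  classical
  haveI := isPrime_of_pModular hM
  letI : Fintype H := Fintype.ofFinite _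
  letI : Fintype (Cn x) := Fintype.ofFinite _
  letI : Fintype ↥(H ⊓ Cn (x : G)) := Fintype.ofFinite _
  haveI := Cfsg.Agent.Lib.Char.Ortho.finite_irrCharacter (G := H)
  letI : Fintype (IrrCharacter H) := Fintype.ofFinite _
  haveI := Cfsg.Agent.Lib.Char.Ortho.finite_irrCharacter (G := Cn x)
  letI : Fintype (IrrCharacter (Cn x)) := Fintype.ofFinite _
  haveI := Cfsg.Agent.Lib.Char.Ortho.finite_irrCharacter (G := G)
  letI : Fintype (IrrCharacter G) := Fintype.ofFinite _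
  ext η
  rw [mem_blockMap_iff]
  set ξ := irrMap (secEquiv H x).symm η with hξ
  have hη : irrMap (secEquiv H x) ξ = η := (irrEquiv (secEquiv H x)).right_inv η
  constructor
  · rintro ⟨B, hB, hind⟩
    obtain ⟨ψ, hψ⟩ := isPBlock_nonempty hind.2.1
    obtain ⟨β, hψβ, hβ⟩ := hB hψ
    have hBβ : B = β := by
      rw [isPBlock_eq_blockOf hind.2.1 hψ, ← isPBlock_eq_blockOf hβ.1 hψβ]
    rw [← hBβ] at hβ
    have h1 := trans_induced (secEquiv H x) (coe_secEquiv H x) hind hβ
    rw [hη] at h1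
    exact ⟨_, mem_blockOf_self η, h1⟩
  · rintro ⟨e, hηe, hind⟩
    rw [isPBlock_eq_blockOf hind.1 hηe] at hind
    obtain ⟨B, hB⟩ := exists_induced hM (isBrauerPair_zpowers hxp) (b := blockOf M (ξ : Cn x → ℂ)) ⟨ξ, rfl⟩
    obtain ⟨b', hb'⟩ := exists_induced hM hP hB.2.1
    have h1 := trans_induced (secEquiv H x) (coe_secEquiv H x) hB hb'
    rw [hη] at h1
    have h2 : b' = b := IsInducedBlock.unique _ h1 hind
    rw [h2] at hb'
    exact ⟨B, fun ψ hψ => ⟨B, hψ, hb'⟩, hB⟩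

open Classical in
/-- **The section count for `bN`.** -/
theorem section_count_bN (hM : IsPModular p M) {b : Set (IrrCharacter G)} {H T : Subgroup G}
    (hP : Cfsg.Agent.Lib.Blocks.Induced.IsBrauerPair p T H) :
    (Nat.card H : ℂ) * (Nat.card (bN M H b) : ℂ) =
      (Nat.card H : ℂ) * (blockRank p (bN M H b) : ℂ) +
      ∑ x : H, if x ≠ 1 ∧ ∃ k : ℕ, orderOf x = p ^ k then
        (Nat.card ↥(H ⊓ Cn (x : G)) : ℂ) * (blockRank p (bN M (H ⊓ Cn (x : G)) b) : ℂ) else 0 := by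
  classical
  haveI := isPrime_of_pModular hM
  rw [section_count hM bN_closed]
  congr 1
  refine Finset.sum_congr rfl fun x _ => ?_
  by_cases hx : x ≠ 1 ∧ ∃ k : ℕ, orderOf x = p ^ k
  · rw [if_pos hx, if_pos hx, ← blockMap_indU hM hP hx.2, blockRank_blockMap,
      Nat.card_congr (secEquiv H x).toEquiv]
  · rw [if_neg hx, if_neg hx]

theorem indU_eq_bN (hM : IsPModular p M) {b : Set (IrrCharacter G)} (hb : IsPBlock M b) (C : Subgroup G) :
    indU M C b = bN M C b := by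
  classical
  haveI := isPrime_of_pModular hM
  letI : Fintype C := Fintype.ofFinite _
  ext ξ
  constructor
  · rintro ⟨B, hB, hind⟩
    obtain ⟨ψ, hψ⟩ := isPBlock_nonempty hind.2.1
    have : B = b := by
      rw [isPBlock_eq_blockOf hind.2.1 hψ, ← isPBlock_eq_blockOf hb (hB hψ)]
    rw [this] at hind
    exact ⟨_, mem_blockOf_self ξ, hind⟩
  · rintro ⟨β, hξ, hind⟩
    rw [isPBlock_eq_blockOf hind.1 hξ] at hind
    exact ⟨b, le_rfl, hind⟩

/-- The Brauer pair of a chain. -/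
theorem isBrauerPair_chain {s : Finset (Subgroup G)} (hs : IsNChain p s) :
    ∃ T, Cfsg.Agent.Lib.Blocks.Induced.IsBrauerPair p T (chainNorm s) := by
  obtain ⟨-, -, hp, T, hT, hTs⟩ := hs
  refine ⟨T, (hp T hT).2, ?_, ?_, ?_⟩
  · exact le_chainNorm_iff.mpr fun Q hQ => (hTs Q hQ).2
  · refine le_chainNorm_iff.mpr fun Q hQ g hg => ?_
    refine mem_normalizer_of_commute fun u hu => ?_
    exact (Subgroup.mem_centralizer_iff.mp hg u ((hTs Q hQ).1 hu)).symm
  · exact le_chainNorm_iff.mp le_rfl T hT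

open Classical in
/-- The count for the whole group, in the integers. -/
theorem count_top (hM : IsPModular p M) {b : Set (IrrCharacter G)} (hb : IsPBlock M b) :
    (Nat.card G : ℤ) * ((Nat.card b : ℤ) - (blockRank p b : ℤ)) =
      ∑ x : G, if x ≠ 1 ∧ ∃ k : ℕ, orderOf x = p ^ k then
        (Nat.card (Cn x) : ℤ) * (blockRank p (bN M (Cn x) b) : ℤ) else 0 := by
  classical
  haveI := isPrime_of_pModular hM
  have h1 := section_count hM (isClosedB_of_isPBlock hb)
  simp only [indU_eq_bN hM hb] at h1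
  apply Int.cast_injective (α := ℂ)
  push_cast
  rw [mul_sub, h1]
  ring

open Classical in
/-- The count for a subgroup, in the integers. -/
theorem count_sub (hM : IsPModular p M) {b : Set (IrrCharacter G)} {H T : Subgroup G}
    (hP : Cfsg.Agent.Lib.Blocks.Induced.IsBrauerPair p T H) :
    (Nat.card H : ℤ) * ((Nat.card (bN M H b) : ℤ) - (blockRank p (bN M H b) : ℤ)) =
      ∑ x : G, if x ∈ H ∧ x ≠ 1 ∧ ∃ k : ℕ, orderOf x = p ^ k then
        (Nat.card ↥(H ⊓ Cn x) : ℤ) * (blockRank p (bN M (H ⊓ Cn x) b) : ℤ) else 0 := by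
  classical
  have h1 := section_count_bN hM (b := b) hP
  have h2 : (∑ x : G, if x ∈ H ∧ x ≠ 1 ∧ ∃ k : ℕ, orderOf x = p ^ k then
        (Nat.card ↥(H ⊓ Cn x) : ℤ) * (blockRank p (bN M (H ⊓ Cn x) b) : ℤ) else 0) =
      ∑ x : H, if x ≠ 1 ∧ ∃ k : ℕ, orderOf x = p ^ k then
        (Nat.card ↥(H ⊓ Cn (x : G)) : ℤ) * (blockRank p (bN M (H ⊓ Cn (x : G)) b) : ℤ) else 0 := by
    rw [sum_eq_sum_subgroup H _ (fun g hg => if_neg fun h => hg h.1)]
    refine Finset.sum_congr rfl fun x _ => ?_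
    have e : ((x : G) ∈ H ∧ (x : G) ≠ 1 ∧ ∃ k : ℕ, orderOf (x : G) = p ^ k) ↔
        (x ≠ 1 ∧ ∃ k : ℕ, orderOf x = p ^ k) := by
      rw [Subgroup.orderOf_coe]
      constructor
      · rintro ⟨-, h2, h3⟩
        exact ⟨fun h => h2 (by simp [h]), h3⟩
      · rintro ⟨h2, h3⟩
        exact ⟨x.2, fun h => h2 (Subtype.ext h), h3⟩
    simp only [e]
  rw [h2]
  apply Int.cast_injective (α := ℂ)
  push_cast
  rw [mul_sub, h1]
  ring

open Classical in
/-- **The alternating sum over chains.** -/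
theorem chain_formula (hM : IsPModular p M) {b : Set (IrrCharacter G)} (hb : IsPBlock M b) :
    (Nat.card G : ℤ) * ((Nat.card b : ℤ) - (blockRank p b : ℤ)) =
      ∑ᶠ s ∈ {s : Finset (Subgroup G) | IsNChain p s}, (-1 : ℤ) ^ (s.card - 1) *
        (Nat.card (chainNorm s) : ℤ) * ((Nat.card (bN M (chainNorm s) b) : ℤ) -
          (blockRank p (bN M (chainNorm s) b) : ℤ)) := by
  classical
  letI : Fintype (Subgroup G) := Fintype.ofFinite _
  set 𝒮 : Finset (Finset (Subgroup G)) := Finset.univ.filter (IsNChain p) with h𝒮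
  have h𝒮m : ∀ s, s ∈ 𝒮 ↔ IsNChain p s := fun s => by simp [h𝒮]
  have hset : {s : Finset (Subgroup G) | IsNChain p s} = (𝒮 : Set (Finset (Subgroup G))) := by
    ext s
    simp [h𝒮m]
  rw [hset, finsum_mem_coe_finset, count_top hM hb]
  set φ : Subgroup G → ℤ := fun L => (Nat.card L : ℤ) * (blockRank p (bN M L b) : ℤ) with hφ
  have hterm : ∀ s ∈ 𝒮, (-1 : ℤ) ^ (s.card - 1) * (Nat.card (chainNorm s) : ℤ) *
      ((Nat.card (bN M (chainNorm s) b) : ℤ) - (blockRank p (bN M (chainNorm s) b) : ℤ)) =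
      ∑ x : G, if x ∈ chainNorm s ∧ x ≠ 1 ∧ ∃ k : ℕ, orderOf x = p ^ k then
        (-1 : ℤ) ^ (s.card - 1) * φ (chainNorm s ⊓ Cn x) else 0 := by
    intro s hs
    obtain ⟨T, hT⟩ := isBrauerPair_chain ((h𝒮m s).mp hs)
    rw [mul_assoc, count_sub hM hT, Finset.mul_sum]
    refine Finset.sum_congr rfl fun x _ => ?_
    split_ifs
    · rfl
    · simp
  rw [Finset.sum_congr rfl hterm, Finset.sum_comm]
  refine Finset.sum_congr rfl fun x _ => ?_
  by_cases hx : x ≠ 1 ∧ ∃ k : ℕ, orderOf x = p ^ k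
  · rw [if_pos hx]
    have hc := Cfsg.Agent.Lib.Blocks.ChainEuler.comb 𝒮 h𝒮m hx.1 hx.2 φ
    change φ (Cn x) = _
    rw [← show _ = φ (Cn x) from hc, Finset.sum_filter]
    refine Finset.sum_congr rfl fun s _ => ?_
    by_cases hxs : x ∈ chainNorm s
    · rw [if_pos hxs, if_pos ⟨hxs, hx⟩]
    · rw [if_neg hxs, if_neg fun h => hxs h.1]
  · rw [if_neg hx]
    symm
    refine Finset.sum_eq_zero fun s _ => ?_
    rw [if_neg fun h => hx h.2]

end Main

end Cfsg.Agent.Lib.Blocks.ChainBlocks
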