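import Mathlib
import Cfsg.Agent.Lib.Blocks.Inducing
import Cfsg.Agent.Lib.BlockT.Inflate
import Cfsg.Agent.Lib.BlockP.Stable

/-!
# Blocks of quotient groups

`π : G → H` a surjective homomorphism.  Pushing central elements along `π`; the push of the idempotent
of a block of `G` is the idempotent of the union of the blocks of `H` inflating into it.  Defect groups
of these blocks lie in images of defect groups (and equal them for kernels that are `p`-groups).
-/

set_option linter.unusedSectionVars false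
set_option autoImplicit false
set_option linter.style.haveILetI false

namespace Cfsg.Agent.Lib.Blocks.Quot

open Cfsg MonoidAlgebra
open Cfsg.Agent.Lib.Blocks.Local Cfsg.Agent.Lib.Blocks.Central
open Cfsg.Agent.Lib.Blocks.Defect Cfsg.Agent.Lib.Blocks.Defect2
open Cfsg.Agent.Lib.Char.Basic Cfsg.Agent.Lib.Char.Ortho
open Cfsg.Agent.Lib.BlockT.SylowIn Cfsg.Agent.Lib.Blocks.Inducing
open scoped ComplexConjugate

universe u

variable {G H : Type u} [Group G] [Group H]

section Sylow

variable [Finite G] [Finite H] {p : ℕ} [hp : Fact p.Prime]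

theorem isSylowIn_map_of_not_dvd (π : G →* H) (hπ : Function.Surjective π) {P A X : Subgroup G}
    (hP : IsSylowIn p P A) (hAX : A ≤ X) (hnd : ¬ p ∣ A.relIndex X) {Y : Subgroup H}
    (hY : Y.comap π = X) : IsSylowIn p (P.map π) Y := by
  have hPA := hP.le
  have hle : P.map π ≤ Y := by
    rintro _ ⟨x, hx, rfl⟩
    have : x ∈ Y.comap π := hY ▸ hAX (hPA hx)
    exact this
  have hmapX : X.map π = Y := by
    rw [← hY, Subgroup.map_comap_eq_self_of_surjective hπ]
  have hPp : IsPGroup p (P.map π) := hP.isPGroup.map π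
  have hPpY : IsPGroup p ((P.map π).subgroupOf Y) :=
    hPp.comap_of_injective _ (Subgroup.subtype_injective _)
  have hcomap : (P.map π).comap π ≤ X := by
    rw [← hY]
    exact Subgroup.comap_mono hle
  have h1 : (P.map π).relIndex Y ∣ P.relIndex X := by
    have h2 := Subgroup.relIndex_comap (P.map π) π X
    rw [hmapX] at h2
    rw [← h2]
    have h3 := Subgroup.relIndex_mul_relIndex P ((P.map π).comap π) X
      (Subgroup.le_comap_map π P) hcomap
    exact ⟨_, by rw [← h3, mul_comm]⟩
  have h4 : ¬ p ∣ P.relIndex X := by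
    rw [← Subgroup.relIndex_mul_relIndex P A X hPA hAX]
    intro h
    rcases (Nat.Prime.dvd_mul hp.out).mp h with h | h
    · obtain ⟨S, rfl⟩ := hP
      apply S.not_dvd_index
      have e : ((S : Subgroup A).map A.subtype).relIndex A = (S : Subgroup A).index := by
        rw [Subgroup.relIndex, Subgroup.subgroupOf, Subgroup.comap_map_eq_self_of_injective
          (Subgroup.subtype_injective _)]
      rwa [e] at h
    · exact hnd h
  have h5 : ¬ p ∣ ((P.map π).subgroupOf Y).index := fun h => h4 (h.trans h1)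
  refine ⟨hPpY.toSylow h5, ?_⟩
  rw [IsPGroup.toSylow_coe]
  exact Subgroup.map_subgroupOf_eq_of_le hle

end Sylow

section Char

variable [Finite G] [Finite H]

/-- The subgroup of elements centralizing `g` modulo the kernel. -/
def cenMod (π : G →* H) (g : G) : Subgroup G := (Subgroup.centralizer ({π g} : Set H)).comap π

theorem centralizer_le_cenMod (π : G →* H) (g : G) :
    Subgroup.centralizer ({g} : Set G) ≤ cenMod π g := by
  intro x hx
  rw [Subgroup.mem_centralizer_singleton_iff] at hx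
  change π x ∈ Subgroup.centralizer ({π g} : Set H)
  rw [Subgroup.mem_centralizer_singleton_iff, ← map_mul, hx, map_mul]

/-- The central character of an inflated character. -/
theorem centralChar_comp (π : G →* H) (hπ : Function.Surjective π) (χ : H → ℂ) (g : G) :
    centralChar (χ ∘ π) g =
      ((Subgroup.centralizer ({g} : Set G)).relIndex (cenMod π g) : ℂ) * centralChar χ (π g) := by
  have h1 := Subgroup.relIndex_mul_index (centralizer_le_cenMod π g)
  have h2 : (cenMod π g).index = (Subgroup.centralizer ({π g} : Set H)).index :=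
    Subgroup.index_comap_of_surjective _ hπ
  rw [centralChar, centralChar, ← h1, h2]
  simp only [Function.comp_apply, map_one]
  push_cast
  ring

end Char

section Push

variable [Fintype G] [Fintype H] (π : G →* H) (hπ : Function.Surjective π)

/-- The push of an element of the group algebra. -/
noncomputable def push (x : GA G) : GA H := by
  classical
  exact ofFun fun w => ∑ y : G, if π y = w then x.coeff y else 0

theorem coeff_push [DecidableEq H] (x : GA G) (w : H) :
    (push π x).coeff w = ∑ y : G, if π y = w then x.coeff y else 0 := by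
  simp only [push, coeff_ofFun]
  refine Finset.sum_congr rfl fun y _ => ?_
  congr

theorem sum_push_mul (x : GA G) (F : H → ℂ) :
    ∑ w : H, (push π x).coeff w * F w = ∑ y : G, x.coeff y * F (π y) := by
  classical
  simp only [coeff_push, Finset.sum_mul]
  rw [Finset.sum_comm]
  refine Finset.sum_congr rfl fun y _ => ?_
  rw [Finset.sum_eq_single (π y)]
  · simp
  · intro w _ hw
    rw [if_neg (Ne.symm hw), zero_mul]
  · simp

include hπ in
theorem isCentral_push {x : GA G} (hx : IsCentral x) : IsCentral (push π x) := by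
  classical
  intro w t
  obtain ⟨g, rfl⟩ := hπ t
  rw [coeff_push, coeff_push]
  rw [← Equiv.sum_comp (MulAut.conj g).toEquiv]
  refine Finset.sum_congr rfl fun y _ => ?_
  have e : (MulAut.conj g).toEquiv y = g * y * g⁻¹ := by simp
  rw [e]
  have h2 : π (g * y * g⁻¹) = π g * w * (π g)⁻¹ ↔ π y = w := by
    simp only [map_mul, map_inv]
    constructor
    · intro hc
      exact mul_left_cancel (mul_right_cancel hc)
    · intro hc
      rw [hc]
  simp only [h2, hx y g]

/-- The push of a central element. -/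
noncomputable def pushC (z : Subalgebra.center ℂ (GA G)) : Subalgebra.center ℂ (GA H) :=
  ⟨push π (z : GA G), (mem_center_iff _).mpr (isCentral_push π hπ (isCentral_of_mem z))⟩

/-- Inflation of irreducible characters. -/
noncomputable def inflI (χ : IrrCharacter H) : IrrCharacter G :=
  ⟨(χ : H → ℂ) ∘ π, Cfsg.Agent.Lib.Char.Conj.isIrrCharacter_comp π hπ χ.2⟩

theorem omegaHom_pushC (z : Subalgebra.center ℂ (GA G)) (χ : IrrCharacter H) :
    omegaHom χ (pushC π hπ z) = omegaHom (inflI π hπ χ) z := by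
  rw [omegaHom_apply, omegaHom_apply, lin_apply, lin_apply]
  have h1 : ((inflI π hπ χ : IrrCharacter G) : G → ℂ) 1 = (χ : H → ℂ) 1 := by
    change (χ : H → ℂ) (π 1) = _
    rw [map_one]
  rw [h1]
  congr 1
  exact sum_push_mul π _ _

variable [Fintype (IrrCharacter G)] [Fintype (IrrCharacter H)]

theorem pushC_idem (B : Set (IrrCharacter G)) :
    pushC π hπ (idem B) = idem ((inflI π hπ) ⁻¹' B) := by
  classical
  apply omegaHom_injective
  intro χ
  rw [omegaHom_pushC, omegaHom_idem, omegaHom_idem]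
  simp only [Set.mem_preimage]

theorem blockCoeff_preimage [DecidableEq H] (B : Set (IrrCharacter G)) (w : H) :
    blockCoeff ((inflI π hπ) ⁻¹' B) w = ∑ y : G, if π y = w then blockCoeff B y else 0 := by
  have h1 := congrArg (fun z : Subalgebra.center ℂ (GA H) => (z : GA H).coeff w) (pushC_idem π hπ B)
  simp only [coeff_idem] at h1
  rw [← h1]
  exact coeff_push π _ w

variable {M : Ideal AlgInt} [hMp : M.IsPrime]

/-- The characters inflating into a block form a union of blocks. -/
theorem blockOf_subset_preimage {B : Set (IrrCharacter G)} (hB : IsPBlock M B)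
    {ψ : IrrCharacter H} (hψ : ψ ∈ (inflI π hπ) ⁻¹' B) :
    blockOf M (ψ : H → ℂ) ⊆ (inflI π hπ) ⁻¹' B := by
  intro ψ' hψ'
  have hs : SameBlock M ((ψ : H → ℂ) ∘ π) ((ψ' : H → ℂ) ∘ π) :=
    Cfsg.Agent.Lib.BlockT.Inflate.sameBlock_comp π hπ (isClassFunction_of_isIrrCharacter ψ.2)
      (isClassFunction_of_isIrrCharacter ψ'.2) hψ'
  have h1 : B = blockOf M (((inflI π hπ ψ : IrrCharacter G)) : G → ℂ) :=
    isPBlock_eq_blockOf hB hψ
  show inflI π hπ ψ' ∈ B
  rw [h1]
  exact hs

/-- A coefficient of a union of blocks is the sum of the coefficients of the blocks. -/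
theorem exists_block_coeff_notMem {A : Set (IrrCharacter H)}
    (hA : ∀ ψ ∈ A, blockOf M (ψ : H → ℂ) ⊆ A) {w : H}
    (hw : ¬ MemLocalIdeal M (blockCoeff A w)) :
    ∃ S : Set (IrrCharacter H), IsPBlock M S ∧ S ⊆ A ∧ ¬ MemLocalIdeal M (blockCoeff S w) := by
  classical
  letI : Fintype {S : Set (IrrCharacter H) // IsPBlock M S ∧ S ⊆ A} := Fintype.ofFinite _
  have key : blockCoeff A w = ∑ S : {S : Set (IrrCharacter H) // IsPBlock M S ∧ S ⊆ A},
      blockCoeff S.1 w := by
    simp only [blockCoeff_eq_sum]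
    rw [← Finset.mul_sum, Finset.sum_comm]
    congr 1
    refine Fintype.sum_congr _ _ fun ψ => ?_
    by_cases hψ : ψ ∈ A
    · rw [if_pos hψ, Finset.sum_eq_single ⟨blockOf M (ψ : H → ℂ), ⟨ψ, rfl⟩, hA ψ hψ⟩]
      · rw [if_pos (mem_blockOf_self ψ)]
      · intro S _ hS
        rw [if_neg]
        intro hmem
        apply hS
        apply Subtype.ext
        exact (isPBlock_eq_blockOf S.2.1 hmem)
      · intro h
        exact absurd (Finset.mem_univ _) h
    · rw [if_neg hψ]
      symm
      refine Finset.sum_eq_zero fun S _ => ?_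
      rw [if_neg fun h => hψ (S.2.2 h)]
  rw [key] at hw
  obtain ⟨S, -, hS⟩ := exists_notMem_of_sum_notMem _ _ hw
  exact ⟨S.1, S.2.1, S.2.2, hS⟩

end Push

section Main

variable [Fintype G] [Fintype H] (π : G →* H) (hπ : Function.Surjective π)
  [Fintype (IrrCharacter G)] [Fintype (IrrCharacter H)] {M : Ideal AlgInt} [hMp : M.IsPrime]
  {p : ℕ} [hp : Fact p.Prime]

/-- **The image of a defect group of the big block contains the defect group.** -/
theorem exists_defect_map_ge (hM : IsPModular p M) {Bb : Set (IrrCharacter H)} (hBb : IsPBlock M Bb)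
    {B : Set (IrrCharacter G)} (hB : IsPBlock M B) (hsub : ∀ χ ∈ Bb, inflI π hπ χ ∈ B)
    {Db : Subgroup H} (hDb : IsDefectGroup p M Bb Db) :
    ∃ P : Subgroup G, IsDefectGroup p M B P ∧ Db ≤ P.map π := by
  classical
  obtain ⟨χ, hχ⟩ := isPBlock_nonempty hBb
  obtain ⟨g, hg⟩ := exists_isDefectClass hB
  have hχB := hsub χ hχ
  have h1 := hg.2.2 _ hχB
  have h2 : centralChar (((inflI π hπ χ : IrrCharacter G)) : G → ℂ) g =
      ((Subgroup.centralizer ({g} : Set G)).relIndex (cenMod π g) : ℂ) *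
        centralChar (χ : H → ℂ) (π g) := centralChar_comp π hπ _ g
  rw [h2] at h1
  have hint : MemLocalRing M (centralChar (χ : H → ℂ) (π g)) :=
    memLocalRing_of_isIntegral (isIntegral_centralChar χ _)
  have h3 : ¬ MemLocalIdeal M (centralChar (χ : H → ℂ) (π g)) := fun h =>
    h1 (memLocalIdeal_mul_left (by exact_mod_cast memLocalRing_natCast _) h)
  have h4 : ¬ p ∣ (Subgroup.centralizer ({g} : Set G)).relIndex (cenMod π g) := by
    rintro ⟨m, hm⟩
    apply h1
    rw [hm]
    push_cast
    rw [mul_assoc]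
    exact memLocalIdeal_mul_right (p_memLocalIdeal hM) (memLocalRing_mul
      (by exact_mod_cast memLocalRing_natCast _) hint)
  obtain ⟨P₁, hP₁⟩ : ∃ P₁, IsSylowIn p P₁ (Subgroup.centralizer ({g} : Set G)) := by
    obtain ⟨S⟩ : Nonempty (Sylow p (Subgroup.centralizer ({g} : Set G))) := inferInstance
    exact ⟨_, S, rfl⟩
  have hP₁d : IsDefectGroup p M B P₁ := isDefectGroup_of_isSylowIn hg hP₁
  have hS := isSylowIn_map_of_not_dvd π hπ hP₁ (centralizer_le_cenMod π g) h4 rfl
  obtain ⟨yb, hyb, hs⟩ := isDefectGroup_isSylowIn hDb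
  obtain ⟨w, hw⟩ := minmax_le hM hBb hχ h3 hyb.2.1 hS hs.isPGroup hs.le
  obtain ⟨x, rfl⟩ := hπ w
  refine ⟨P₁.map (MulAut.conj x).toMonoidHom, isDefectGroup_conj hP₁d x, ?_⟩
  refine hw.trans ?_
  rintro _ ⟨_, ⟨y, hy, rfl⟩, rfl⟩
  exact ⟨x * y * x⁻¹, ⟨y, hy, rfl⟩, by simp⟩

include hπ in
/-- A `p'`-element is determined by its image, when it centralizes a `p`-kernel. -/
theorem eq_of_map_eq_of_coprime (hker : IsPGroup p π.ker) {g y : G} (hg : ¬ p ∣ orderOf g)
    (hgN : ∀ n ∈ π.ker, n * g = g * n) (hy : π y = π g) (hyo : ¬ p ∣ orderOf y) : y = g := by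
  have hn : g⁻¹ * y ∈ π.ker := by
    rw [MonoidHom.mem_ker, map_mul, map_inv, hy, inv_mul_cancel]
  set n := g⁻¹ * y with hndef
  have hy' : y = g * n := by rw [hndef]; group
  have hc : Commute g n := (hgN n hn).symm
  have hcy : Commute g y := by
    rw [hy']
    exact (Commute.refl g).mul_right hc
  have h1 : n ^ (orderOf y * orderOf g) = 1 := by
    have h2 : n = g⁻¹ * y := hndef
    have h3 : Commute g⁻¹ y := hcy.inv_left
    have h8 : g⁻¹ ^ (orderOf y * orderOf g) = 1 := by
      rw [pow_mul', inv_pow, pow_orderOf_eq_one]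
      simp
    have h9 : y ^ (orderOf y * orderOf g) = 1 := by
      rw [pow_mul, pow_orderOf_eq_one, one_pow]
    rw [h2, h3.mul_pow, h8, h9, one_mul]
  obtain ⟨k, hk⟩ := IsPGroup.iff_orderOf.mp hker ⟨n, hn⟩
  have h4 : orderOf n ∣ orderOf y * orderOf g := orderOf_dvd_of_pow_eq_one h1
  have h5 : orderOf n = p ^ k := by
    rw [← hk]
    simp
  have h6 : k = 0 := by
    by_contra hk0
    have h7 : p ∣ orderOf n := by
      rw [h5]
      exact dvd_pow_self p hk0
    rcases (Nat.Prime.dvd_mul hp.out).mp (h7.trans h4) with h | h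
    · exact hyo h
    · exact hg h
  rw [h6, pow_zero, orderOf_eq_one_iff] at h5
  rw [hy', h5, mul_one]

include hπ in
theorem cenMod_eq (hker : IsPGroup p π.ker) {g : G} (hg : ¬ p ∣ orderOf g)
    (hgN : ∀ n ∈ π.ker, n * g = g * n) :
    cenMod π g = Subgroup.centralizer ({g} : Set G) := by
  apply le_antisymm _ (centralizer_le_cenMod π g)
  intro t ht
  have h1 : π t * π g = π g * π t :=
    (Subgroup.mem_centralizer_singleton_iff.mp (show π t ∈ Subgroup.centralizer ({π g} : Set H) from ht))
  have h2 : π (t * g * t⁻¹) = π g := by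
    rw [map_mul, map_mul, map_inv, h1]
    group
  have h3 : orderOf (t * g * t⁻¹) = orderOf g := by
    have : t * g * t⁻¹ = MulAut.conj t g := rfl
    rw [this]
    exact orderOf_injective (MulAut.conj t).toMonoidHom (MulEquiv.injective _) g
  have h4 := eq_of_map_eq_of_coprime π hπ hker hg hgN h2 (by rwa [h3])
  rw [Subgroup.mem_centralizer_singleton_iff]
  calc t * g = (t * g * t⁻¹) * t := by group
    _ = g * t := by rw [h4]

/-- **A block with the images as defect groups.** -/
theorem exists_block_map (hM : IsPModular p M) (hker : IsPGroup p π.ker) {B : Set (IrrCharacter G)}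
    (hB : IsPBlock M B) :
    ∃ Bb : Set (IrrCharacter H), IsPBlock M Bb ∧ (∀ χ ∈ Bb, inflI π hπ χ ∈ B) ∧
      ∀ Db : Subgroup H, IsDefectGroup p M Bb Db ↔
        ∃ P : Subgroup G, IsDefectGroup p M B P ∧ Db = P.map π := by
  classical
  obtain ⟨g, hg⟩ := exists_isDefectClass hB
  have hgo : ¬ p ∣ orderOf g := fun h =>
    hg.2.1 (by rw [Cfsg.Agent.Lib.BlockP.Stable.blockCoeff_eq_zero hM hB h]; exact memLocalIdeal_zero)
  obtain ⟨P₀, hP₀⟩ : ∃ P₁, IsSylowIn p P₁ (Subgroup.centralizer ({g} : Set G)) := by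
    obtain ⟨S⟩ : Nonempty (Sylow p (Subgroup.centralizer ({g} : Set G))) := inferInstance
    exact ⟨_, S, rfl⟩
  have hP₀d : IsDefectGroup p M B P₀ := isDefectGroup_of_isSylowIn hg hP₀
  have hkerle : π.ker ≤ P₀ := normal_le_defect hM hB hP₀d inferInstance hker
  have hgN : ∀ n ∈ π.ker, n * g = g * n := fun n hn =>
    Subgroup.mem_centralizer_singleton_iff.mp (hP₀.le (hkerle hn))
  have hcen := cenMod_eq π hπ hker hgo hgN
  have hcoeff : blockCoeff ((inflI π hπ) ⁻¹' B) (π g) = blockCoeff B g := by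
    rw [blockCoeff_preimage, Finset.sum_eq_single g]
    · simp
    · intro y _ hy
      split_ifs with h
      · apply Cfsg.Agent.Lib.BlockP.Stable.blockCoeff_eq_zero hM hB
        by_contra hyo
        exact hy (eq_of_map_eq_of_coprime π hπ hker hgo hgN h hyo)
      · rfl
    · simp
  obtain ⟨Bb, hBb, hsub, hBbc⟩ := exists_block_coeff_notMem (M := M)
    (A := (inflI π hπ) ⁻¹' B) (w := π g) (fun ψ hψ => blockOf_subset_preimage π hπ hB hψ)
    (by rw [hcoeff]; exact hg.2.1)
  have hrel : (Subgroup.centralizer ({g} : Set G)).relIndex (cenMod π g) = 1 := by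
    rw [hcen]
    exact Subgroup.relIndex_self _
  have hcl : IsDefectClass M Bb (π g) := by
    refine ⟨idem_mem_localCenter hBb _, hBbc, fun χ hχ => ?_⟩
    have h1 := hg.2.2 _ (hsub hχ)
    have h2 : centralChar (((inflI π hπ χ : IrrCharacter G)) : G → ℂ) g =
        ((Subgroup.centralizer ({g} : Set G)).relIndex (cenMod π g) : ℂ) *
          centralChar (χ : H → ℂ) (π g) := centralChar_comp π hπ _ g
    rw [h2, hrel] at h1
    simpa using h1
  have hS : IsSylowIn p (P₀.map π) (Subgroup.centralizer ({π g} : Set H)) :=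
    isSylowIn_map_of_not_dvd π hπ hP₀ (centralizer_le_cenMod π g)
      (by rw [hrel]; exact hp.out.one_lt.ne' ∘ Nat.dvd_one.mp) rfl
  have hDb₀ : IsDefectGroup p M Bb (P₀.map π) := isDefectGroup_of_isSylowIn hcl hS
  refine ⟨Bb, hBb, fun χ hχ => hsub hχ, fun Db => ⟨fun hDb => ?_, ?_⟩⟩
  · obtain ⟨w, rfl⟩ := isDefectGroup_exists_conj_eq hM hBb hDb₀ hDb
    obtain ⟨x, rfl⟩ := hπ w
    refine ⟨P₀.map (MulAut.conj x).toMonoidHom, isDefectGroup_conj hP₀d x, ?_⟩
    ext u
    constructor
    · rintro ⟨_, ⟨y, hy, rfl⟩, rfl⟩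
      exact ⟨x * y * x⁻¹, ⟨y, hy, rfl⟩, by simp⟩
    · rintro ⟨_, ⟨y, hy, rfl⟩, rfl⟩
      exact ⟨π y, ⟨y, hy, rfl⟩, by simp⟩
  · rintro ⟨P, hP, rfl⟩
    obtain ⟨x, rfl⟩ := isDefectGroup_exists_conj_eq hM hB hP₀d hP
    have h1 := isDefectGroup_conj hDb₀ (π x)
    convert h1 using 1
    ext u
    constructor
    · rintro ⟨_, ⟨y, hy, rfl⟩, rfl⟩
      exact ⟨π y, ⟨y, hy, rfl⟩, by simp⟩
    · rintro ⟨_, ⟨y, hy, rfl⟩, rfl⟩
      exact ⟨x * y * x⁻¹, ⟨y, hy, rfl⟩, by simp⟩

end Main

end Cfsg.Agent.Lib.Blocks.Quot
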