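import Mathlib
import Cfsg.Agent.Lib.Blocks.Quot
import Cfsg.Agent.Lib.BlockH.Regular

/-!
# Domination when the `p'`-elements centralize the kernel (S4571)

`π : G → H` surjective with kernel a `p`-group centralized by all `p'`-elements.  Then `π` is a
bijection on `p`-regular elements, a block of `G` contains the inflation of at most one block of `H`,
and the principal blocks have the same `p`-regular rank.
-/

set_option linter.unusedSectionVars false
set_option autoImplicit false
set_option linter.style.haveILetI false

namespace Cfsg.Agent.Lib.Blocks.DomRank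

open Cfsg MonoidAlgebra
open Cfsg.Agent.Lib.Blocks.Local Cfsg.Agent.Lib.Blocks.Central
open Cfsg.Agent.Lib.Blocks.Weak Cfsg.Agent.Lib.Blocks.Quot
open Cfsg.Agent.Lib.Char.Basic Cfsg.Agent.Lib.Char.Ortho
open Cfsg.Agent.Lib.BlockH.Regular
open scoped ComplexConjugate

universe u

variable {G H : Type u} [Group G] [Group H] [Fintype G] [Fintype H] {p : ℕ} [hp : Fact p.Prime]
  (π : G →* H) (hπ : Function.Surjective π)
  (hker : IsPGroup p π.ker)
  (hcomm : ∀ s : G, ¬ p ∣ orderOf s → ∀ q ∈ π.ker, Commute q s)

theorem orderOf_conj' {K : Type*} [Group K] (t g : K) : orderOf (t * g * t⁻¹) = orderOf g :=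
  orderOf_injective (MulAut.conj t).toMonoidHom (MulEquiv.injective _) g

theorem not_dvd_map {g : G} (hg : ¬ p ∣ orderOf g) : ¬ p ∣ orderOf (π g) :=
  fun h => hg (h.trans (orderOf_map_dvd π g))

include hker hcomm in
/-- `π` is injective on regular elements. -/
theorem eq_of_map_eq {s s' : G} (hs : ¬ p ∣ orderOf s) (hs' : ¬ p ∣ orderOf s') (h : π s = π s') :
    s = s' := by
  have hq : s' * s⁻¹ ∈ π.ker := by
    rw [MonoidHom.mem_ker, map_mul, map_inv, ← h, mul_inv_cancel]
  obtain ⟨n, hn⟩ := hker ⟨_, hq⟩
  have hn' : (s' * s⁻¹) ^ (p ^ n) = 1 := by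
    have := congrArg Subtype.val hn
    simpa using this
  have hc := hcomm s hs _ hq
  have hord : orderOf (s' * s⁻¹) ∣ p ^ n := orderOf_dvd_of_pow_eq_one hn'
  obtain ⟨j, -, hj⟩ := (Nat.dvd_prime_pow hp.out).mp hord
  have hcop : Nat.Coprime (orderOf (s' * s⁻¹)) (orderOf s) := by
    rw [hj]
    exact Nat.Coprime.pow_left _ ((Nat.Prime.coprime_iff_not_dvd hp.out).mpr hs)
  have hmul := hc.orderOf_mul_eq_mul_orderOf_of_coprime hcop
  have e : s' * s⁻¹ * s = s' := by group
  rw [e] at hmul
  have hj0 : j = 0 := by
    by_contra hj0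
    apply hs'
    rw [hmul, hj]
    exact Dvd.dvd.mul_right (dvd_pow_self p hj0) _
  rw [hj0, pow_zero, orderOf_eq_one_iff] at hj
  exact (mul_inv_eq_one.mp hj).symm

include hπ in
/-- Regular elements lift to regular elements. -/
theorem exists_regular_lift {h : H} (hh : ¬ p ∣ orderOf h) : ∃ s : G, ¬ p ∣ orderOf s ∧ π s = h := by
  obtain ⟨g, rfl⟩ := hπ h
  obtain ⟨x, y, hxy, hc, ⟨k, hk⟩, hy⟩ := Cfsg.Agent.Lib.Blocks.PPart.exists_isPPart (p := p) g
  refine ⟨y, hy, ?_⟩
  have hc' : Commute (π x) (π y) := hc.map π
  have hy' : ¬ p ∣ orderOf (π y) := not_dvd_map π hy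
  have hord : orderOf (π x) ∣ p ^ k := by
    rw [← hk]
    exact orderOf_map_dvd π x
  obtain ⟨j, -, hj⟩ := (Nat.dvd_prime_pow hp.out).mp hord
  have hcop : Nat.Coprime (orderOf (π x)) (orderOf (π y)) := by
    rw [hj]
    exact Nat.Coprime.pow_left _ ((Nat.Prime.coprime_iff_not_dvd hp.out).mpr hy')
  have hmul := hc'.orderOf_mul_eq_mul_orderOf_of_coprime hcop
  rw [← map_mul, hxy] at hmul
  have hj0 : j = 0 := by
    by_contra hj0
    apply hh
    rw [hmul, hj]
    exact Dvd.dvd.mul_right (dvd_pow_self p hj0) _
  rw [hj0, pow_zero, orderOf_eq_one_iff] at hj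
  rw [← hxy, map_mul, hj, one_mul]

include hπ hker hcomm in
/-- Sums over regular elements. -/
theorem sum_regular_map (F : H → ℂ) :
    (∑ s : G, if ¬ p ∣ orderOf s then F (π s) else 0) =
      ∑ h : H, if ¬ p ∣ orderOf h then F h else 0 := by
  classical
  rw [← Finset.sum_filter, ← Finset.sum_filter]
  refine Finset.sum_bij (fun s _ => π s) ?_ ?_ ?_ ?_
  · intro s hs
    simp only [Finset.mem_filter, Finset.mem_univ, true_and] at hs ⊢
    exact not_dvd_map π hs
  · intro s hs s' hs' h
    simp only [Finset.mem_filter, Finset.mem_univ, true_and] at hs hs'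
    exact eq_of_map_eq π hker hcomm hs hs' h
  · intro h hh
    simp only [Finset.mem_filter, Finset.mem_univ, true_and] at hh
    obtain ⟨s, hs, rfl⟩ := exists_regular_lift π hπ hh
    exact ⟨s, by simp [hs], rfl⟩
  · intro s _
    rfl

section Blocks

variable [Fintype (IrrCharacter G)] [Fintype (IrrCharacter H)] {M : Ideal AlgInt}

include hπ hker hcomm in
/-- **A block of `G` contains inflations from at most one block of `H`.** -/
theorem sameBlock_of_comp (hM : IsPModular p M) {χ ψ : IrrCharacter H}
    (h : SameBlock M ((χ : H → ℂ) ∘ π) ((ψ : H → ℂ) ∘ π)) :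
    SameBlock M (χ : H → ℂ) (ψ : H → ℂ) := by
  classical
  haveI := isPrime_of_pModular hM
  by_contra hne
  set B : Set (IrrCharacter H) := blockOf M (χ : H → ℂ) with hB
  have hBb : IsPBlock M B := ⟨χ, rfl⟩
  have hχ : χ ∈ B := mem_blockOf_self χ
  have hψ : ψ ∉ B := hne
  -- the central lift of the idempotent
  let f : G → ℂ := fun g => if ¬ p ∣ orderOf g then blockCoeff B (π g) else 0
  have hfc : IsCentral (ofFun f) := by
    intro g t
    simp only [coeff_ofFun, f]
    have e1 : orderOf (t * g * t⁻¹) = orderOf g :=
      orderOf_conj' t g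
    rw [e1, map_mul, map_mul, map_inv, blockCoeff_conj_invariant]
  let z : Subalgebra.center ℂ (GA G) := ⟨ofFun f, (mem_center_iff _).mpr hfc⟩
  have hz : z ∈ localCenter M G := by
    intro g
    change MemLocalRing M (f g)
    simp only [f]
    by_cases hg : ¬ p ∣ orderOf g
    · rw [if_pos hg]
      exact (idem_mem_localCenter hBb) (π g)
    · rw [if_neg hg]
      exact memLocalRing_zero
  have hpush : pushC π hπ z = idem B := by
    apply Subtype.ext
    ext w
    change (push π (ofFun f)).coeff w = blockCoeff B w
    rw [coeff_push]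
    by_cases hw : ¬ p ∣ orderOf w
    · obtain ⟨s, hs, rfl⟩ := exists_regular_lift π hπ hw
      rw [Finset.sum_eq_single s]
      · simp [f, hs]
      · intro y _ hy
        by_cases hy1 : π y = π s
        · rw [if_pos hy1]
          simp only [coeff_ofFun, f]
          rw [if_neg]
          intro hyr
          exact hy (eq_of_map_eq π hker hcomm hyr hs hy1)
        · rw [if_neg hy1]
      · simp
    · rw [Cfsg.Agent.Lib.BlockP.Stable.blockCoeff_eq_zero hM hBb (not_not.mp hw)]
      refine Finset.sum_eq_zero fun y _ => ?_
      split_ifs with hy1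
      · simp only [coeff_ofFun, f]
        rw [if_neg]
        intro hyr
        apply hw
        rw [← hy1]
        exact not_dvd_map π hyr
      · rfl
  have h1 : omegaHom (inflI π hπ χ) z = 1 := by
    rw [← omegaHom_pushC, hpush, omegaHom_idem, if_pos hχ]
  have h2 : omegaHom (inflI π hπ ψ) z = 0 := by
    rw [← omegaHom_pushC, hpush, omegaHom_idem, if_neg hψ]
  have h3 := omegaHom_sub_mem_of_sameBlock (χ := inflI π hπ χ) (ψ := inflI π hπ ψ) h hz
  rw [h1, h2, sub_zero] at h3
  exact one_notMemLocalIdeal h3

end Blocks

section Pull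

theorem part_reg {K : Type u} [Group K] {f : K → ℂ} {s : K} (hs : ¬ p ∣ orderOf s) :
    pRegularPart p f s = f s := by
  unfold pRegularPart
  exact if_pos hs

theorem part_sing {K : Type u} [Group K] {f : K → ℂ} {s : K} (hs : ¬ ¬ p ∣ orderOf s) :
    pRegularPart p f s = 0 := by
  unfold pRegularPart
  exact if_neg hs

/-- Pull-back of a function to the regular elements. -/
noncomputable def pull (p : ℕ) (π : G →* H) : (H → ℂ) →ₗ[ℂ] (G → ℂ) where
  toFun f := fun g => if ¬ p ∣ orderOf g then f (π g) else 0
  map_add' f f' := by
    ext g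
    by_cases hg : p ∣ orderOf g <;> simp [hg]
  map_smul' c f := by
    ext g
    by_cases hg : p ∣ orderOf g <;> simp [hg]

theorem pull_apply (f : H → ℂ) (g : G) :
    pull p π f g = if ¬ p ∣ orderOf g then f (π g) else 0 := rfl

theorem pull_part (f : H → ℂ) : pull p π (pRegularPart p f) = pRegularPart p (f ∘ π) := by
  ext g
  rw [pull_apply]
  by_cases hg : ¬ p ∣ orderOf g
  · rw [if_pos hg, part_reg hg,
      part_reg (not_dvd_map π hg)]
    rfl
  · rw [if_neg hg, part_sing hg]

end Pull

section Main

variable [Fintype (IrrCharacter G)] [Fintype (IrrCharacter H)] {M : Ideal AlgInt}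

/-- The span of the regular parts of a set. -/
noncomputable abbrev spanReg (p : ℕ) {K : Type u} [Group K] (B : Set (IrrCharacter K)) : Submodule ℂ (K → ℂ) :=
  Submodule.span ℂ ((fun χ : IrrCharacter K => pRegularPart p (χ : K → ℂ)) '' B)

theorem spanReg_sing {K : Type u} [Group K] {B : Set (IrrCharacter K)} {f : K → ℂ}
    (hf : f ∈ spanReg p B) {h : K} (hh : ¬ ¬ p ∣ orderOf h) : f h = 0 := by
  induction hf using Submodule.span_induction with
  | zero => rfl
  | add a b _ _ ha hb =>
    rw [Pi.add_apply, ha, hb, add_zero]
  | smul c a _ ha =>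
    rw [Pi.smul_apply, ha, smul_zero]
  | mem a ha =>
    obtain ⟨χ, -, rfl⟩ := ha
    exact part_sing hh

include hπ hker hcomm in
/-- **S4571.** -/
theorem blockRank_eq (hM : IsPModular p M) :
    blockRank p (principalBlock M G) = blockRank p (principalBlock M H) := by
  classical
  haveI := isPrime_of_pModular hM
  set UG := spanReg p (principalBlock M G) with hUG
  set UH := spanReg p (principalBlock M H) with hUH
  -- the image
  have hmap : UH.map (pull p π) = UG := by
    apply le_antisymm
    · rw [hUH, spanReg, Submodule.map_span, Submodule.span_le]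
      rintro _ ⟨_, ⟨χ, hχ, rfl⟩, rfl⟩
      apply Submodule.subset_span
      refine ⟨inflI π hπ χ, ?_, ?_⟩
      · have : SameBlock M ((fun _ : H => (1 : ℂ)) ∘ π) ((χ : H → ℂ) ∘ π) :=
          Cfsg.Agent.Lib.BlockT.Inflate.sameBlock_comp π hπ
            (isClassFunction_of_isIrrCharacter (Cfsg.Agent.Lib.Blocks.Third.oneI H).2)
            (isClassFunction_of_isIrrCharacter χ.2) hχ
        exact this
      · simp only
        rw [pull_part]
        rfl
    · rw [hUG, spanReg, Submodule.span_le]
      rintro _ ⟨χ, hχ, rfl⟩
      simp only [SetLike.mem_coe]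
      -- the function on `H`
      choose! lift hlift hlift' using fun h : H => fun hh : ¬ p ∣ orderOf h =>
        exists_regular_lift π hπ hh
      let f : H → ℂ := fun h => if ¬ p ∣ orderOf h then (χ : G → ℂ) (lift h) else 0
      have hχcl := isClassFunction_of_isIrrCharacter χ.2
      have hf : IsClassFunction H f := by
        intro h t
        simp only [f]
        have e1 : orderOf (t * h * t⁻¹) = orderOf h :=
          orderOf_conj' t h
        rw [e1]
        by_cases hh : ¬ p ∣ orderOf h
        · rw [if_pos hh, if_pos hh]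
          obtain ⟨t', rfl⟩ := hπ t
          have hh' : ¬ p ∣ orderOf (π t' * h * (π t')⁻¹) := by rwa [e1]
          have e2 : lift (π t' * h * (π t')⁻¹) = t' * lift h * t'⁻¹ := by
            apply eq_of_map_eq π hker hcomm (hlift _ hh')
            · have e3 : orderOf (t' * lift h * t'⁻¹) = orderOf (lift h) :=
                orderOf_conj' t' (lift h)
              rw [e3]
              exact hlift _ hh
            · rw [hlift' _ hh', map_mul, map_mul, map_inv, hlift' _ hh]
          rw [e2, hχcl]
        · rw [if_neg hh, if_neg hh]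
      have hfpull : pull p π f = pRegularPart p (χ : G → ℂ) := by
        ext g
        rw [pull_apply]
        by_cases hg : ¬ p ∣ orderOf g
        · rw [if_pos hg, part_reg hg]
          simp only [f]
          rw [if_pos (not_dvd_map π hg)]
          have : lift (π g) = g := by
            apply eq_of_map_eq π hker hcomm (hlift _ (not_dvd_map π hg)) hg
            exact hlift' _ (not_dvd_map π hg)
          rw [this]
        · rw [if_neg hg, part_sing hg]
      have hfmem : f ∈ UH := by
        have hexp := Cfsg.Agent.Lib.Char.Complete.classFunction_eq_sum hf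
        have hf2 : f = pRegularPart p f := by
          ext h
          by_cases hh : ¬ p ∣ orderOf h
          · rw [part_reg hh]
          · rw [part_sing hh]
            simp only [f]
            rw [if_neg hh]
        have hsum : f = ∑ ψ : IrrCharacter H, classInner f (ψ : H → ℂ) • pRegularPart p (ψ : H → ℂ) := by
          ext h
          by_cases hh : ¬ p ∣ orderOf h
          · conv_lhs => rw [hexp]
            simp only [Finset.sum_apply, Pi.smul_apply]
            refine Fintype.sum_congr _ _ fun ψ => ?_
            rw [part_reg hh]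
          · simp only [Finset.sum_apply, Pi.smul_apply]
            have : f h = 0 := by
              simp only [f]
              rw [if_neg hh]
            rw [this]
            symm
            refine Finset.sum_eq_zero fun ψ _ => ?_
            rw [part_sing hh, smul_zero]
        rw [hsum]
        refine Submodule.sum_mem _ fun ψ _ => ?_
        by_cases hψ : ψ ∈ principalBlock M H
        · exact Submodule.smul_mem _ _ (Submodule.subset_span ⟨ψ, hψ, rfl⟩)
        · -- the inner product vanishes
          have hzero : classInner f (ψ : H → ℂ) = 0 := by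
            rw [classInner]
            have h1 : ∀ h : H, f h * conj ((ψ : H → ℂ) h) =
                if ¬ p ∣ orderOf h then (χ : G → ℂ) (lift h) * conj ((ψ : H → ℂ) h) else 0 := by
              intro h
              simp only [f]
              split_ifs <;> simp
            rw [Fintype.sum_congr _ _ h1,
              ← sum_regular_map π hπ hker hcomm (fun h => (χ : G → ℂ) (lift h) * conj ((ψ : H → ℂ) h))]
            have h2 : ∀ s : G, (if ¬ p ∣ orderOf s then (χ : G → ℂ) (lift (π s)) * conj ((ψ : H → ℂ) (π s)) else 0) =
                if ¬ p ∣ orderOf s then (χ : G → ℂ) s * conj (((ψ : H → ℂ) ∘ π) s) else 0 := by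
              intro s
              by_cases hs : ¬ p ∣ orderOf s
              · rw [if_pos hs, if_pos hs]
                have : lift (π s) = s := by
                  apply eq_of_map_eq π hker hcomm (hlift _ (not_dvd_map π hs)) hs
                  exact hlift' _ (not_dvd_map π hs)
                rw [this]
                rfl
              · rw [if_neg hs, if_neg hs]
            rw [Fintype.sum_congr _ _ h2]
            have h3 := sum_regular_eq_zero (χ := χ) (ψ := inflI π hπ ψ) (p := p) hM (by
              intro hs
              apply hψ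
              have h4 : SameBlock M ((fun _ : H => (1 : ℂ)) ∘ π) ((ψ : H → ℂ) ∘ π) :=
                sameBlock_trans hχ hs
              exact sameBlock_of_comp π hπ hker hcomm hM
                (χ := Cfsg.Agent.Lib.Blocks.Third.oneI H) (ψ := ψ) h4)
            change (∑ x : G, if ¬ p ∣ orderOf x then (χ : G → ℂ) x * conj (((ψ : H → ℂ) ∘ π) x) else 0) = 0 at h3
            rw [h3, mul_zero]
          rw [hzero, zero_smul]
          exact Submodule.zero_mem _
      rw [← hfpull]
      exact ⟨f, hfmem, rfl⟩
  -- injectivity
  have hinj : Function.Injective ((pull p π).domRestrict UH) := by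
    rw [← LinearMap.ker_eq_bot, LinearMap.ker_eq_bot']
    rintro ⟨f, hf⟩ h0
    apply Subtype.ext
    ext h
    by_cases hh : ¬ p ∣ orderOf h
    · obtain ⟨s, hs, rfl⟩ := exists_regular_lift π hπ hh
      have := congrFun h0 s
      rw [LinearMap.domRestrict_apply, pull_apply, if_pos hs] at this
      exact this
    · exact spanReg_sing hf hh
  have h1 := LinearMap.finrank_range_of_inj hinj
  rw [LinearMap.range_domRestrict, hmap] at h1
  exact h1

end Main

end Cfsg.Agent.Lib.Blocks.DomRank
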