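import Mathlib
import Cfsg.Agent.Lib.Blocks.FR2
import Cfsg.Agent.Lib.Blocks.Inducing
import Cfsg.Agent.Lib.BlockH.Transport
import Cfsg.Agent.Lib.BlockH.BrauerMap

/-!
# Stable blocks of normal subgroups all of whose covering idempotents live on the subgroup

`N ⊴ G`, `N ≤ T`, `b` a block of `N` stabilized by `T`.  If the block idempotents of `T` are supported
on `N`, the idempotent of `b` is the idempotent of the unique block of `T` covering `b`; each defect
class of that block is a defect class of `b`, and the `p`-parts of the centralizers differ by the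
`p`-part of `[T : N]`.
-/

set_option linter.unusedSectionVars false
set_option autoImplicit false
set_option linter.style.haveILetI false

namespace Cfsg.Agent.Lib.Blocks.Stable

open Cfsg MonoidAlgebra
open Cfsg.Agent.Lib.Blocks.Local Cfsg.Agent.Lib.Blocks.Central Cfsg.Agent.Lib.Blocks.Brauer
open Cfsg.Agent.Lib.Blocks.Induced Cfsg.Agent.Lib.Blocks.Heights
open Cfsg.Agent.Lib.Char.Basic Cfsg.Agent.Lib.Char.Ortho Cfsg.Agent.Lib.Char.Complete
open Cfsg.Agent.Lib.Char.Induced Cfsg.Agent.Lib.Char.IndRep Cfsg.Agent.Lib.Char.Clifford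
open Cfsg.Agent.Lib.Char.Conj Cfsg.Agent.Lib.Char.CliffordCorr
open Cfsg.Agent.Lib.BlockH.MaxPair Cfsg.Agent.Lib.BlockH.StabBlock Cfsg.Agent.Lib.BlockH.BrauerMap
open Cfsg.Agent.Lib.BlockH.Transport
open Cfsg.Agent.Lib.BlockT.Normal Cfsg.Agent.Lib.Blocks.ExtFMT Cfsg.Agent.Lib.Blocks.FR
open Cfsg.Agent.Lib.Blocks.FR2
open scoped ComplexConjugate

universe u

variable {G : Type u} [Group G] [Fintype G] [Fintype (IrrCharacter G)] {N : Subgroup G} {hN : N.Normal} [Fintype N]
  [Fintype (IrrCharacter N)] {M : Ideal AlgInt} [hMp : M.IsPrime]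
  {T : Subgroup G} [Fintype T] [Fintype (IrrCharacter T)] {b : Set (IrrCharacter N)}

/-- A `T`-invariant function on `N` has equal central values on `ψ` and on a constituent of `ψ|_N`. -/
theorem I_of_sameBlock' {K : Type*} [Group K] [Fintype K] {E : Subalgebra.center ℂ (GA K)}
    (hEl : E ∈ localCenter M K) {ψ₁ ψ₂ : IrrCharacter K} (hEE : E * E = E)
    (h : SameBlock M (ψ₁ : K → ℂ) (ψ₂ : K → ℂ)) (hψ₁ : omegaHom ψ₁ E = 1) : omegaHom ψ₂ E = 1 := by
  rcases omegaHom_eq_zero_or_one hEE ψ₂ with h2 | h2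
  · have h3 := omegaHom_sub_mem_of_sameBlock h hEl
    rw [hψ₁, h2, sub_zero] at h3
    exact absurd h3 one_notMemLocalIdeal
  · exact h2

/-- A `T`-invariant function on `N` has equal central values on `ψ` and on a constituent of `ψ|_N`. -/
theorem sum_mul_eq_of_res (hN : N.Normal) (hNT : N ≤ T) (ψ : IrrCharacter T) (θ : IrrCharacter N)
    (hcon : classInner (res hNT (ψ : T → ℂ)) (θ : N → ℂ) ≠ 0) (a : N → ℂ)
    (ha : ∀ (t : T) (n n' : N), (n' : G) = t * n * t⁻¹ → a n' = a n) :
    (∑ n : N, a n * (ψ : T → ℂ) ⟨n, hNT n.2⟩) / (ψ : T → ℂ) 1 =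
      (∑ n : N, a n * (θ : N → ℂ) n) / (θ : N → ℂ) 1 := by
  classical
  let N₁ : Subgroup T := N.subgroupOf T
  have hN₁ : N₁.Normal := hN.subgroupOf T
  let σ : N₁ ≃* N := Subgroup.subgroupOfEquivOfLe hNT
  letI : Fintype N₁ := Fintype.ofFinite _
  let θ₁ : IrrCharacter N₁ := irrMap σ.symm θ
  have hθ₁ : ∀ n : N₁, (θ₁ : N₁ → ℂ) n = (θ : N → ℂ) (σ n) := fun n => by
    show (irrMap σ.symm θ : N₁ → ℂ) n = _
    rw [irrMap_apply]
    simp
  have hres : ∀ n : N₁, (ψ : T → ℂ) n = res hNT (ψ : T → ℂ) (σ n) := fun n => by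
    show _ = (ψ : T → ℂ) ⟨σ n, hNT (σ n).2⟩
    congr 1
  have hcon₁ : classInner (fun n : N₁ => (ψ : T → ℂ) n) (θ₁ : N₁ → ℂ) ≠ 0 := by
    intro h0
    apply hcon
    rw [classInner] at h0 ⊢
    have hc : Nat.card N₁ = Nat.card N := Nat.card_congr σ.toEquiv
    rw [hc] at h0
    rw [← h0]
    congr 1
    refine (Fintype.sum_equiv σ.toEquiv _ _ fun n => ?_).symm
    simp only [hθ₁, hres]
    rfl
  let a₁ : N₁ → ℂ := fun n => a (σ n)
  have ha₁ : ∀ (t : T) (n : N₁), a₁ ⟨t * n * t⁻¹, hN₁.conj_mem n n.2 t⟩ = a₁ n := by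
    intro t n
    apply ha t
    show (((t * n * t⁻¹ : T) : G)) = _
    simp only [Subgroup.coe_mul, Subgroup.coe_inv]
    rfl
  have h := sum_mul_eq_of_constituent hN₁ ψ.2 θ₁.2 hcon₁ a₁ ha₁
  have h1 : ∑ n : N₁, a₁ n * (ψ : T → ℂ) n = ∑ n : N, a n * (ψ : T → ℂ) ⟨n, hNT n.2⟩ := by
    refine Fintype.sum_equiv σ.toEquiv _ _ fun n => ?_
    rw [hres n]
    rfl
  have h2 : ∑ n : N₁, a₁ n * (θ₁ : N₁ → ℂ) n = ∑ n : N, a n * (θ : N → ℂ) n := by
    refine Fintype.sum_equiv σ.toEquiv _ _ fun n => ?_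
    rw [hθ₁ n]
    rfl
  have h3 : (θ₁ : N₁ → ℂ) 1 = (θ : N → ℂ) 1 := by
    rw [hθ₁, map_one]
  rw [h1, h2, h3] at h
  exact h

/-- **The idempotent of a stable block** is the idempotent of a block of `T` when the blocks of `T` are
supported on `N`. -/
theorem idem_eq_eT (hb : IsPBlock M b) (hNT : N ≤ T) (hS : IsStab hN b T) {ψ : IrrCharacter T}
    (hψ : omegaHom ψ (eT hN b hS) = 1)
    (hsupp : ∀ t : T, (t : G) ∉ N → blockCoeff (blockOf M (ψ : T → ℂ)) t = 0) :
    idem (blockOf M (ψ : T → ℂ)) = eT hN b hS := by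
  classical
  have hEE := eT_mul_self (T := T) hNT hS
  have hEl := eT_mem_localCenter (M := M) (T := T) hb hS
  have h1 := idem_mul_E hEl hEE hψ
  set e := idem (blockOf M (ψ : T → ℂ)) with he
  set E := eT hN b hS with hE
  have heB : IsPBlock M (blockOf M (ψ : T → ℂ)) := ⟨ψ, rfl⟩
  have hq : QInv N (incl T (e : GA T)) := fun q hq g =>
    incl_conj_of_mem (isCentral_of_mem e) q (hNT hq) g
  let y₀ : Subalgebra.center ℂ (GA N) := restrC N hq
  have hy_incl : incl N (y₀ : GA N) = incl T (e : GA T) := by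
    ext g
    by_cases hg : g ∈ N
    · rw [coeff_incl_of_mem N _ hg]
      rfl
    · rw [coeff_incl_of_notMem N _ hg]
      by_cases hgT : g ∈ T
      · rw [coeff_incl_of_mem T _ hgT, he, coeff_idem, hsupp ⟨g, hgT⟩ hg]
      · rw [coeff_incl_of_notMem T _ hgT]
  have hup : up T (y₀ : GA N) = (e : GA T) := by
    ext t
    rw [coeff_up, hy_incl, coeff_incl_coe]
  have hyy : y₀ * y₀ = y₀ := by
    apply Subtype.ext
    apply incl_injective' N
    rw [Subalgebra.coe_mul, incl_mul, hy_incl, ← incl_mul, ← Subalgebra.coe_mul, he,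
      Cfsg.Agent.Lib.Blocks.Green.idem_mul_self]
  have hyl : y₀ ∈ localCenter M N := restrC_mem_localCenter N hq
    (Rc.incl T (Rc.of_localCenter (idem_mem_localCenter heB)))
  obtain ⟨θ₀, hθ₀⟩ := isPBlock_nonempty hb
  have hsame : ∀ θ ∈ b, SameBlock M (θ₀ : N → ℂ) (θ : N → ℂ) := by
    intro θ hθ
    rw [isPBlock_eq_blockOf hb hθ₀] at hθ
    exact hθ
  have hupmul : up T ((y₀ * idem b : Subalgebra.center ℂ (GA N)) : GA N) = ((e * E : _) : GA T) := by
    rw [Subalgebra.coe_mul, up_mul hNT, hup]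
    rfl
  rcases omegaHom_eq_zero_or_one hyy θ₀ with h0 | h0
  · exfalso
    have hall : ∀ θ ∈ b, omegaHom θ y₀ = 0 := by
      intro θ hθ
      rcases omegaHom_eq_zero_or_one hyy θ with h2 | h2
      · exact h2
      · have := I_of_sameBlock' hyl hyy (sameBlock_symm (hsame θ hθ)) h2
        rw [h0] at this
        exact absurd this zero_ne_one
    have hz : y₀ * idem b = 0 := by
      apply eq_zero_of_omegaHom_eq_zero
      intro θ
      rw [map_mul, omegaHom_idem]
      split_ifs with h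
      · rw [hall θ h, mul_one]
      · rw [mul_zero]
    rw [hz] at hupmul
    have h3 : ((e * E : _) : GA T) = 0 := by
      rw [← hupmul]
      exact up_zero
    have h4 : e = 0 := by
      rw [← h1]
      exact Subtype.ext h3
    have h5 := congrArg (omegaHom ψ) h4
    rw [he, omegaHom_idem, if_pos (mem_blockOf_self ψ), map_zero] at h5
    exact one_ne_zero h5
  · have hall : ∀ θ ∈ b, omegaHom θ y₀ = 1 := fun θ hθ => I_of_sameBlock' hyl hyy (hsame θ hθ) h0
    have hz : y₀ * idem b = idem b := by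
      apply omegaHom_injective
      intro θ
      rw [map_mul, omegaHom_idem]
      split_ifs with h
      · rw [hall θ h, mul_one]
      · rw [mul_zero]
    rw [hz] at hupmul
    have h3 : e * E = E := by
      apply Subtype.ext
      rw [← hupmul]
      rfl
    rw [← h1, h3]

/-- **Defect classes of the block over a stable block**: a defect class of the block of `T` lies in `N`, is a
defect class of `b`, and its `T`-class is the union of `m` classes of `N` with `p ∤ m`. -/
theorem defect_class_of_stable {p : ℕ} [Fact p.Prime] (hM : IsPModular p M) (hb : IsPBlock M b)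
    (hNT : N ≤ T) (hS : IsStab hN b T) {ψ : IrrCharacter T} (hψ : omegaHom ψ (eT hN b hS) = 1)
    (hsupp : ∀ t : T, (t : G) ∉ N → blockCoeff (blockOf M (ψ : T → ℂ)) t = 0) {y : T}
    (hy : IsDefectClass M (blockOf M (ψ : T → ℂ)) y) :
    ∃ (hyN : (y : G) ∈ N) (m : ℕ), ¬ p ∣ m ∧ IsDefectClass M b ⟨y, hyN⟩ ∧
      (Subgroup.centralizer ({y} : Set T)).index =
        m * (Subgroup.centralizer ({(⟨y, hyN⟩ : N)} : Set N)).index := by
  classical
  have hidem := idem_eq_eT hb hNT hS hψ hsupp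
  have hco : ∀ t : T, blockCoeff (blockOf M (ψ : T → ℂ)) t =
      (incl N ((idem b : Subalgebra.center ℂ (GA N)) : GA N)).coeff t := by
    intro t
    rw [← coeff_idem, hidem, coe_eT, coeff_up]
  have hyN : (y : G) ∈ N := by
    by_contra h
    have := hy.2.1
    rw [hsupp y h] at this
    exact this memLocalIdeal_zero
  let y₀ : N := ⟨y, hyN⟩
  have hcob : blockCoeff (blockOf M (ψ : T → ℂ)) y = blockCoeff b y₀ := by
    rw [hco y, coeff_incl_of_mem N _ hyN, coeff_idem]
  obtain ⟨θ, hθb, hθcon⟩ := (omega_eT_eq_one_iff hNT hS ψ).mp hψ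
  let ι : N → T := fun n => ⟨n, hNT n.2⟩
  have hι : Function.Injective ι := fun a c h => Subtype.ext (congrArg (fun t : T => (t : G)) h)
  let S : Finset N := Finset.univ.filter (fun n => IsConj y (ι n))
  have hSmem : ∀ n, n ∈ S ↔ IsConj y (ι n) := fun n => by simp [S]
  have hconjN : ∀ t : T, ∃ n : N, ι n = t * y * t⁻¹ := fun t =>
    ⟨⟨t * y * t⁻¹, by
      simpa using hN.conj_mem _ hyN (t : G)⟩, rfl⟩
  have himg : Finset.univ.filter (IsConj y) = S.image ι := by
    ext t
    simp only [Finset.mem_filter, Finset.mem_univ, true_and, Finset.mem_image, hSmem]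
    constructor
    · intro h
      obtain ⟨c, hc⟩ := isConj_iff.mp h
      obtain ⟨n, hn⟩ := hconjN c
      exact ⟨n, by rw [hn]; exact isConj_iff.mpr ⟨c, rfl⟩, by rw [hn, hc]⟩
    · rintro ⟨n, h, rfl⟩
      exact h
  have hcard : S.card = (Subgroup.centralizer ({y} : Set T)).index := by
    rw [← Cfsg.Agent.Lib.Char.Central.card_filter_isConj y, himg,
      Finset.card_image_of_injective _ hι]
  let a : N → ℂ := fun n => if n ∈ S then 1 else 0
  have ha : ∀ (t : T) (n n' : N), (n' : G) = t * n * t⁻¹ → a n' = a n := by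
    intro t n n' h
    have h1 : ι n' = t * ι n * t⁻¹ := Subtype.ext h
    have h2 : n' ∈ S ↔ n ∈ S := by
      rw [hSmem, hSmem, h1]
      exact ⟨fun h3 => h3.trans (isConj_iff.mpr ⟨t, rfl⟩).symm,
        fun h3 => h3.trans (isConj_iff.mpr ⟨t, rfl⟩)⟩
    simp only [a, h2]
  have hsum := sum_mul_eq_of_res hN hNT ψ θ hθcon a ha
  have hθ1 := irr_one_ne_zero θ.2
  have hψ1 := irr_one_ne_zero ψ.2
  have hL : (∑ n : N, a n * (ψ : T → ℂ) ⟨n, hNT n.2⟩) / (ψ : T → ℂ) 1 =
      centralChar (ψ : T → ℂ) y := by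
    have h1 : ∑ n : N, a n * (ψ : T → ℂ) ⟨n, hNT n.2⟩ = ∑ n ∈ S, (ψ : T → ℂ) y := by
      rw [← Finset.sum_filter_add_sum_filter_not Finset.univ (· ∈ S)]
      rw [add_comm, Finset.sum_eq_zero, zero_add]
      · have : Finset.univ.filter (· ∈ S) = S := by ext; simp
        rw [this]
        refine Finset.sum_congr rfl fun n hn => ?_
        have h2 : a n = 1 := if_pos hn
        rw [h2, one_mul]
        obtain ⟨c, hc⟩ := isConj_iff.mp ((hSmem n).mp hn)
        have : (⟨n, hNT n.2⟩ : T) = c * y * c⁻¹ := hc.symm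
        rw [this]
        exact isClassFunction_of_isIrrCharacter ψ.2 _ _
      · intro n hn
        have h2 : a n = 0 := if_neg (by simpa using hn)
        rw [h2, zero_mul]
    rw [h1, Finset.sum_const, nsmul_eq_mul, hcard, centralChar]
  have hR : (∑ n : N, a n * (θ : N → ℂ) n) / (θ : N → ℂ) 1 = ∑ n ∈ S, (θ : N → ℂ) n / (θ : N → ℂ) 1 := by
    rw [Finset.sum_div]
    rw [← Finset.sum_filter_add_sum_filter_not Finset.univ (· ∈ S)]
    rw [add_comm, Finset.sum_eq_zero, zero_add]
    · have : Finset.univ.filter (· ∈ S) = S := by ext; simp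
      rw [this]
      refine Finset.sum_congr rfl fun n hn => ?_
      have h2 : a n = 1 := if_pos hn
      rw [h2, one_mul]
    · intro n hn
      have h2 : a n = 0 := if_neg (by simpa using hn)
      rw [h2, zero_mul, zero_div]
  rw [hL, hR] at hsum
  -- Partition
  let π : N → ConjClasses N := ConjClasses.mk
  let I : Finset (ConjClasses N) := S.image π
  have hmaps : ∀ n ∈ S, π n ∈ I := fun n hn => Finset.mem_image_of_mem π hn
  have hfib : ∀ C ∈ I, ∃ n₁ ∈ S, ∃ t : T, (n₁ : G) = t * y * t⁻¹ ∧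
      S.filter (fun n => π n = C) = Finset.univ.filter (IsConj n₁) := by
    intro C hC
    obtain ⟨n₁, hn₁, rfl⟩ := Finset.mem_image.mp hC
    obtain ⟨c, hc⟩ := isConj_iff.mp ((hSmem n₁).mp hn₁)
    refine ⟨n₁, hn₁, c, (congrArg (fun t : T => (t : G)) hc).symm, ?_⟩
    ext n
    simp only [Finset.mem_filter, Finset.mem_univ, true_and]
    constructor
    · rintro ⟨-, h⟩
      exact ConjClasses.mk_eq_mk_iff_isConj.mp h.symm
    · intro h
      refine ⟨?_, (ConjClasses.mk_eq_mk_iff_isConj.mpr h).symm⟩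
      rw [hSmem]
      obtain ⟨u, hu⟩ := isConj_iff.mp h
      refine ((hSmem n₁).mp hn₁).trans (isConj_iff.mpr ⟨⟨u, hNT u.2⟩, ?_⟩)
      apply Subtype.ext
      exact congrArg (fun t : N => (t : G)) hu
  have hcentral : ∀ C ∈ I, MemLocalIdeal M
      ((∑ n ∈ S.filter (fun n => π n = C), (θ : N → ℂ) n / (θ : N → ℂ) 1) -
        centralChar (θ : N → ℂ) y₀) ∧
      (S.filter (fun n => π n = C)).card = (Subgroup.centralizer ({y₀} : Set N)).index := by
    intro C hC
    obtain ⟨n₁, hn₁, t, htn, hF⟩ := hfib C hC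
    have he : n₁ = conjEquiv hN (t : G) y₀ := Subtype.ext (by rw [htn, coe_conjEquiv]; simp [y₀])
    have hidx : (Subgroup.centralizer ({n₁} : Set N)).index =
        (Subgroup.centralizer ({y₀} : Set N)).index := by
      rw [he]
      exact index_centralizer_map _ _
    rw [hF]
    refine ⟨?_, by rw [Cfsg.Agent.Lib.Char.Central.card_filter_isConj, hidx]⟩
    have h1 : ∑ n ∈ Finset.univ.filter (IsConj n₁), (θ : N → ℂ) n / (θ : N → ℂ) 1 =
        centralChar (θ : N → ℂ) n₁ := by
      have h2 : ∀ n ∈ Finset.univ.filter (IsConj n₁),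
          (θ : N → ℂ) n / (θ : N → ℂ) 1 = (θ : N → ℂ) n₁ / (θ : N → ℂ) 1 := by
        intro n hn
        obtain ⟨c, hc⟩ := isConj_iff.mp (Finset.mem_filter.mp hn).2
        rw [← hc, isClassFunction_of_isIrrCharacter θ.2]
      rw [Finset.sum_congr rfl h2, Finset.sum_const, nsmul_eq_mul,
        Cfsg.Agent.Lib.Char.Central.card_filter_isConj, centralChar]
      ring
    rw [h1, he, ← centralChar_comp, ← conjOn_eq_comp]
    have hθt : conjIrr hN (t : G) θ ∈ b := (hS t).mp t.2 θ hθb
    have hs : SameBlock M (θ : N → ℂ) (conjIrr hN (t : G) θ : N → ℂ) := by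
      have := hθt
      rw [isPBlock_eq_blockOf hb hθb] at this
      exact this
    exact memLocalIdeal_sub_comm (hs y₀)
  have hsumI : ∑ n ∈ S, (θ : N → ℂ) n / (θ : N → ℂ) 1 =
      ∑ C ∈ I, ∑ n ∈ S.filter (fun n => π n = C), (θ : N → ℂ) n / (θ : N → ℂ) 1 :=
    (Finset.sum_fiberwise_of_maps_to hmaps _).symm
  have hdiff : MemLocalIdeal M (centralChar (ψ : T → ℂ) y - (I.card : ℂ) * centralChar (θ : N → ℂ) y₀) := by
    have h1 := memLocalIdeal_sum (M := M) I (fun C => (∑ n ∈ S.filter (fun n => π n = C),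
      (θ : N → ℂ) n / (θ : N → ℂ) 1) - centralChar (θ : N → ℂ) y₀) (fun C hC => (hcentral C hC).1)
    rw [Finset.sum_sub_distrib, ← hsumI, ← hsum, Finset.sum_const, nsmul_eq_mul] at h1
    exact h1
  have hcardI : S.card = I.card * (Subgroup.centralizer ({y₀} : Set N)).index := by
    rw [Finset.card_eq_sum_card_fiberwise hmaps, Finset.sum_congr rfl (fun C hC => (hcentral C hC).2),
      Finset.sum_const, smul_eq_mul]
  have hψB : ψ ∈ blockOf M (ψ : T → ℂ) := mem_blockOf_self ψ
  have hψn : ¬ MemLocalIdeal M (centralChar (ψ : T → ℂ) y) := hy.2.2 ψ hψB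
  have hcloc : MemLocalRing M (centralChar (θ : N → ℂ) y₀) :=
    memLocalRing_of_isIntegral (isIntegral_centralChar θ y₀)
  have hprod : ¬ MemLocalIdeal M ((I.card : ℂ) * centralChar (θ : N → ℂ) y₀) := by
    intro h
    apply hψn
    have := memLocalIdeal_add hdiff h
    simpa using this
  refine ⟨hyN, I.card, ?_, ⟨?_, ?_, ?_⟩, ?_⟩
  · intro hdvd
    apply hprod
    exact memLocalIdeal_mul_right ((natCast_memLocalIdeal_iff hM _).mpr hdvd) hcloc
  · rw [← hcob]
    exact hy.1
  · rw [← hcob]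
    exact hy.2.1
  · intro θ' hθ'
    have hθn : ¬ MemLocalIdeal M (centralChar (θ : N → ℂ) y₀) := fun h =>
      hprod (memLocalIdeal_mul_left (memLocalRing_natCast _) h)
    intro h
    apply hθn
    have hs : SameBlock M (θ : N → ℂ) (θ' : N → ℂ) := by
      rw [isPBlock_eq_blockOf hb hθb] at hθ'
      exact hθ'
    have := memLocalIdeal_add (hs y₀) h
    rwa [sub_add_cancel] at this
  · rw [← hcard, hcardI]

/-- The order relation for the defect class. -/
theorem card_centralizer_mul {y : T} (hyN : (y : G) ∈ N) (hNT : N ≤ T) {m : ℕ}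
    (h : (Subgroup.centralizer ({y} : Set T)).index =
        m * (Subgroup.centralizer ({(⟨y, hyN⟩ : N)} : Set N)).index) :
    Nat.card (Subgroup.centralizer ({y} : Set T)) * m =
      Nat.card (Subgroup.centralizer ({(⟨y, hyN⟩ : N)} : Set N)) * N.relIndex T := by
  have h1 := Subgroup.card_mul_index (Subgroup.centralizer ({y} : Set T))
  have h2 := Subgroup.card_mul_index (Subgroup.centralizer ({(⟨y, hyN⟩ : N)} : Set N))
  have h3 : Nat.card N * N.relIndex T = Nat.card T := by
    have := Subgroup.card_mul_index (N.subgroupOf T)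
    rw [Nat.card_congr (Subgroup.subgroupOfEquivOfLe hNT).toEquiv] at this
    exact this
  set A := Nat.card (Subgroup.centralizer ({y} : Set T))
  set B := Nat.card (Subgroup.centralizer ({(⟨y, hyN⟩ : N)} : Set N))
  set i := (Subgroup.centralizer ({(⟨y, hyN⟩ : N)} : Set N)).index
  rw [h] at h1
  have hi : i ≠ 0 := by
    intro h0
    rw [h0, mul_zero] at h2
    exact Nat.card_pos.ne' h2.symm
  apply Nat.eq_of_mul_eq_mul_right (Nat.pos_of_ne_zero hi)
  calc A * m * i = A * (m * i) := by ring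
    _ = Nat.card T := h1
    _ = Nat.card N * N.relIndex T := h3.symm
    _ = B * i * N.relIndex T := by rw [h2]
    _ = B * N.relIndex T * i := by ring

end Cfsg.Agent.Lib.Blocks.Stable
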