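import Mathlib
import Cfsg.Agent.Lib.Blocks.Stable
import Cfsg.Agent.Lib.BlockT.Fong
import Cfsg.Agent.Lib.BlockP.Stable

/-!
# Stable blocks of normal subgroups of `p`-power index
-/

set_option linter.unusedSectionVars false
set_option autoImplicit false
set_option linter.style.haveILetI false

namespace Cfsg.Agent.Lib.Blocks.PIndex

open Cfsg MonoidAlgebra
open Cfsg.Agent.Lib.Blocks.Local Cfsg.Agent.Lib.Blocks.Central Cfsg.Agent.Lib.Blocks.Brauer
open Cfsg.Agent.Lib.Blocks.Induced Cfsg.Agent.Lib.Blocks.Defect Cfsg.Agent.Lib.Blocks.Defect2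
open Cfsg.Agent.Lib.Char.Basic Cfsg.Agent.Lib.Char.Ortho Cfsg.Agent.Lib.Char.Complete
open Cfsg.Agent.Lib.Char.Induced Cfsg.Agent.Lib.BlockT.NormalP Cfsg.Agent.Lib.BlockT.Fong
open Cfsg.Agent.Lib.BlockH.BrauerMap Cfsg.Agent.Lib.BlockH.StabBlock
open Cfsg.Agent.Lib.BlockT.Normal Cfsg.Agent.Lib.Blocks.FR2
open Cfsg.Agent.Lib.BlockT.SylowIn Cfsg.Agent.Lib.Blocks.Stable
open scoped ComplexConjugate

universe u

variable {G : Type u} [Group G] [Fintype G] {M : Ideal AlgInt} [hMp : M.IsPrime]
  {N : Subgroup G} (hN : N.Normal) [Fintype N] [Fintype (IrrCharacter N)]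
  [Fintype (IrrCharacter G)] {c : Set (IrrCharacter N)}

include hN in
/-- `p`-regular elements lie in a normal subgroup of `p`-power index. -/
theorem mem_of_coprime {p k : ℕ} [hp : Fact p.Prime] (hNi : N.index = p ^ k) {g : G} (hg : ¬ p ∣ orderOf g) :
    g ∈ N := by
  haveI : N.Normal := hN
  have h1 : g ^ (p ^ k) ∈ N := by
    rw [← hNi]
    exact Subgroup.pow_index_mem N g
  have hco : Nat.Coprime (p ^ k) (orderOf g) :=
    Nat.Coprime.pow_left k ((Nat.Prime.coprime_iff_not_dvd hp.out).mpr hg)
  obtain ⟨a, ha⟩ := exists_pow_eq_self_of_coprime hco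
  rw [← ha]
  exact Subgroup.pow_mem _ h1 a

/-- The idempotent of a `G`-stable block, when all idempotents of blocks of `G` live on `N`. -/
theorem blockOf_eq_covers (hinv : IsInv hN c) (hc : IsPBlock M c) {χ : IrrCharacter G}
    (hχ : χ ∈ covers N c)
    (hsupp : ∀ g, g ∉ N → blockCoeff (blockOf M (χ : G → ℂ)) g = 0) :
    blockOf M (χ : G → ℂ) = covers N c := by
  classical
  have hsub := blockOf_subset_covers hN hinv hc hχ
  set B := blockOf M (χ : G → ℂ) with hB
  have hBb : IsPBlock M B := ⟨χ, rfl⟩
  set e := idem B with he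
  have hq : QInv N ((e : Subalgebra.center ℂ (GA G)) : GA G) := QInv.of_central (isCentral_of_mem _)
  let y₀ : Subalgebra.center ℂ (GA N) := restrC N hq
  have hy_incl : incl N (y₀ : GA N) = (e : GA G) := by
    ext g
    by_cases hg : g ∈ N
    · rw [coeff_incl_of_mem N _ hg]
      rfl
    · rw [coeff_incl_of_notMem N _ hg, he, coeff_idem, hsupp g hg]
  have hyy : y₀ * y₀ = y₀ := by
    apply Subtype.ext
    apply incl_injective' N
    rw [Subalgebra.coe_mul, incl_mul, hy_incl, ← Subalgebra.coe_mul]
    congr 1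
    exact Cfsg.Agent.Lib.Blocks.Green.idem_mul_self B
  have hyl : y₀ ∈ localCenter M N := restrC_mem_localCenter N hq
    (Rc.of_localCenter (idem_mem_localCenter hBb))
  have hEcoe : ∀ g, (incl N ((idem c : Subalgebra.center ℂ (GA N)) : GA N)).coeff g =
      ((idem (covers N c) : Subalgebra.center ℂ (GA G)) : GA G).coeff g := by
    intro g
    rw [coeff_idem, blockCoeff_covers hN hinv hc g]
    by_cases hg : g ∈ N
    · rw [coeff_incl_of_mem N _ hg, extendByZero_of_mem N _ hg, coeff_idem]
    · rw [coeff_incl_of_notMem N _ hg, extendByZero_of_not_mem N _ hg]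
  have hE : incl N ((idem c : Subalgebra.center ℂ (GA N)) : GA N) =
      ((idem (covers N c) : Subalgebra.center ℂ (GA G)) : GA G) := by
    ext g
    exact hEcoe g
  have hincl : incl N (((y₀ * idem c : Subalgebra.center ℂ (GA N))) : GA N) =
      ((e * idem (covers N c) : Subalgebra.center ℂ (GA G)) : GA G) := by
    rw [Subalgebra.coe_mul, incl_mul, hy_incl, hE]
    rfl
  have heE : e * idem (covers N c) = e := by
    apply omegaHom_injective
    intro ψ
    rw [map_mul, he, omegaHom_idem, omegaHom_idem]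
    by_cases hψ : ψ ∈ B
    · rw [if_pos hψ, if_pos (hsub hψ), one_mul]
    · rw [if_neg hψ, zero_mul]
  obtain ⟨θ₀, hθ₀⟩ := isPBlock_nonempty hc
  have hsame : ∀ θ ∈ c, SameBlock M (θ₀ : N → ℂ) (θ : N → ℂ) := by
    intro θ hθ
    rw [isPBlock_eq_blockOf hc hθ₀] at hθ
    exact hθ
  have heq : e = idem (covers N c) := by
    rcases omegaHom_eq_zero_or_one hyy θ₀ with h0 | h0
    · exfalso
      have hall : ∀ θ ∈ c, omegaHom θ y₀ = 0 := by
        intro θ hθ
        rcases omegaHom_eq_zero_or_one hyy θ with h2 | h2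
        · exact h2
        · have := I_of_sameBlock' hyl hyy (sameBlock_symm (hsame θ hθ)) h2
          rw [h0] at this
          exact absurd this zero_ne_one
      have hz : y₀ * idem c = 0 := by
        apply eq_zero_of_omegaHom_eq_zero
        intro θ
        rw [map_mul, omegaHom_idem]
        split_ifs with h
        · rw [hall θ h, mul_one]
        · rw [mul_zero]
      rw [hz] at hincl
      have h3 : e * idem (covers N c) = 0 := by
        apply Subtype.ext
        rw [← hincl]
        exact Cfsg.Agent.Lib.BlockH.Subpair.incl_zero' (K := N)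
      rw [heE] at h3
      have h5 := congrArg (omegaHom χ) h3
      rw [he, omegaHom_idem, if_pos (mem_blockOf_self χ), map_zero] at h5
      exact one_ne_zero h5
    · have hall : ∀ θ ∈ c, omegaHom θ y₀ = 1 := fun θ hθ => I_of_sameBlock' hyl hyy (hsame θ hθ) h0
      have hz : y₀ * idem c = idem c := by
        apply omegaHom_injective
        intro θ
        rw [map_mul, omegaHom_idem]
        split_ifs with h
        · rw [hall θ h, mul_one]
        · rw [mul_zero]
      rw [hz, hE] at hincl
      have h3 : e * idem (covers N c) = idem (covers N c) := (Subtype.ext hincl).symm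
      rw [← heE, h3]
  ext ψ
  have h1 := omegaHom_idem B ψ
  have h2 := omegaHom_idem (covers N c) ψ
  rw [← he, heq] at h1
  rw [h1] at h2
  constructor
  · intro hψ
    by_contra h3
    rw [if_pos hψ, if_neg h3] at h2
    exact one_ne_zero h2
  · intro hψ
    by_contra h3
    rw [if_pos hψ, if_neg h3] at h2
    exact zero_ne_one h2

/-- Data at a defect class. -/
theorem defect_class_covers {p : ℕ} [hp : Fact p.Prime] (hM : IsPModular p M) (hinv : IsInv hN c)
    (hc : IsPBlock M c) {y : G} (hy : IsDefectClass M (covers N c) y) :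
    ∃ hyN : y ∈ N, ∃ m : ℕ, ¬ p ∣ m ∧ IsDefectClass M c ⟨y, hyN⟩ ∧
      Nat.card (Subgroup.centralizer ({y} : Set G)) * m =
        Nat.card (Subgroup.centralizer ({(⟨y, hyN⟩ : N)} : Set N)) * N.index := by
  classical
  letI := Fintype.ofFinite (ConjClasses N)
  have hco := blockCoeff_covers hN hinv hc y
  have hyN : y ∈ N := by
    by_contra h
    have := hy.2.1
    rw [hco, extendByZero_of_not_mem N _ h] at this
    exact this memLocalIdeal_zero
  rw [extendByZero_of_mem N _ hyN] at hco
  let n : N := ⟨y, hyN⟩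
  obtain ⟨θ, hθ⟩ := isPBlock_nonempty hc
  obtain ⟨χ, hχ⟩ := exists_irr_over (G := G) θ
  have hχc : χ ∈ covers N c := ⟨θ, hθ, hχ⟩
  have h1 := hy.2.2 χ hχc
  have h2 := centralChar_eq_of_constituent hN χ.2 θ.2 hχ n
  have h3 := inducedCentralChar_sub_mem hN (M := M) hinv hc hθ n
  have hcloc : MemLocalRing M (centralChar (θ : N → ℂ) n) :=
    memLocalRing_of_isIntegral (isIntegral_centralChar θ n)
  have h4 : ¬ MemLocalIdeal M (((Ycl N n).card : ℂ) * centralChar (θ : N → ℂ) n) := by
    intro h0
    apply h1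
    have h5 : centralChar (χ : G → ℂ) y = inducedCentralChar N (θ : N → ℂ) (n : G) := h2
    rw [h5]
    have := memLocalIdeal_add h3 h0
    rwa [sub_add_cancel] at this
  have h6 : ¬ MemLocalIdeal M (centralChar (θ : N → ℂ) n) := fun h0 =>
    h4 (memLocalIdeal_mul_left (memLocalRing_natCast _) h0)
  refine ⟨hyN, (Ycl N n).card, ?_, ⟨?_, ?_, ?_⟩, ?_⟩
  · intro hd
    apply h4
    exact memLocalIdeal_mul_right ((natCast_memLocalIdeal_iff hM _).mpr hd) hcloc
  · have := hy.1
    rwa [hco] at this
  · have := hy.2.1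
    rwa [hco] at this
  · intro θ' hθ' h0
    apply h6
    have hs : SameBlock M (θ : N → ℂ) (θ' : N → ℂ) := by
      rw [isPBlock_eq_blockOf hc hθ] at hθ'
      exact hθ'
    have := memLocalIdeal_add (hs n) h0
    rwa [sub_add_cancel] at this
  · have h7 := card_class_eq hN n
    have h8 := Subgroup.card_mul_index (Subgroup.centralizer ({y} : Set G))
    have h9 := Subgroup.card_mul_index (Subgroup.centralizer ({n} : Set N))
    have h10 := Subgroup.card_mul_index N
    set A := Nat.card (Subgroup.centralizer ({y} : Set G))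
    set C := Nat.card (Subgroup.centralizer ({n} : Set N))
    set i := (Subgroup.centralizer ({n} : Set N)).index
    have h7' : (Subgroup.centralizer ({y} : Set G)).index = (Ycl N n).card * i := h7
    rw [h7'] at h8
    have hi : i ≠ 0 := by
      intro h0
      rw [h0, mul_zero] at h9
      exact Nat.card_pos.ne' h9.symm
    apply Nat.eq_of_mul_eq_mul_right (Nat.pos_of_ne_zero hi)
    calc A * (Ycl N n).card * i = A * ((Ycl N n).card * i) := by ring
      _ = Nat.card G := h8
      _ = Nat.card N * N.index := h10.symm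
      _ = C * i * N.index := by rw [h9]
      _ = C * N.index * i := by ring

/-- **Defect groups of the block over a stable block of a normal subgroup of `p`-power index.** -/
theorem sup_eq_top_and_isDefectGroup {p k : ℕ} [hp : Fact p.Prime] (hM : IsPModular p M) (hinv : IsInv hN c)
    (hc : IsPBlock M c) (hNi : N.index = p ^ k) {P : Subgroup G} (hP : IsDefectGroup p M (covers N c) P) :
    N ⊔ P = ⊤ ∧ IsDefectGroup p M c ((P ⊓ N).subgroupOf N) := by
  classical
  haveI : N.Normal := hN
  obtain ⟨y, hy, hPy⟩ := isDefectGroup_isSylowIn hP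
  obtain ⟨hyN, m, hm, hdef, hnum⟩ := defect_class_covers hN hM hinv hc hy
  set n : N := ⟨y, hyN⟩ with hn
  set C := Nat.card (Subgroup.centralizer ({n} : Set N)) with hC
  set A := Nat.card (Subgroup.centralizer ({y} : Set G)) with hA
  have hCne : C ≠ 0 := Nat.card_pos.ne'
  have hAne : A ≠ 0 := Nat.card_pos.ne'
  have hval : A.factorization p = C.factorization p + k := by
    have hm0 : m ≠ 0 := fun h => hm (h ▸ dvd_zero p)
    have h1 : (A * m).factorization p = (C * N.index).factorization p := by rw [hnum]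
    rw [Nat.factorization_mul hAne hm0, Nat.factorization_mul hCne (by rw [hNi]; exact pow_ne_zero _ hp.out.ne_zero), hNi,
      Nat.factorization_pow] at h1
    simp only [Finsupp.add_apply, Finsupp.smul_apply, smul_eq_mul] at h1
    rw [Nat.Prime.factorization_self hp.out, Nat.factorization_eq_zero_of_not_dvd hm, add_zero, mul_one] at h1
    exact h1
  have hPcard : Nat.card P = p ^ (C.factorization p + k) := by
    rw [hPy.card_eq, ← hA, hval]
  -- bounds
  have hRp : IsPGroup p (P ⊓ N : Subgroup G) := hPy.isPGroup.to_le inf_le_left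
  have hRle : (P ⊓ N : Subgroup G).subgroupOf N ≤ Subgroup.centralizer ({n} : Set N) := by
    intro r hr
    have h1 := hPy.le (Subgroup.mem_subgroupOf.mp hr).1
    simp only [Subgroup.mem_centralizer_iff, Set.mem_singleton_iff, forall_eq] at h1 ⊢
    exact Subtype.ext h1
  have hRcard : Nat.card ((P ⊓ N : Subgroup G).subgroupOf N) = Nat.card (P ⊓ N : Subgroup G) :=
    Nat.card_congr (Subgroup.subgroupOfEquivOfLe inf_le_right).toEquiv
  have hRd : Nat.card (P ⊓ N : Subgroup G) ∣ C := by
    rw [← hRcard]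
    have := Subgroup.card_dvd_of_le hRle
    exact this
  obtain ⟨j, hj⟩ := (IsPGroup.iff_card.mp hRp)
  have hja : j ≤ C.factorization p := by
    have h1 : p ^ j ∣ C := by rw [← hj]; exact hRd
    exact (hp.out.pow_dvd_iff_le_factorization hCne).mp h1
  have hrel : N.relIndex P ∣ p ^ k := by
    rw [← hNi]
    exact Subgroup.relIndex_dvd_index_of_normal N P
  obtain ⟨l, hl, hlk⟩ := (Nat.dvd_prime_pow hp.out).mp hrel
  have hprod : Nat.card (P ⊓ N : Subgroup G) * N.relIndex P = Nat.card P := by
    have h1 := Subgroup.card_mul_index (N.subgroupOf P)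
    have h2 : Nat.card (N.subgroupOf P) = Nat.card (P ⊓ N : Subgroup G) := by
      rw [inf_comm]
      have : N.subgroupOf P = (N ⊓ P).subgroupOf P := by
        rw [Subgroup.inf_subgroupOf_right]
      rw [this]
      exact Nat.card_congr (Subgroup.subgroupOfEquivOfLe inf_le_right).toEquiv
    rw [h2] at h1
    exact h1
  rw [hj, hlk, hPcard, ← pow_add] at hprod
  have heq := Nat.pow_right_injective hp.out.two_le hprod
  have hj' : j = C.factorization p := by omega
  have hl' : l = k := by omega
  constructor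
  · have h1 : (N ⊔ P).index * N.relIndex (N ⊔ P) = N.index := by
      rw [mul_comm]
      exact Subgroup.relIndex_mul_index le_sup_left
    rw [Subgroup.relIndex_sup_left, hlk, hl', hNi] at h1
    have h2 : (N ⊔ P).index = 1 := by
      have hpos : 0 < p ^ k := pow_pos hp.out.pos k
      exact Nat.eq_of_mul_eq_mul_right hpos (by rw [h1, one_mul])
    exact Subgroup.index_eq_one.mp h2
  · refine isDefectGroup_of_isSylowIn hdef (isSylowIn_of_card hRle ?_)
    rw [hRcard, hj, hj']

theorem isInv_of_stabilizes (hst : ∀ x : G, StabilizesBlock N c x) : IsInv hN c := by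
  intro t θ hθ
  obtain ⟨-, h⟩ := hst t⁻¹
  obtain ⟨χ', hχ', hconj⟩ := h θ hθ
  have : χ' = conjIrr hN t θ := by
    apply Subtype.ext
    funext m
    show _ = Cfsg.Agent.Lib.Char.Conj.conjOn hN t θ m
    rw [Cfsg.Agent.Lib.Char.Conj.conjOn_apply]
    apply hconj
    simp only [Subgroup.coe_mk, inv_inv]
    group
  rwa [← this]

theorem extendByZero_eq_subgroupBlockCoeff (c : Set (IrrCharacter N)) (g : G) :
    Cfsg.extendByZero N (blockCoeff c) g = subgroupBlockCoeff N c g := by
  classical
  by_cases hg : g ∈ N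
  · rw [extendByZero_of_mem N _ hg]
    simp only [subgroupBlockCoeff, dif_pos hg]
  · rw [extendByZero_of_not_mem N _ hg]
    simp only [subgroupBlockCoeff, dif_neg hg]

theorem eq_of_blockCoeff_eq {A A' : Set (IrrCharacter G)} (h : ∀ g, blockCoeff A g = blockCoeff A' g) :
    A = A' := by
  classical
  have h0 : idem A = idem A' := by
    apply Subtype.ext
    ext g
    rw [coeff_idem, coeff_idem, h]
  ext ψ
  have h1 := omegaHom_idem A ψ
  have h2 := omegaHom_idem A' ψ
  rw [h0] at h1
  rw [h1] at h2
  constructor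
  · intro hψ
    by_contra h3
    rw [if_pos hψ, if_neg h3] at h2
    exact one_ne_zero h2
  · intro hψ
    by_contra h3
    rw [if_pos hψ, if_neg h3] at h2
    exact zero_ne_one h2

include hN in
/-- S4672. -/
theorem pindex_main {p k : ℕ} [hp : Fact p.Prime] (hM : IsPModular p M) (hNi : N.index = p ^ k)
    (hc : IsPBlock M c) (hst : ∀ x : G, StabilizesBlock N c x) :
    (∃ B : Set (IrrCharacter G), IsPBlock M B ∧ ∀ g : G, blockCoeff B g = subgroupBlockCoeff N c g) ∧
      ∀ B : Set (IrrCharacter G), IsPBlock M B → (∀ g : G, blockCoeff B g = subgroupBlockCoeff N c g) →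
        ∀ P : Subgroup G, IsDefectGroup p M B P →
          N ⊔ P = ⊤ ∧ IsDefectGroup p M c ((P ⊓ N).subgroupOf N) := by
  have hinv := isInv_of_stabilizes hN hst
  constructor
  · obtain ⟨θ, hθ⟩ := isPBlock_nonempty hc
    obtain ⟨χ, hχ⟩ := exists_irr_over (G := G) θ
    have hχc : χ ∈ covers N c := ⟨θ, hθ, hχ⟩
    have hB : blockOf M (χ : G → ℂ) = covers N c := by
      refine blockOf_eq_covers hN hinv hc hχc fun g hg => ?_
      refine Cfsg.Agent.Lib.BlockP.Stable.blockCoeff_eq_zero hM ⟨χ, rfl⟩ ?_
      by_contra h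
      exact hg (mem_of_coprime hN hNi h)
    refine ⟨blockOf M (χ : G → ℂ), ⟨χ, rfl⟩, fun g => ?_⟩
    rw [hB, blockCoeff_covers hN hinv hc, extendByZero_eq_subgroupBlockCoeff]
  · intro B hB hco P hP
    have hBe : B = covers N c := eq_of_blockCoeff_eq fun g => by
      rw [hco, blockCoeff_covers hN hinv hc, extendByZero_eq_subgroupBlockCoeff]
    subst hBe
    exact sup_eq_top_and_isDefectGroup hN hM hinv hc hNi hP

end Cfsg.Agent.Lib.Blocks.PIndex
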